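import Cfsg.Agent.Lib.J4Type.Interface
import Cfsg.Agent.Lib.Solvable.PCore

/-!
Elementary consequences of a frame: linear maps as lists, commutators in the radical, the scalar
element of order three, and the lifts of linear maps into the centraliser of `P`.
-/

set_option autoImplicit false
set_option linter.unusedSectionVars false

namespace CfsgLib.J4Type

open Cfsg Subgroup

/-! ### Linear maps as lists -/

theorem nat_beq_eq (a b : ℕ) : Nat.beq a b = decide (a = b) := by
  by_cases h : a = b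
  · simp [h, Nat.beq_refl]
  · simp only [h, decide_false]
    exact Bool.eq_false_iff.2 fun h' => h (Nat.eq_of_beq_eq_true h')

theorem mv_zero : ∀ l : List ℕ, mv l 0 = 0
  | [] => rfl
  | a :: l => by
    show (bif Nat.beq (0 % 2) 1 then a ^^^ mv l (0 / 2) else mv l (0 / 2)) = 0
    simpa [nat_beq_eq] using mv_zero l

theorem mv_xor : ∀ (l : List ℕ) (v w : ℕ), mv l (v ^^^ w) = mv l v ^^^ mv l w
  | [], _, _ => by simp [mv]
  | a :: l, v, w => by
    simp only [mv]
    rw [Nat.xor_div_two, mv_xor l (v / 2) (w / 2)]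
    have h2 : (v ^^^ w) % 2 = (v % 2 + w % 2) % 2 := by
      have h := Nat.xor_mod_two_eq_one (a := v) (b := w)
      rcases Nat.mod_two_eq_zero_or_one v with hv | hv <;>
        rcases Nat.mod_two_eq_zero_or_one w with hw | hw <;>
        rcases Nat.mod_two_eq_zero_or_one (v ^^^ w) with hx | hx <;> simp_all
    rcases Nat.mod_two_eq_zero_or_one v with hv | hv <;>
      rcases Nat.mod_two_eq_zero_or_one w with hw | hw <;>
      simp [h2, hv, hw, nat_beq_eq, Nat.xor_assoc, Nat.xor_comm, Nat.xor_left_comm]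

theorem mv_mm (a : List ℕ) : ∀ (b : List ℕ) (v : ℕ), mv (mm a b) v = mv a (mv b v)
  | [], _ => by simp [mm, mv, mv_zero]
  | x :: b, v => by
    have ih := mv_mm a b (v / 2)
    simp only [mm, List.map_cons, mv] at *
    rcases Nat.mod_two_eq_zero_or_one v with hv | hv <;> simp [hv, nat_beq_eq, mv_xor, ih]

theorem idM_check : (List.range 4096).all (fun v => Nat.beq (mv idM v) v) = true := by
  decide +kernel

theorem mv_idM {v : ℕ} (hv : v < 4096) : mv idM v = v :=
  Nat.eq_of_beq_eq_true (List.all_eq_true.1 idM_check v (List.mem_range.2 hv))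

/-- Equality of two linear maps on all vectors from equality on a basis. -/
theorem lin_ext {f g : ℕ → ℕ} {n : ℕ} (hf : ∀ a b, a < 2 ^ n → b < 2 ^ n → f (a ^^^ b) = f a ^^^ f b)
    (hg : ∀ a b, a < 2 ^ n → b < 2 ^ n → g (a ^^^ b) = g a ^^^ g b)
    (h : ∀ i < n, f (2 ^ i) = g (2 ^ i)) : ∀ v < 2 ^ n, f v = g v := by
  suffices ∀ k ≤ n, ∀ v < 2 ^ k, f v = g v from this n le_rfl
  intro k
  induction k with
  | zero =>
    intro _ v hv
    have : v = 0 := by simpa using hv
    subst this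
    have f0 := hf 0 0 (Nat.two_pow_pos n) (Nat.two_pow_pos n)
    have g0 := hg 0 0 (Nat.two_pow_pos n) (Nat.two_pow_pos n)
    simp only [Nat.xor_self] at f0 g0
    omega
  | succ k ih =>
    intro hk v hv
    by_cases hvk : v < 2 ^ k
    · exact ih (by omega) v hvk
    · have hw : v ^^^ 2 ^ k < 2 ^ k := by
        refine Nat.lt_of_testBit k ?_ (Nat.testBit_two_pow_self) ?_
        · have : v.testBit k = true := by
            by_contra hb
            apply hvk
            refine Nat.lt_pow_two_of_testBit v fun i hi => ?_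
            rcases Nat.lt_or_ge k i with hlt | hge
            · exact Nat.testBit_lt_two_pow (lt_of_lt_of_le hv (Nat.pow_le_pow_right (by norm_num) hlt))
            · have : i = k := le_antisymm hge hi
              subst this; simpa using hb
          simp [Nat.testBit_xor, this, Nat.testBit_two_pow_self]
        · intro j hj
          have : v.testBit j = false :=
            Nat.testBit_lt_two_pow (lt_of_lt_of_le hv (Nat.pow_le_pow_right (by norm_num) hj))
          simp [Nat.testBit_xor, this, Nat.testBit_two_pow, (Nat.ne_of_lt hj)]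
      have hkn : 2 ^ k < 2 ^ n := Nat.pow_lt_pow_right (by norm_num) (by omega)
      have hwn : v ^^^ 2 ^ k < 2 ^ n := lt_trans hw hkn
      have e : v = (v ^^^ 2 ^ k) ^^^ 2 ^ k := by rw [Nat.xor_assoc, Nat.xor_self, Nat.xor_zero]
      rw [e, hf _ _ hwn hkn, hg _ _ hwn hkn, ih (by omega) _ hw, h k (by omega)]

theorem length_inL : ∀ {m : List ℕ}, InL m → m.length = 12
  | _, .one => rfl
  | _, .mul g _ h => by simp [mm, length_inL h]

theorem mv_two_pow : ∀ (l : List ℕ) (i : ℕ), i < l.length → mv l (2 ^ i) = l.getD i 0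
  | [], i, h => by simp at h
  | a :: l, 0, _ => by simp [mv, nat_beq_eq, mv_zero]
  | a :: l, i + 1, h => by
    have e : 2 ^ (i + 1) % 2 = 0 := by rw [pow_succ]; omega
    have e2 : 2 ^ (i + 1) / 2 = 2 ^ i := by rw [pow_succ]; omega
    simp only [mv, e, e2, nat_beq_eq, List.getD_cons_succ]
    simpa using mv_two_pow l i (by simpa using h)

theorem list_ext_mv {a b : List ℕ} (ha : a.length = 12) (hb : b.length = 12)
    (h : ∀ i < 12, mv a (2 ^ i) = mv b (2 ^ i)) : a = b := by
  refine List.ext_getElem (by omega) fun i hi hi' => ?_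
  have := h i (by omega)
  rw [mv_two_pow a i hi, mv_two_pow b i hi', List.getD_eq_getElem _ _ hi,
    List.getD_eq_getElem _ _ hi'] at this
  exact this

/-! ### Frames -/

variable {G : Type*} [Group G] {z : G} {P : Subgroup G}

theorem mem_Cen {g : G} : g ∈ Cen z ↔ g * z = z * g := by
  rw [Subgroup.mem_centralizer_singleton_iff, eq_comm]

theorem rad_le_Cen : Rad z ≤ Cen z := Subgroup.map_subtype_le _

namespace Frame

variable (F : Frame z P)
include F

theorem orderOf_z : orderOf z = 2 := F.type.1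

theorem z_mul_z : z * z = 1 := by
  have := pow_orderOf_eq_one z
  rwa [F.orderOf_z, pow_two] at this

theorem z_ne : z ≠ 1 := fun h => by
  have := F.orderOf_z
  simp [h] at this

theorem z_comm {g : G} (hg : g ∈ Cen z) : g * z = z * g := mem_Cen.1 hg

theorem z_mem_cen : z ∈ Cen z := mem_Cen.2 rfl

theorem inf_centralizer : Rad z ⊓ centralizer (P : Set G) = zpowers z := F.type.2.2.2.2.2.2.1

theorem z_mem_rad : z ∈ Rad z :=
  (F.inf_centralizer.ge (mem_zpowers z)).1

theorem z_mem_centP : z ∈ centralizer (P : Set G) :=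
  (F.inf_centralizer.ge (mem_zpowers z)).2

theorem P_le : P ≤ Cen z := by
  obtain ⟨N, -, hN, -, -, -, hP⟩ := F.type.2.2.2.2.1
  exact hP.trans hN

theorem card_P : Nat.card P = 3 := F.type.2.2.2.2.2.1

theorem P_comm {a b : G} (ha : a ∈ P) (hb : b ∈ P) : a * b = b * a := by
  haveI : Fact (Nat.Prime 3) := ⟨by norm_num⟩
  haveI := isCyclic_of_prime_card F.card_P
  exact congrArg Subtype.val ((IsCyclic.isMulCommutative (α := P)).is_comm.comm (⟨a, ha⟩ : P) ⟨b, hb⟩)

theorem P_le_CP : P ≤ CP z P := fun _ ha =>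
  ⟨F.P_le ha, mem_centralizer_iff.2 fun _ hb => F.P_comm hb ha⟩

theorem co_one : F.co 1 = 0 := (F.co_eq_zero 1 (one_mem _)).2 (Or.inl rfl)

theorem co_z : F.co z = 0 := (F.co_eq_zero z F.z_mem_rad).2 (Or.inr rfl)

theorem co_inv {x : G} (hx : x ∈ Rad z) : F.co x⁻¹ = F.co x := by
  have h := F.co_mul x hx x⁻¹ (inv_mem hx)
  rw [mul_inv_cancel, F.co_one] at h
  exact (Nat.xor_eq_zero_iff.1 h.symm).symm

theorem eq_or_eq_mul_z {x y : G} (hx : x ∈ Rad z) (hy : y ∈ Rad z) (h : F.co x = F.co y) :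
    x = y ∨ x = y * z := by
  have h0 : F.co (y⁻¹ * x) = 0 := by
    rw [F.co_mul _ (inv_mem hy) _ hx, F.co_inv hy, h, Nat.xor_self]
  rcases (F.co_eq_zero _ (mul_mem (inv_mem hy) hx)).1 h0 with e | e
  · exact Or.inl (inv_mul_eq_one.1 e).symm
  · exact Or.inr (inv_mul_eq_iff_eq_mul.1 e)

theorem co_mul_z {x : G} (hx : x ∈ Rad z) : F.co (x * z) = F.co x := by
  rw [F.co_mul x hx z F.z_mem_rad, F.co_z, Nat.xor_zero]

theorem z_comm_rad {x : G} (hx : x ∈ Rad z) : x * z = z * x := F.z_comm (rad_le_Cen hx)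

/-- The commutator in the radical is the alternating form. -/
theorem comm_rad {x y : G} (hx : x ∈ Rad z) (hy : y ∈ Rad z) :
    x * y = y * x * (if bF (F.co x) (F.co y) then z else 1) := by
  have hxy := mul_mem hx hy
  have s1 := F.sq _ hxy
  have s2 := F.sq _ hx
  have s3 := F.sq _ hy
  rw [F.co_mul x hx y hy] at s1
  have key : y * x = x⁻¹ * (x * y * (x * y)) * y⁻¹ := by group
  have zx := F.z_comm_rad hx
  have zy := F.z_comm_rad hy
  rw [key, s1]
  have hbF : bF (F.co x) (F.co y) =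
      (qF (F.co x ^^^ F.co y)).xor ((qF (F.co x)).xor (qF (F.co y))) := rfl
  rw [hbF]
  have zz := F.z_mul_z
  have zc : ∀ w ∈ Rad z, z * w = w * z := fun w hw => (F.z_comm_rad hw).symm
  rcases Bool.eq_false_or_eq_true (qF (F.co x ^^^ F.co y)) with a | a <;>
    rcases Bool.eq_false_or_eq_true (qF (F.co x)) with b | b <;>
    rcases Bool.eq_false_or_eq_true (qF (F.co y)) with c | c <;>
    simp only [a, b, c, Bool.xor_false, Bool.xor_true, Bool.not_true, Bool.not_false,
      if_true, Bool.false_eq_true, if_false] at s2 s3 ⊢ <;>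
    · have hxi : x⁻¹ = x * (x * x)⁻¹ := by group
      have hyi : y⁻¹ = y * (y * y)⁻¹ := by group
      rw [hxi, hyi, s2, s3]
      simp only [inv_one, mul_one, one_mul, inv_eq_of_mul_eq_one_right zz, mul_assoc]
      try simp only [← mul_assoc, zc _ hy, zc _ hx]
      try simp only [mul_assoc, zz, mul_one]

theorem conj_co {h x : G} (hh : h ∈ Cen z) (hx : x ∈ Rad z) :
    F.co (h * x * h⁻¹) = mv (F.mat h) (F.co x) := F.conj h hh x hx

theorem mat_length {h : G} (hh : h ∈ Cen z) : (F.mat h).length = 12 :=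
  length_inL (F.mat_inL h hh)

theorem mat_one : F.mat 1 = idM := (F.mat_eq_id 1 (one_mem _)).2 (one_mem _)

theorem mat_z : F.mat z = idM := (F.mat_eq_id z F.z_mem_cen).2 F.z_mem_rad

theorem mat_pow {h : G} (hh : h ∈ Cen z) (n : ℕ) :
    F.mat (h ^ (n + 1)) = (List.replicate n (F.mat h)).foldr mm (F.mat h) := by
  induction n with
  | zero => simp
  | succ n ih =>
    rw [pow_succ', F.mat_mul h hh _ (pow_mem hh _), ih, List.replicate_succ, List.foldr_cons]

theorem rad_conj {h x : G} (hh : h ∈ Cen z) (hx : x ∈ Rad z) : h * x * h⁻¹ ∈ Rad z := by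
  obtain ⟨y, hy, e⟩ := Subgroup.mem_map.1 hx
  have hn := CfsgLib.Solvable.pCore_normal 2 ↥(Cen z)
  refine Subgroup.mem_map.2 ⟨⟨h, hh⟩ * y * (⟨h, hh⟩ : ↥(Cen z))⁻¹, hn.conj_mem y hy _, ?_⟩
  rw [map_mul, map_mul, map_inv, e]
  rfl

/-- A generator of `P` acting as the scalar. -/
noncomputable def p0 : G := F.mat_scalar.choose

theorem p0_mem : F.p0 ∈ P := F.mat_scalar.choose_spec.1

theorem mat_p0 : F.mat F.p0 = pOm := F.mat_scalar.choose_spec.2

theorem zpowers_p0 : zpowers F.p0 = P := by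
  haveI : Fact (Nat.Prime 3) := ⟨by norm_num⟩
  have hne : F.p0 ≠ 1 := fun e => by
    have := F.mat_p0
    rw [e, F.mat_one] at this
    exact absurd this (by decide)
  have := zpowers_eq_top_of_prime_card F.card_P (g := (⟨F.p0, F.p0_mem⟩ : P))
    (fun e => hne (congrArg Subtype.val e))
  refine le_antisymm (zpowers_le.2 F.p0_mem) fun x hx => ?_
  obtain ⟨k, hk⟩ := mem_zpowers_iff.1 (this.ge (mem_top (⟨x, hx⟩ : P)))
  exact mem_zpowers_iff.2 ⟨k, by simpa using congrArg Subtype.val hk⟩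

theorem mem_centP_iff {g : G} : g ∈ centralizer (P : Set G) ↔ g * F.p0 = F.p0 * g := by
  rw [mem_centralizer_iff]
  constructor
  · exact fun h => (h _ F.p0_mem).symm
  · intro h x hx
    replace hx : x ∈ zpowers F.p0 := F.zpowers_p0.ge hx
    obtain ⟨k, rfl⟩ := mem_zpowers_iff.1 hx
    exact ((show Commute g F.p0 from h).zpow_right k).symm.eq

theorem p0_mem_cen : F.p0 ∈ Cen z := F.P_le F.p0_mem

theorem p0_cube : F.p0 ^ 3 = 1 := by
  have h := pow_card_eq_one' (x := (⟨F.p0, F.p0_mem⟩ : P))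
  rw [F.card_P] at h
  simpa using congrArg Subtype.val h

/-- A normalising element whose matrix commutes with the scalar centralises `P`. -/
theorem mem_CP_of_comm {h : G} (hh : h ∈ Cen z) (hn : h ∈ normalizer (P : Set G))
    (hm : mm (F.mat h) pOm = mm pOm (F.mat h)) : h ∈ CP z P := by
  refine ⟨hh, F.mem_centP_iff.2 ?_⟩
  have hc : h * F.p0 * h⁻¹ ∈ P := (mem_normalizer_iff.1 hn _).1 F.p0_mem
  replace hc : h * F.p0 * h⁻¹ ∈ zpowers F.p0 := F.zpowers_p0.ge hc
  obtain ⟨k, hk⟩ := (isOfFinOrder_iff_pow_eq_one.2 ⟨3, by norm_num, F.p0_cube⟩).mem_powers_iff_mem_zpowers.2 hc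
  change F.p0 ^ k = h * F.p0 * h⁻¹ at hk
  rw [pow_eq_pow_mod k F.p0_cube] at hk
  have hlt := Nat.mod_lt k (show 0 < 3 by norm_num)
  have e1 : F.p0 ^ (k % 3) * h = h * F.p0 := by
    rw [show F.p0 ^ (k % 3) = h * F.p0 * h⁻¹ from hk]; group
  have e2 := congrArg F.mat e1
  rw [F.mat_mul _ (pow_mem F.p0_mem_cen _) _ hh, F.mat_mul _ hh _ F.p0_mem_cen, F.mat_p0, hm] at e2
  have e3 : ∀ v, mv (F.mat (F.p0 ^ (k % 3))) (mv (F.mat h) v) = mv pOm (mv (F.mat h) v) := fun v => by
    rw [← mv_mm, ← mv_mm, e2]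
  interval_cases hk3 : k % 3
  · exfalso
    rw [pow_zero] at e1
    have : F.p0 = 1 := by
      have := congrArg (h⁻¹ * ·) e1
      simpa using this.symm
    have hp := F.mat_p0
    rw [this, F.mat_one] at hp
    exact absurd hp (by decide)
  · simpa using e1.symm
  · exfalso
    obtain ⟨x, hx, hx1⟩ := F.co_surj 1 (by norm_num)
    have hs : mv (F.mat h) (F.co (h⁻¹ * x * h)) = 1 := by
      rw [← F.conj_co hh (by simpa using F.rad_conj (inv_mem hh) hx)]
      rw [← hx1]; congr 1; group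
    have := e3 (F.co (h⁻¹ * x * h))
    rw [hs, pow_succ, pow_one, F.mat_mul _ F.p0_mem_cen _ F.p0_mem_cen, F.mat_p0, mv_mm] at this
    exact absurd this (by decide)

/-- A lift into the centraliser of `P` of a matrix commuting with the scalar. -/
theorem exists_lift {m : List ℕ} (hm : InL m) (hc : mm m pOm = mm pOm m) :
    ∃ h ∈ CP z P, F.mat h = m := by
  obtain ⟨h, ⟨h1, h2⟩, rfl⟩ := F.mat_surj m hm
  exact ⟨h, F.mem_CP_of_comm h1 h2 hc, rfl⟩

theorem mem_rad_centP {x : G} (hx : x ∈ Rad z) (hp : x ∈ centralizer (P : Set G)) :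
    x = 1 ∨ x = z := by
  have h : x ∈ zpowers z := F.inf_centralizer.le ⟨hx, hp⟩
  obtain ⟨k, hk⟩ := (isOfFinOrder_iff_pow_eq_one.2 ⟨2, by norm_num, by rw [pow_two, F.z_mul_z]⟩).mem_powers_iff_mem_zpowers.2 h
  change z ^ k = x at hk
  rw [pow_eq_pow_mod k (show z ^ 2 = 1 by rw [pow_two, F.z_mul_z])] at hk
  rcases Nat.mod_two_eq_zero_or_one k with e | e <;> simp [e] at hk
  · exact Or.inl hk.symm
  · exact Or.inr hk.symm

end Frame

end CfsgLib.J4Type
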