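import Cfsg.Agent.Lib.J4Type.NV.Trees
import Cfsg.Agent.Lib.J4Type.NV.Basic

/-!
Finite facts about the orbits on the module: spanning trees, possible class sizes, valencies.
-/

set_option autoImplicit false
set_option maxRecDepth 100000
set_option Elab.async false

namespace CfsgLib.J4Type.NV

/-- The matrices of a variant. -/
def gensV (cv : Bool) : List (List ℕ) := bif cv then gensCover else gensSplit

/-- The tree of a variant. -/
def treeV (cv : Bool) : List ℕ := bif cv then treeCover else treeSplit

/-- The vector of an edge. -/
def eVec (e : ℕ) : ℕ := e % 2048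
/-- The parent of an edge. -/
def ePar (e : ℕ) : ℕ := (e / 2048) % 2048
/-- The generator of an edge. -/
def eGen (e : ℕ) : ℕ := e / 4194304

/-- The six orbit masks of a variant. -/
def masks (cv : Bool) : List ℕ :=
  [orbZ, orbOval, orbSext, bif cv then orbLow else orbLowSplit, orbBig,
    bif cv then orbHigh else orbHighSplit]

/-- The six roots. -/
def roots : List ℕ := [64, 1, 5, 128, 129, 132]

/-- The number of the orbit of a vector. -/
def colour (cv : Bool) (v : ℕ) : ℕ :=
  bif orbZ.testBit v then 0 else bif orbOval.testBit v then 1 else bif orbSext.testBit v then 2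
  else bif (bif cv then orbLow else orbLowSplit).testBit v then 3
  else bif orbBig.testBit v then 4 else 5

/-- Walking along the edges: the mask of reached vectors, or zero on a bad edge. -/
def walk (cv : Bool) : List ℕ → ℕ → ℕ
  | [], m => m
  | e :: l, m => bif m.testBit (ePar e) && Nat.blt (eGen e) 9 &&
      Nat.beq (mv ((gensV cv).getD (eGen e) []) (ePar e)) (eVec e) &&
      Nat.beq (colour cv (eVec e)) (colour cv (ePar e)) then walk cv l (m ||| 1 <<< eVec e) else 0

/-- The mask of the roots. -/
def rootMask : ℕ := roots.foldr (fun r m => m ||| 1 <<< r) 0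

theorem walk_full : ∀ cv : Bool, walk cv (treeV cv) rootMask = 2 ^ 2048 - 2 := by decide +kernel

theorem roots_colour : ∀ cv : Bool, ∀ r ∈ roots, roots.getD (colour cv r) 0 = r := by decide +kernel

theorem colour_lt (cv : Bool) (v : ℕ) : colour cv v < 6 := by
  unfold colour
  cases orbZ.testBit v <;> cases orbOval.testBit v <;> cases orbSext.testBit v <;>
    cases (bif cv then orbLow else orbLowSplit).testBit v <;> cases orbBig.testBit v <;> simp

theorem testBit_rootMask : ∀ v < 2048, rootMask.testBit v = true → v ∈ roots := by decide +kernel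

/-- A property invariant under the generators is constant on the orbits. -/
theorem const_on_colour {cv : Bool} (f : ℕ → Bool)
    (h : ∀ k < 9, ∀ v < 2048, f (mv ((gensV cv).getD k []) v) = f v) :
    ∀ v < 2048, v ≠ 0 → f v = f (roots.getD (colour cv v) 0) := by
  have key : ∀ (l : List ℕ) (m : ℕ),
      (∀ v < 2048, m.testBit v = true → f v = f (roots.getD (colour cv v) 0)) →
      ∀ v < 2048, (walk cv l m).testBit v = true → f v = f (roots.getD (colour cv v) 0) := by
    intro l
    induction l with
    | nil => exact fun m hm v hv ht => hm v hv ht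
    | cons e l ih =>
      intro m hm v hv ht
      rw [walk] at ht
      cases hc : (m.testBit (ePar e) && Nat.blt (eGen e) 9 &&
          Nat.beq (mv ((gensV cv).getD (eGen e) []) (ePar e)) (eVec e) &&
          Nat.beq (colour cv (eVec e)) (colour cv (ePar e))) with
      | false => rw [hc, cond_false] at ht; simp at ht
      | true =>
        rw [hc, cond_true] at ht
        simp only [Bool.and_eq_true] at hc
        obtain ⟨⟨⟨h1, h2⟩, h3⟩, h4⟩ := hc
        refine ih _ (fun u hu hu' => ?_) v hv ht
        rw [Nat.testBit_or] at hu'
        rcases Bool.or_eq_true _ _ |>.mp hu' with hm' | hm'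
        · exact hm u hu hm'
        · have hue : eVec e = u := by
            rw [Nat.shiftLeft_eq, one_mul, Nat.testBit_two_pow] at hm'
            simpa using hm'
          have hp : ePar e < 2048 := Nat.mod_lt _ (by norm_num)
          rw [← hue, ← Nat.eq_of_beq_eq_true h3, h _ (by simpa [Nat.blt] using h2) _ hp,
            Nat.eq_of_beq_eq_true h3, Nat.eq_of_beq_eq_true h4]
          exact hm _ hp h1
  intro v hv hv0
  refine key (treeV cv) rootMask (fun u hu hu' => ?_) v hv ?_
  · rw [roots_colour cv u (testBit_rootMask u hu hu')]
  · rw [walk_full cv, show 2 ^ 2048 - 2 = 2 ^ 2048 - (1 + 1) from rfl,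
      Nat.testBit_two_pow_sub_succ (lt_of_lt_of_le (by norm_num : 1 < 2 ^ 2)
        (Nat.pow_le_pow_right (by norm_num) (by norm_num)))]
    have h1 : (1 : ℕ).testBit v = false :=
      Nat.testBit_lt_two_pow (by
        calc 1 < 2 ^ 1 := by norm_num
          _ ≤ 2 ^ v := Nat.pow_le_pow_right (by norm_num) (by omega))
    simp [hv, h1]

/-- The order of the general linear group of dimension eleven. -/
def glCard : ℕ := ((List.range 11).map fun i => 2 ^ 11 - 2 ^ i).prod

/-- The size of a union of orbits. -/
def sizeOf6 (S : List Bool) : ℕ :=
  ([1, 36, 90, 240, 1440, 240].zip S).foldr (fun p n => (bif p.2 then p.1 else 0) + n) 0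

theorem class_size : ∀ a b c d : Bool,
    (a || b || c || d) = true → sizeOf6 [true, false, a, b, c, d] ∣ glCard →
      a = true ∧ c = true ∧ (b != d) = true := by decide +kernel

/-- Number of elements of a mask below 2048. -/
def count (m : ℕ) : ℕ := (List.range 2048).countP fun v => m.testBit v

theorem mask_count : ∀ cv : Bool, (masks cv).map count = [1, 36, 90, 240, 1440, 240] := by
  decide +kernel

theorem colour_mask : ∀ cv : Bool, (List.range 2048).all (fun v => (List.range 6).all fun i =>
    Nat.beq v 0 || (((masks cv).getD i 0).testBit v == Nat.beq (colour cv v) i)) = true := by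
  decide +kernel

/-- The valency of a vector in the graph on a set. -/
def valency (m u : ℕ) : ℕ := (List.range 2048).countP fun w => m.testBit w && m.testBit (u ^^^ w)

theorem valency_low : valency (orbOval ||| orbLow) 1 = 44 ∧
    valency (orbOval ||| orbLow) 128 = 44 := by decide +kernel

theorem valency_split : valency (orbOval ||| orbLowSplit) 1 ≠ valency (orbOval ||| orbLowSplit) 128 ∧
    valency (orbOval ||| orbHighSplit) 1 ≠ valency (orbOval ||| orbHighSplit) 132 := by
  decide +kernel

theorem valency_high : valency (orbOval ||| orbHigh) 1 = 44 ∧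
    valency (orbOval ||| orbHigh) 132 ≠ 44 := by decide +kernel

theorem split_gens : gensSplit.length = 9 ∧ gensCover.length = 9 ∧
    ∀ g ∈ gensSplit ++ gensCover, ∀ x ∈ g, x < 2048 := by decide +kernel

end CfsgLib.J4Type.NV
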