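import Cfsg.Agent.Lib.J4Type.NV.Data
import Cfsg.Agent.Lib.Golay.Perm

/-!
The 276 vectors of the two orbits of lengths 36 and 240 form the triangular graph on 24 points;
a linear automorphism of the module preserving them comes from a unique element of `Cfsg.M24`.
-/

set_option autoImplicit false
set_option maxRecDepth 100000

namespace CfsgLib.J4Type.NV

open Cfsg CfsgLib.Golay
open scoped Pointwise

/-- Membership in the union of the orbits of lengths 36 and 240. -/
def inB (v : ℕ) : Bool := (orbOval ||| orbLow).testBit v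

/-- The vector of the pair formed by the first point and the point number `i`. -/
def wv (i : ℕ) : ℕ := (pairTab.getD 0 []).getD i 0

/-- An entry of `pairTab`. -/
def tabV (i j : ℕ) : ℕ := (pairTab.getD i []).getD j 0

/-- The vector of a pair of points. -/
def pv (p q : GolayPt) : ℕ := wv (idx p) ^^^ wv (idx q)

theorem tab_check : ((List.range 24).all fun i => (List.range 24).all fun j =>
    Nat.beq (tabV i j) (wv i ^^^ wv j) && decide (wv i < 2048) &&
      (Nat.beq i j || (inB (wv i ^^^ wv j) && !Nat.beq (wv i) (wv j)))) = true := by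
  decide +kernel

theorem tab_facts {i j : ℕ} (hi : i < 24) (hj : j < 24) :
    tabV i j = wv i ^^^ wv j ∧ wv i < 2048 ∧
      (i ≠ j → inB (wv i ^^^ wv j) = true ∧ wv i ≠ wv j) := by
  have h := List.all_eq_true.1 (List.all_eq_true.1 tab_check i (List.mem_range.2 hi)) j
    (List.mem_range.2 hj)
  simp only [Bool.and_eq_true, Bool.or_eq_true, Bool.not_eq_true', decide_eq_true_eq] at h
  refine ⟨Nat.eq_of_beq_eq_true h.1.1, h.1.2, fun hne => ?_⟩
  rcases h.2 with e | ⟨e1, e2⟩
  · exact absurd (Nat.eq_of_beq_eq_true e) hne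
  · exact ⟨e1, fun e => by rw [e, Nat.beq_refl] at e2; exact Bool.noConfusion e2⟩

theorem pv_eq_tab (p q : GolayPt) : tabV (idx p) (idx q) = pv p q :=
  (tab_facts (idx_lt p) (idx_lt q)).1

theorem wv_lt (p : GolayPt) : wv (idx p) < 2048 := (tab_facts (idx_lt p) (idx_lt p)).2.1

theorem pv_lt (p q : GolayPt) : pv p q < 2048 :=
  Nat.xor_lt_two_pow (n := 11) (wv_lt p) (wv_lt q)

theorem pv_comm (p q : GolayPt) : pv p q = pv q p := Nat.xor_comm _ _

theorem pv_self (p : GolayPt) : pv p p = 0 := Nat.xor_self _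

theorem pv_inB {p q : GolayPt} (h : p ≠ q) : inB (pv p q) = true :=
  ((tab_facts (idx_lt p) (idx_lt q)).2.2 fun e => h (idx_injective e)).1

theorem pv_xor (a b c : GolayPt) : pv a b ^^^ pv a c = pv b c := by
  unfold pv
  rw [Nat.xor_comm (wv (idx a)) (wv (idx b)), Nat.xor_assoc, ← Nat.xor_assoc (wv (idx a)),
    Nat.xor_self, Nat.zero_xor]

theorem pv_left_cancel {a b c : GolayPt} (h : pv a b = pv a c) : b = c := by
  by_contra hne
  exact ((tab_facts (idx_lt b) (idx_lt c)).2.2 fun e => hne (idx_injective e)).2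
    (Nat.xor_right_inj.1 h)

theorem decode_check : allB 11 (fun v => !inB v || (List.range 24).any fun i =>
    (List.range 24).any fun j => !Nat.beq i j && Nat.beq (wv i ^^^ wv j) v) 0 = true := by
  decide +kernel

theorem decode {v : ℕ} (hv : v < 2048) (hB : inB v = true) : ∃ a b, a ≠ b ∧ v = pv a b := by
  have h := allB_range decode_check (k := v) hv
  simp only [hB, Bool.not_true, Bool.false_or, List.any_eq_true, List.mem_range,
    Bool.and_eq_true, Bool.not_eq_true'] at h
  obtain ⟨i, hi, j, hj, h1, h2⟩ := h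
  refine ⟨pt i, pt j, fun e => ?_, ?_⟩
  · have e' := congrArg idx e
    rw [idx_pt hi, idx_pt hj] at e'
    subst e'
    rw [Nat.beq_refl] at h1
    exact Bool.noConfusion h1
  · rw [pv, idx_pt hi, idx_pt hj]
    exact (Nat.eq_of_beq_eq_true h2).symm

theorem quad_check : ((List.range 24).all fun a => (List.range 24).all fun b => !decide (a < b) ||
    (List.range 24).all fun c => !decide (a < c) || Nat.beq c b ||
      (List.range 24).all fun d => !decide (c < d) || Nat.beq d b ||
        (!inB ((wv a ^^^ wv b) ^^^ (wv c ^^^ wv d)) &&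
          !Nat.beq ((wv a ^^^ wv b) ^^^ (wv c ^^^ wv d)) 0)) = true := by
  decide +kernel

/-- The condition on four distinct points. -/
def QuadOK (a b c d : ℕ) : Prop :=
  inB ((wv a ^^^ wv b) ^^^ (wv c ^^^ wv d)) = false ∧ wv a ^^^ wv b ≠ wv c ^^^ wv d

theorem quad_sorted {a b c d : ℕ} (hb : b < 24) (hd : d < 24) (hab : a < b) (hac : a < c)
    (hcd : c < d) (hcb : c ≠ b) (hdb : d ≠ b) : QuadOK a b c d := by
  have h := quad_check
  simp only [List.all_eq_true, List.mem_range, Bool.or_eq_true, Bool.and_eq_true,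
    Bool.not_eq_true', decide_eq_false_iff_not, Nat.beq_eq] at h
  have hn : ∀ {x y : ℕ}, x ≠ y → ¬ (Nat.beq x y = true) := fun hxy e =>
    hxy (Nat.eq_of_beq_eq_true e)
  rcases h a (by omega) b hb with h | h
  · exact absurd hab h
  rcases h c (by omega) with (h | h) | h
  · exact absurd hac h
  · exact absurd h hcb
  rcases h d hd with (h | h) | h
  · exact absurd hcd h
  · exact absurd h hdb
  refine ⟨h.1, fun e => ?_⟩
  rw [e, Nat.xor_self] at h
  exact absurd h.2 (by decide)

theorem quad {a b c d : GolayPt} (hab : a ≠ b) (hac : a ≠ c) (had : a ≠ d) (hbc : b ≠ c)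
    (hbd : b ≠ d) (hcd : c ≠ d) : inB (pv a b ^^^ pv c d) = false ∧ pv a b ≠ pv c d := by
  have key : ∀ a b c d : GolayPt, idx a < idx b → idx c < idx d → idx a < idx c →
      b ≠ c → b ≠ d → inB (pv a b ^^^ pv c d) = false ∧ pv a b ≠ pv c d := by
    intro a b c d h1 h2 h3 h4 h5
    exact quad_sorted (idx_lt b) (idx_lt d) h1 h3 h2 (fun e => h4 (idx_injective e.symm))
      (fun e => h5 (idx_injective e.symm))
  have key2 : ∀ a b c d : GolayPt, idx a < idx b → idx c < idx d → a ≠ c → a ≠ d → b ≠ c →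
      b ≠ d → inB (pv a b ^^^ pv c d) = false ∧ pv a b ≠ pv c d := by
    intro a b c d h1 h2 h3 h4 h5 h6
    rcases lt_or_gt_of_ne (fun e => h3 (idx_injective e)) with h | h
    · exact key a b c d h1 h2 h h5 h6
    · obtain ⟨e1, e2⟩ := key c d a b h2 h1 h (Ne.symm h4) (Ne.symm h6)
      exact ⟨by rw [Nat.xor_comm]; exact e1, Ne.symm e2⟩
  rcases lt_or_gt_of_ne (fun e => hab (idx_injective e)) with h1 | h1 <;>
    rcases lt_or_gt_of_ne (fun e => hcd (idx_injective e)) with h2 | h2
  · exact key2 a b c d h1 h2 hac had hbc hbd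
  · rw [pv_comm c d]; exact key2 a b d c h1 h2 had hac hbd hbc
  · rw [pv_comm a b]; exact key2 b a c d h1 h2 hbc hbd hac had
  · rw [pv_comm a b, pv_comm c d]; exact key2 b a d c h1 h2 hbd hbc had hac

/-- `a` is one of the two points of `v`. -/
def Ends (v : ℕ) (a : GolayPt) : Prop := ∃ b, b ≠ a ∧ v = pv a b

theorem Ends.eq_or {a b x : GolayPt} (hab : a ≠ b) (h : Ends (pv a b) x) : x = a ∨ x = b := by
  obtain ⟨y, hy, e⟩ := h
  by_contra hc
  rw [not_or] at hc
  by_cases h1 : y = a
  · subst h1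
    exact hc.2 (pv_left_cancel (e.trans (pv_comm x y))).symm
  by_cases h2 : y = b
  · subst h2
    exact hc.1 (pv_left_cancel ((pv_comm y a).trans (e.trans (pv_comm x y)))).symm
  exact (quad hab (Ne.symm hc.1) (Ne.symm h1) (Ne.symm hc.2) (Ne.symm h2) (Ne.symm hy)).2 e

theorem Ends.pair {v : ℕ} {a b : GolayPt} (ha : Ends v a) (hb : Ends v b) (hne : a ≠ b) :
    v = pv a b := by
  obtain ⟨c, hc, rfl⟩ := ha
  rcases hb.eq_or (Ne.symm hc) with e | e
  · exact absurd e.symm hne
  · rw [e]

theorem ends_left {a b : GolayPt} (h : a ≠ b) : Ends (pv a b) a := ⟨b, Ne.symm h, rfl⟩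

theorem ends_right {a b : GolayPt} (h : a ≠ b) : Ends (pv a b) b := ⟨a, h, pv_comm a b⟩

theorem share {v u : ℕ} (hv : v < 2048) (hu : u < 2048) (hvB : inB v = true) (huB : inB u = true)
    (hvu : inB (v ^^^ u) = true) : ∃ a, Ends v a ∧ Ends u a := by
  obtain ⟨a, b, hab, rfl⟩ := decode hv hvB
  obtain ⟨c, d, hcd, rfl⟩ := decode hu huB
  by_cases h1 : a = c
  · subst h1; exact ⟨a, ends_left hab, ends_left hcd⟩
  by_cases h2 : a = d
  · subst h2; exact ⟨a, ends_left hab, ends_right hcd⟩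
  by_cases h3 : b = c
  · subst h3; exact ⟨b, ends_right hab, ends_left hcd⟩
  by_cases h4 : b = d
  · subst h4; exact ⟨b, ends_right hab, ends_right hcd⟩
  rw [(quad hab h1 h2 h3 h4 hcd).1] at hvu
  exact Bool.noConfusion hvu

theorem exists_fresh (p a b c : GolayPt) : ∃ q, q ≠ p ∧ q ≠ a ∧ q ≠ b ∧ q ≠ c := by
  have h : ({p, a, b, c} : Finset GolayPt).card < (Finset.univ : Finset GolayPt).card :=
    lt_of_le_of_lt (Finset.card_le_four) (by decide)
  obtain ⟨q, -, hq⟩ := Finset.exists_mem_notMem_of_card_lt_card h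
  exact ⟨q, by simpa using hq⟩

/-- An injective additive map of the module preserving the 276 vectors. -/
structure GoodMap (f : ℕ → ℕ) : Prop where
  lt : ∀ v < 2048, f v < 2048
  add : ∀ v < 2048, ∀ u < 2048, f (v ^^^ u) = f v ^^^ f u
  inj : ∀ v < 2048, ∀ u < 2048, f v = f u → v = u
  presB : ∀ v < 2048, inB v = true → inB (f v) = true

variable {f : ℕ → ℕ}

theorem GoodMap.zero (h : GoodMap f) : f 0 = 0 := by
  have e := h.add 0 (by norm_num) 0 (by norm_num)
  rw [Nat.xor_self, Nat.xor_self] at e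
  exact e

theorem GoodMap.surjB (h : GoodMap f) {u : ℕ} (hu : u < 2048) (huB : inB u = true) :
    ∃ v < 2048, inB v = true ∧ f v = u := by
  classical
  let S := (Finset.range 2048).filter fun v => inB v = true
  have hS : ∀ {v}, v ∈ S ↔ v < 2048 ∧ inB v = true := by simp [S]
  have e : S.image f = S := by
    refine Finset.eq_of_subset_of_card_le ?_ ?_
    · intro x hx
      obtain ⟨v, hv, rfl⟩ := Finset.mem_image.1 hx
      exact hS.2 ⟨h.lt v (hS.1 hv).1, h.presB v (hS.1 hv).1 (hS.1 hv).2⟩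
    · rw [Finset.card_image_of_injOn fun v hv w hw e =>
        h.inj v (hS.1 hv).1 w (hS.1 hw).1 e]
  have hu' : u ∈ S.image f := by rw [e]; exact hS.2 ⟨hu, huB⟩
  obtain ⟨v, hv, hvu⟩ := Finset.mem_image.1 hu'
  exact ⟨v, (hS.1 hv).1, (hS.1 hv).2, hvu⟩

theorem GoodMap.star (h : GoodMap f) (p : GolayPt) :
    ∃ a, ∀ q, q ≠ p → Ends (f (pv p q)) a := by
  have hi : ∀ q, q ≠ p → inB (f (pv p q)) = true :=
    fun q hq => h.presB _ (pv_lt p q) (pv_inB (Ne.symm hq))
  have hm : ∀ q r, q ≠ p → r ≠ p → q ≠ r → ∃ a, Ends (f (pv p q)) a ∧ Ends (f (pv p r)) a := by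
    intro q r hq hr hqr
    refine share (h.lt _ (pv_lt p q)) (h.lt _ (pv_lt p r)) (hi q hq) (hi r hr) ?_
    rw [← h.add _ (pv_lt p q) _ (pv_lt p r), pv_xor]
    exact h.presB _ (pv_lt q r) (pv_inB hqr)
  have hd : ∀ q r, q ≠ r → f (pv p q) ≠ f (pv p r) := fun q r hqr e =>
    hqr (pv_left_cancel (h.inj _ (pv_lt p q) _ (pv_lt p r) e))
  obtain ⟨q1, hq1, -, -, -⟩ := exists_fresh p p p p
  obtain ⟨q2, hq2, h21, -, -⟩ := exists_fresh p q1 p p
  obtain ⟨a, ha1, ha2⟩ := hm q1 q2 hq1 hq2 (Ne.symm h21)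
  refine ⟨a, fun q3 hq3 => ?_⟩
  by_contra hn
  have h31 : q3 ≠ q1 := fun e => hn (e ▸ ha1)
  have h32 : q3 ≠ q2 := fun e => hn (e ▸ ha2)
  obtain ⟨b, hb, e1⟩ := id ha1
  obtain ⟨c, hc, e2⟩ := id ha2
  have hbc : b ≠ c := fun e => hd q1 q2 (Ne.symm h21) (by rw [e1, e2, e])
  have viaB : ∀ q, q ≠ p → q ≠ q1 → ¬ Ends (f (pv p q)) a → Ends (f (pv p q)) b := by
    intro q hq hq1' hna
    obtain ⟨x, hx1, hx⟩ := hm q1 q hq1 hq (Ne.symm hq1')
    rw [e1] at hx1
    rcases hx1.eq_or (Ne.symm hb) with e | e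
    · exact absurd (e ▸ hx) hna
    · exact e ▸ hx
  have viaC : ∀ q, q ≠ p → q ≠ q2 → ¬ Ends (f (pv p q)) a → Ends (f (pv p q)) c := by
    intro q hq hq2' hna
    obtain ⟨x, hx1, hx⟩ := hm q2 q hq2 hq (Ne.symm hq2')
    rw [e2] at hx1
    rcases hx1.eq_or (Ne.symm hc) with e | e
    · exact absurd (e ▸ hx) hna
    · exact e ▸ hx
  have e3 : f (pv p q3) = pv b c :=
    (viaB q3 hq3 h31 hn).pair (viaC q3 hq3 h32 hn) hbc
  obtain ⟨q4, hq4, h41, h42, h43⟩ := exists_fresh p q1 q2 q3
  by_cases h4a : Ends (f (pv p q4)) a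
  · obtain ⟨x, hx3, hx⟩ := hm q3 q4 hq3 hq4 (Ne.symm h43)
    rw [e3] at hx3
    rcases hx3.eq_or hbc with e | e <;> subst e
    · exact hd q4 q1 h41 ((h4a.pair hx (Ne.symm hb)).trans e1.symm)
    · exact hd q4 q2 h42 ((h4a.pair hx (Ne.symm hc)).trans e2.symm)
  · exact hd q4 q3 h43
      (((viaB q4 hq4 h41 h4a).pair (viaC q4 hq4 h42 h4a) hbc).trans e3.symm)

theorem GoodMap.exists_perm (h : GoodMap f) :
    ∃ s : Equiv.Perm GolayPt, ∀ p q, f (pv p q) = pv (s p) (s q) := by
  choose s hs using h.star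
  have hinj : Function.Injective s := by
    intro p p' e
    by_contra hne
    obtain ⟨r, hrp, hrp', -, -⟩ := exists_fresh p p' p p
    obtain ⟨r', hr'p, hr'p', hr'r, -⟩ := exists_fresh p p' r r
    obtain ⟨b, hb, eb⟩ := hs p r hrp
    obtain ⟨c, hc, ec⟩ := hs p' r' hr'p'
    rw [← e] at hc ec
    have hq := quad (a := p) (b := r) (c := p') (d := r') (Ne.symm hrp) hne (Ne.symm hr'p) hrp'
      (Ne.symm hr'r) (Ne.symm hr'p')
    by_cases hbc : b = c
    · exact hq.2 (h.inj _ (pv_lt _ _) _ (pv_lt _ _) (by rw [eb, ec, hbc]))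
    obtain ⟨v, hv, hvB, ev⟩ := h.surjB (pv_lt b c) (pv_inB hbc)
    have hv' : v = pv p r ^^^ pv p' r' := by
      refine h.inj v hv _ (Nat.xor_lt_two_pow (n := 11) (pv_lt _ _) (pv_lt _ _)) ?_
      rw [h.add _ (pv_lt _ _) _ (pv_lt _ _), eb, ec, pv_xor, ev]
    rw [hv', hq.1] at hvB
    exact Bool.noConfusion hvB
  refine ⟨Equiv.ofBijective s (Finite.injective_iff_bijective.1 hinj), fun p q => ?_⟩
  show f (pv p q) = pv (s p) (s q)
  by_cases hpq : p = q
  · subst hpq; rw [pv_self, pv_self, h.zero]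
  · exact (hs p q (Ne.symm hpq)).pair (pv_comm q p ▸ hs q p hpq) (fun e => hpq (hinj e))

theorem perm_unique {s s' : Equiv.Perm GolayPt}
    (h : ∀ p q, pv (s p) (s q) = pv (s' p) (s' q)) : s = s' := by
  refine Equiv.ext fun p => ?_
  by_contra hne
  obtain ⟨q, hq, -, -, -⟩ := exists_fresh p p p p
  obtain ⟨r, hr, hrq, -, -⟩ := exists_fresh p q p p
  have key : ∀ q, q ≠ p → s p = s' q := fun q hq => by
    have hend : Ends (pv (s' p) (s' q)) (s p) := by
      rw [← h]; exact ends_left fun e => hq (s.injective e).symm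
    rcases hend.eq_or (fun e => hq (s'.injective e).symm) with e | e
    · exact absurd e hne
    · exact e
  exact hrq (s'.injective ((key r hr).symm.trans (key q hq)))

/-! ### The permutation preserves the code -/

/-- A vector as a function on the bits. -/
def toV (n v : ℕ) : Fin n → ZMod 2 := fun i => if v.testBit i.val then 1 else 0

/-- The number of a function on the bits. -/
def ofV {n : ℕ} (a : Fin n → ZMod 2) : ℕ := Nat.ofBits fun i => decide (a i = 1)

theorem ofV_lt {n : ℕ} (a : Fin n → ZMod 2) : ofV a < 2 ^ n := Nat.ofBits_lt_two_pow _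

theorem toV_ofV {n : ℕ} (a : Fin n → ZMod 2) : toV n (ofV a) = a := by
  funext i
  simp only [toV, ofV, Nat.testBit_ofBits_lt _ _ i.isLt, Fin.eta]
  generalize a i = x
  revert x; decide

theorem toV_xor (n a b : ℕ) : toV n (a ^^^ b) = toV n a + toV n b := by
  funext i
  simp only [toV, Pi.add_apply, Nat.testBit_xor]
  cases a.testBit i <;> cases b.testBit i <;> decide

theorem toV_zero (n : ℕ) : toV n 0 = 0 := by
  funext i; simp [toV]

theorem toV_inj {n a b : ℕ} (ha : a < 2 ^ n) (hb : b < 2 ^ n) (h : toV n a = toV n b) : a = b := by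
  apply Nat.eq_of_testBit_eq
  intro i
  by_cases hi : i < n
  · have := congrFun h ⟨i, hi⟩
    simp only [toV] at this
    cases h1 : a.testBit i <;> cases h2 : b.testBit i <;> simp [h1, h2] at this ⊢
  · have e : 2 ^ n ≤ 2 ^ i := Nat.pow_le_pow_right (by norm_num) (by omega)
    rw [Nat.testBit_lt_two_pow (lt_of_lt_of_le ha e), Nat.testBit_lt_two_pow (lt_of_lt_of_le hb e)]

theorem ofV_toV {n a : ℕ} (ha : a < 2 ^ n) : ofV (toV n a) = a :=
  toV_inj (ofV_lt _) ha (toV_ofV _)

theorem ofV_add {n : ℕ} (a b : Fin n → ZMod 2) : ofV (a + b) = ofV a ^^^ ofV b :=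
  toV_inj (ofV_lt _) (Nat.xor_lt_two_pow (ofV_lt _) (ofV_lt _))
    (by rw [toV_ofV, toV_xor, toV_ofV, toV_ofV])

/-- The pair vector of a point, with the parity in bit eleven. -/
def wpar (i : ℕ) : ℕ := wv i ^^^ 2048

/-- The sum of `wpar` over the bits of a mask among the lowest `n`. -/
def psiAux : ℕ → ℕ → ℕ
  | 0, _ => 0
  | n + 1, m => bif m.testBit n then wpar n ^^^ psiAux n m else psiAux n m

theorem psi_gens : gens.all (fun g => Nat.beq (psiAux 24 g) 0) = true := by decide +kernel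

theorem psi_check : allB 12 (fun k => Nat.beq k 0 ||
    !Nat.beq (psiAux 24 (Nat.mul k 4096)) 0) 0 = true := by
  decide +kernel

theorem psi_lt_check : ((List.range 24).all fun i => decide (wpar i < 4096)) = true := by
  decide +kernel

theorem wpar_lt {i : ℕ} (hi : i < 24) : wpar i < 4096 :=
  of_decide_eq_true (List.all_eq_true.1 psi_lt_check i (List.mem_range.2 hi))

theorem psiAux_lt : ∀ {n : ℕ}, n ≤ 24 → ∀ m, psiAux n m < 4096
  | 0, _, m => by norm_num [psiAux]
  | n + 1, hn, m => by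
    have ih := psiAux_lt (n := n) (by omega) m
    cases h : m.testBit n <;> simp only [psiAux, h, cond_true, cond_false]
    · exact ih
    · exact Nat.xor_lt_two_pow (n := 12) (wpar_lt (by omega)) ih

/-- The linear map with kernel the code. -/
noncomputable def psiMap : (GolayPt → ZMod 2) →ₗ[ZMod 2] (Fin 12 → ZMod 2) :=
  Fintype.linearCombination (ZMod 2) fun p => toV 12 (wpar (idx p))

theorem psiMap_apply (v : GolayPt → ZMod 2) :
    psiMap v = ∑ p, v p • toV 12 (wpar (idx p)) := by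
  simp [psiMap, Fintype.linearCombination_apply]

theorem toV_psiAux (m : ℕ) : ∀ n, toV 12 (psiAux n m) =
    ∑ i ∈ Finset.range n, (if m.testBit i then (1 : ZMod 2) else 0) • toV 12 (wpar i)
  | 0 => by simp [psiAux, toV_zero]
  | n + 1 => by
    rw [Finset.sum_range_succ, ← toV_psiAux m n]
    cases h : m.testBit n <;> simp [psiAux, h, toV_xor, add_comm]

theorem psiMap_mword (m : ℕ) : psiMap (mword m) = toV 12 (psiAux 24 m) := by
  rw [psiMap_apply, toV_psiAux]
  refine Finset.sum_bij (fun p _ => idx p) (fun p _ => Finset.mem_range.2 (idx_lt p))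
    (fun p _ q _ e => idx_injective e)
    (fun i hi => ⟨pt i, Finset.mem_univ _, idx_pt (Finset.mem_range.1 hi)⟩) fun p _ => ?_
  rfl

theorem psiMap_enc (k : ℕ) : psiMap (mword (enc k)) = 0 := by
  refine LinearMap.mem_ker.1 (mword_enc_mem_submodule (LinearMap.ker psiMap) (fun x hx => ?_) k)
  rw [LinearMap.mem_ker, psiMap_mword,
    Nat.eq_of_beq_eq_true (List.all_eq_true.1 psi_gens x hx), toV_zero]

theorem mem_code_of_psi {v : GolayPt → ZMod 2} (h : psiMap v = 0) : v ∈ golayCode := by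
  obtain ⟨m, hm, e⟩ := exists_mset (support₂ v)
  have e' : mword m = v := support₂_injective (by rw [support_mword, e])
  subst e'
  rw [mword_mem_iff hm, isCode_iff]
  have hk : m % 4096 < 4096 := Nat.mod_lt _ (by norm_num)
  obtain ⟨he1, he2⟩ := enc_facts _ hk
  let d := m ^^^ enc (m % 4096)
  have hd : d < 16777216 := Nat.xor_lt_two_pow (n := 24) hm he2
  have hd0 : d % 4096 = 0 := by
    show (m ^^^ enc (m % 4096)) % 2 ^ 12 = 0
    rw [Nat.xor_mod_two_pow]
    show (m % 4096) ^^^ (enc (m % 4096) % 4096) = 0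
    rw [he1, Nat.xor_self]
  have hpd : psiMap (mword d) = 0 := by
    rw [show d = m ^^^ enc (m % 4096) from rfl, mword_xor, map_add, h, psiMap_enc, add_zero]
  have hp : psiAux 24 d = 0 := by
    apply toV_inj (n := 12) (psiAux_lt le_rfl _) (by norm_num)
    rw [← psiMap_mword, hpd, toV_zero]
  have hc := allB_range psi_check (k := d / 4096) (by omega)
  rw [show Nat.mul (d / 4096) 4096 = d by show d / 4096 * 4096 = d; omega] at hc
  rw [hp] at hc
  simp only [Nat.beq_refl, Bool.not_true, Bool.or_false] at hc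
  have hz : d = 0 := by have := Nat.eq_of_beq_eq_true hc; omega
  have hxor : (m ^^^ enc (m % 4096)) ^^^ enc (m % 4096) = 0 ^^^ enc (m % 4096) :=
    congrArg (· ^^^ enc (m % 4096)) hz
  rw [Nat.xor_assoc, Nat.xor_self, Nat.xor_zero, Nat.zero_xor] at hxor
  exact hxor.symm

/-- The extension of `f` to the parity bit. -/
def extMap (f : ℕ → ℕ) (c x : ℕ) : ℕ := f (x % 2048) ^^^ (bif x.testBit 11 then c else 0)

theorem mem_M24_of_pairs (h : GoodMap f) {s : Equiv.Perm GolayPt}
    (hs : ∀ p q, f (pv p q) = pv (s p) (s q)) : s ∈ M24 := by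
  let c := wpar (idx (s (pt 0)))
  have h0 : wv (idx (pt 0)) = 0 := by decide +kernel
  have hF : ∀ p, extMap f c (wpar (idx p)) = wpar (idx (s p)) := by
    intro p
    have hl := wv_lt p
    have e1 : wpar (idx p) % 2048 = wv (idx p) := by
      show (wv (idx p) ^^^ 2048) % 2 ^ 11 = _
      rw [Nat.xor_mod_two_pow]
      show wv (idx p) % 2048 ^^^ 0 = _
      rw [Nat.xor_zero, Nat.mod_eq_of_lt hl]
    have e2 : (wpar (idx p)).testBit 11 = true := by
      simp only [wpar, Nat.testBit_xor, Nat.testBit_lt_two_pow (i := 11) (by simpa using hl)]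
      decide
    have e3 : f (wv (idx p)) = wv (idx (s p)) ^^^ wv (idx (s (pt 0))) := by
      have := hs p (pt 0)
      simpa only [pv, h0, Nat.xor_zero] using this
    rw [extMap, e1, e2, cond_true, e3]
    show _ ^^^ (wv (idx (s (pt 0))) ^^^ 2048) = wv (idx (s p)) ^^^ 2048
    rw [Nat.xor_assoc, ← Nat.xor_assoc (wv (idx (s (pt 0)))), Nat.xor_self, Nat.zero_xor]
  have hFlt : ∀ a : Fin 12 → ZMod 2, extMap f c (ofV a) < 2 ^ 12 := by
    intro a
    refine Nat.xor_lt_two_pow (lt_trans (h.lt _ (Nat.mod_lt _ (by norm_num))) (by norm_num)) ?_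
    cases (ofV a).testBit 11
    · norm_num
    · exact wpar_lt (idx_lt _)
  have hFadd : ∀ x y, extMap f c (x ^^^ y) = extMap f c x ^^^ extMap f c y := by
    intro x y
    simp only [extMap, Nat.testBit_xor]
    rw [show (x ^^^ y) % 2048 = x % 2048 ^^^ y % 2048 from Nat.xor_mod_two_pow (n := 11),
      h.add _ (Nat.mod_lt _ (by norm_num)) _ (Nat.mod_lt _ (by norm_num))]
    cases x.testBit 11 <;> cases y.testBit 11 <;>
      simp [Nat.xor_assoc, Nat.xor_comm, Nat.xor_left_comm]
  let A : (Fin 12 → ZMod 2) →+ (Fin 12 → ZMod 2) :=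
    AddMonoidHom.mk' (fun a => toV 12 (extMap f c (ofV a))) fun a b => by
      rw [ofV_add, hFadd, toV_xor]
  let L := A.toZModLinearMap 2
  have hL : ∀ p, L (toV 12 (wpar (idx p))) = toV 12 (wpar (idx (s p))) := by
    intro p
    show toV 12 (extMap f c (ofV (toV 12 (wpar (idx p))))) = _
    rw [ofV_toV (wpar_lt (idx_lt p)), hF]
  refine mem_M24_of_words fun x hx => ?_
  rw [← support_mword, smul_support₂]
  refine ⟨_, mem_code_of_psi ?_, rfl⟩
  have e : psiMap (fun p => mword x (s⁻¹ p)) = L (psiMap (mword x)) := by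
    simp only [psiMap_apply, map_sum, map_smul, hL]
    rw [← Equiv.sum_comp s]
    simp
  rw [e, psiMap_mword, Nat.eq_of_beq_eq_true (List.all_eq_true.1 psi_gens x hx), toV_zero,
    map_zero]

/-- A good map comes from exactly one element of `M24`. -/
theorem GoodMap.exists_unique (h : GoodMap f) :
    ∃! s : Equiv.Perm GolayPt, s ∈ M24 ∧
      ∀ p q, f (tabV (idx p) (idx q)) = tabV (idx (s p)) (idx (s q)) := by
  obtain ⟨s, hs⟩ := h.exists_perm
  refine ⟨s, ⟨mem_M24_of_pairs h hs, fun p q => by rw [pv_eq_tab, pv_eq_tab, hs]⟩, ?_⟩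
  rintro s' ⟨-, hs'⟩
  refine (perm_unique fun p q => ?_).symm
  have := hs' p q
  rw [pv_eq_tab, pv_eq_tab, hs] at this
  exact this

/-! ### The pair vectors span -/

/-- Points whose vectors sum to the basis vectors. -/
def spanTab : List (List ℕ) :=
  [[1], [1, 2], [3, 4], [4, 7], [3, 6, 8, 9, 10, 11], [1, 2, 3, 5, 6, 9, 11], [1, 2, 10],
    [1, 2, 3, 4, 7, 8, 10], [2, 3, 5, 6, 7, 8, 11], [8, 10], [3, 4, 7, 8, 10, 11]]

/-- The sum of the vectors of the listed points. -/
def wSum : List ℕ → ℕ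
  | [] => 0
  | i :: l => wv i ^^^ wSum l

theorem spanTab_check : ((List.range 11).all fun j => Nat.beq (wSum (spanTab.getD j [])) (2 ^ j) &&
    (spanTab.getD j []).all fun i => decide (i < 24)) = true := by
  decide +kernel

theorem GoodMap.eq_id (h : GoodMap f) (hfix : ∀ p q, f (pv p q) = pv p q) :
    ∀ v < 2048, f v = v := by
  have hw : ∀ i < 24, f (wv i) = wv i := by
    intro i hi
    have := hfix (pt 0) (pt i)
    have h0 : wv (idx (pt 0)) = 0 := by decide +kernel
    simpa only [pv, h0, Nat.zero_xor, idx_pt hi] using this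
  have hs : ∀ l : List ℕ, (∀ i ∈ l, i < 24) → wSum l < 2048 ∧ f (wSum l) = wSum l := by
    intro l
    induction l with
    | nil => exact fun _ => ⟨by norm_num [wSum], h.zero⟩
    | cons i l ih =>
      intro hl
      obtain ⟨h1, h2⟩ := ih fun j hj => hl j (List.mem_cons_of_mem _ hj)
      have hi : i < 24 := hl i List.mem_cons_self
      have hi' : wv i < 2048 := (tab_facts hi hi).2.1
      refine ⟨Nat.xor_lt_two_pow (n := 11) hi' h1, ?_⟩
      show f (wv i ^^^ wSum l) = _
      rw [h.add _ hi' _ h1, hw i hi, h2]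
      rfl
  have hb : ∀ j < 11, f (2 ^ j) = 2 ^ j := by
    intro j hj
    have hc := List.all_eq_true.1 spanTab_check j (List.mem_range.2 hj)
    simp only [Bool.and_eq_true, List.all_eq_true, decide_eq_true_eq] at hc
    rw [← Nat.eq_of_beq_eq_true hc.1]
    exact (hs _ hc.2).2
  have main : ∀ n ≤ 11, ∀ v < 2 ^ n, f v = v := by
    intro n
    induction n with
    | zero =>
      intro _ v hv
      obtain rfl : v = 0 := by simpa using hv
      exact h.zero
    | succ n ih =>
      intro hn v hv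
      rcases lt_or_ge v (2 ^ n) with hlt | hge
      · exact ih (by omega) v hlt
      have hx : v ^^^ 2 ^ n < 2 ^ n := by
        refine Nat.lt_pow_two_of_testBit _ fun i hi => ?_
        rw [Nat.testBit_xor, Nat.testBit_two_pow]
        rcases Nat.eq_or_lt_of_le hi with e | e
        · subst e
          have : v.testBit n = true := by
            rw [Nat.testBit_eq_decide_div_mod_eq, decide_eq_true_eq]
            have : v / 2 ^ n = 1 :=
              Nat.div_eq_of_lt_le (by simpa using hge) (by rw [pow_succ'] at hv; simpa using hv)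
            rw [this]
          simp [this]
        · have h' : v < 2 ^ i := lt_of_lt_of_le hv (Nat.pow_le_pow_right (by norm_num) e)
          rw [Nat.testBit_lt_two_pow h']
          simp [ne_of_lt e]
      have h11 : 2 ^ n < 2048 := by
        calc 2 ^ n < 2 ^ 11 := Nat.pow_lt_pow_right (by norm_num) (by omega)
          _ = 2048 := by norm_num
      have := h.add _ (lt_trans hx h11) _ h11
      rw [Nat.xor_assoc, Nat.xor_self, Nat.xor_zero, ih (by omega) _ hx, hb n (by omega),
        Nat.xor_assoc, Nat.xor_self, Nat.xor_zero] at this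
      exact this
  exact main 11 le_rfl

/-- An action by good maps gives a homomorphism to `M24` whose kernel acts trivially. -/
theorem exists_hom {N : Type*} [Group N] (act : N → ℕ → ℕ) (hgood : ∀ g, GoodMap (act g))
    (hmul : ∀ g h, ∀ v < 2048, act (g * h) v = act g (act h v)) :
    ∃ φ : N →* M24, (∀ g p q, act g (pv p q) =
        pv ((φ g : Equiv.Perm GolayPt) p) ((φ g : Equiv.Perm GolayPt) q)) ∧
      ∀ g, φ g = 1 ↔ ∀ v < 2048, act g v = v := by
  choose s hs using fun g => (hgood g).exists_perm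
  have hm : ∀ g h, s (g * h) = s g * s h := fun g h => by
    refine perm_unique fun p q => ?_
    rw [Equiv.Perm.mul_apply, Equiv.Perm.mul_apply, ← hs, hmul g h _ (pv_lt p q), hs, hs]
  let φ : N →* M24 := MonoidHom.mk' (fun g => ⟨s g, mem_M24_of_pairs (hgood g) (hs g)⟩)
    fun g h => Subtype.ext (hm g h)
  refine ⟨φ, hs, fun g => ⟨fun e => ?_, fun e => ?_⟩⟩
  · have e' : s g = 1 := congrArg Subtype.val e
    exact (hgood g).eq_id fun p q => by rw [hs, e']; rfl
  · refine Subtype.ext (perm_unique fun p q => ?_)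
    show pv (s g p) (s g q) = pv p q
    rw [← hs, e _ (pv_lt p q)]

end CfsgLib.J4Type.NV
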