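import Cfsg.Agent.Lib.J4Type.NV.Action
import Cfsg.Agent.Lib.J4Type.NV.CountChecks
import Cfsg.Agent.Lib.J4Type.NV.Graph
import Mathlib.LinearAlgebra.Matrix.GeneralLinearGroup.Card
import Mathlib.LinearAlgebra.GeneralLinearGroup.Basic

/-!
The normaliser of the elementary abelian group of order `2 ^ 11` controls the fusion of the central
involution in it, there are 1771 conjugates, and the extension by the centre does not split.
-/

set_option autoImplicit false
set_option linter.unusedSectionVars false
set_option maxRecDepth 100000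
set_option maxHeartbeats 400000

namespace CfsgLib.J4Type

open Cfsg Subgroup NV CfsgLib.Golay
open scoped commutatorElement

variable {G : Type*} [Group G] [Finite G] {z : G} {P : Subgroup G}

namespace Frame

variable {F : Frame z P} (D : VData F)
include D

open Classical in
/-- The coordinate of an element of the group. -/
noncomputable def cV (v : G) : ℕ := if h : v ∈ D.V then (exists_vE D h).choose else 0

theorem cV_spec {v : G} (hv : v ∈ D.V) : cV D v < 2048 ∧ vE D (cV D v) = v := by
  rw [cV, dif_pos hv]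
  exact (exists_vE D hv).choose_spec

theorem cV_vE {n : ℕ} (hn : n < 2048) : cV D (vE D n) = n := by
  obtain ⟨h1, h2⟩ := cV_spec D (vE_mem D hn)
  exact vE_injOn D h1 hn h2

theorem cV_mul {v w : G} (hv : v ∈ D.V) (hw : w ∈ D.V) : cV D (v * w) = cV D v ^^^ cV D w := by
  obtain ⟨a1, a2⟩ := cV_spec D hv
  obtain ⟨b1, b2⟩ := cV_spec D hw
  conv_lhs => rw [← a2, ← b2, ← vE_xor D a1 b1]
  exact cV_vE D (Nat.xor_lt_two_pow (n := 11) a1 b1)

theorem vE_zero : vE D 0 = 1 := by
  have := vE_xor D (show (0 : ℕ) < 2048 by norm_num) (show (0 : ℕ) < 2048 by norm_num)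
  rw [Nat.xor_self] at this
  exact left_eq_mul.1 this

theorem vE_eq_one {n : ℕ} (hn : n < 2048) : vE D n = 1 ↔ n = 0 :=
  ⟨vE_inj D hn, fun h => by rw [h, vE_zero]⟩

theorem vE_z : vE D 64 = z := by
  have e : (64 : ℕ) = pack 0 true 0 := by decide
  rw [e, vE_vC D (by norm_num), vC_zero D, mul_one]
  rfl

/-- The action of an element on the coordinates. -/
noncomputable def act (g : G) (n : ℕ) : ℕ := cV D (g * vE D n * g⁻¹)

theorem conj_mem {g : G} (hg : g ∈ normalizer (D.V : Set G)) {v : G} (hv : v ∈ D.V) :
    g * v * g⁻¹ ∈ D.V := (mem_normalizer_iff.1 hg v).1 hv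

theorem vE_act {g : G} (hg : g ∈ normalizer (D.V : Set G)) {n : ℕ} (hn : n < 2048) :
    act D g n < 2048 ∧ vE D (act D g n) = g * vE D n * g⁻¹ :=
  cV_spec D (conj_mem D hg (vE_mem D hn))

theorem act_xor {g : G} (hg : g ∈ normalizer (D.V : Set G)) {a b : ℕ} (ha : a < 2048)
    (hb : b < 2048) : act D g (a ^^^ b) = act D g a ^^^ act D g b := by
  simp only [act]
  rw [vE_xor D ha hb, ← cV_mul D (conj_mem D hg (vE_mem D ha)) (conj_mem D hg (vE_mem D hb))]
  congr 1
  group

theorem act_inj {g : G} (hg : g ∈ normalizer (D.V : Set G)) {a b : ℕ} (ha : a < 2048)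
    (hb : b < 2048) (h : act D g a = act D g b) : a = b := by
  refine vE_injOn D ha hb ?_
  have := congrArg (vE D) h
  rw [(vE_act D hg ha).2, (vE_act D hg hb).2] at this
  simpa using this

theorem act_mul {g h : G} (hh : h ∈ normalizer (D.V : Set G)) {n : ℕ} (hn : n < 2048) :
    act D (g * h) n = act D g (act D h n) := by
  rw [act, act, (vE_act D hh hn).2]
  congr 1
  group

/-- The two-element hypothesis: which set of matrices describes the generators. -/
def IsVariant (cv : Bool) : Prop := ∀ k < 9, ∀ n < 2048,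
  act D (F.gen9 k) n = mv ((gensV cv).getD k []) n

theorem exists_variant : ∃ cv, IsVariant D cv := by
  obtain ⟨cv, h⟩ := exists_model D
  refine ⟨cv, fun k hk n hn => ?_⟩
  have hb : ∀ x ∈ (gensV cv).getD k [], x < 2048 := by
    intro x hx
    obtain ⟨l1, l2, l3⟩ := split_gens
    cases cv <;> simp only [gensV, cond_true, cond_false] at hx
    · rw [List.getD_eq_getElem _ _ (by omega)] at hx
      exact l3 _ (List.mem_append.2 (Or.inl (List.getElem_mem _))) x hx
    · rw [List.getD_eq_getElem _ _ (by omega)] at hx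
      exact l3 _ (List.mem_append.2 (Or.inr (List.getElem_mem _))) x hx
  rw [act, show (bif cv then gensCover else gensSplit) = gensV cv from rfl] at *
  rw [h k hk n hn, cV_vE D (mv_lt_2048 _ _ hb)]

open Classical in
/-- Membership in the class of the central involution. -/
noncomputable def isZ (n : ℕ) : Bool := decide (IsConj z (vE D n))

theorem isZ_act {g : G} (hg : g ∈ normalizer (D.V : Set G)) {n : ℕ} (hn : n < 2048) :
    isZ D (act D g n) = isZ D n := by
  rw [isZ, isZ]
  refine decide_eq_decide.2 ?_
  rw [(vE_act D hg hn).2]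
  refine ⟨fun h => h.trans ?_, fun h => h.trans ?_⟩
  · exact isConj_iff.2 ⟨g⁻¹, by group⟩
  · exact isConj_iff.2 ⟨g, rfl⟩

theorem const_isZ {cv : Bool} (hv : IsVariant D cv) {n : ℕ} (hn : n < 2048) (h0 : n ≠ 0) :
    isZ D n = isZ D (roots.getD (colour cv n) 0) := by
  refine const_on_colour (cv := cv) (isZ D) (fun k hk v hv' => ?_) n hn h0
  rw [← hv k hk v hv', isZ_act D (gen9_mem D hk).2 hv']

theorem isZ_zero : isZ D 0 = false := by
  simp only [isZ, vE_zero, decide_eq_false_iff_not]
  intro h
  obtain ⟨c, hc⟩ := isConj_iff.1 h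
  exact F.z_ne (conj_eq_one_iff.1 hc)

theorem isZ_root_z : isZ D 64 = true := by
  classical
  exact decide_eq_true (by rw [vE_z D])

variable (hf : Fused D)
include hf

theorem isZ_root_oval : isZ D 1 = false := by
  simp only [isZ, decide_eq_false_iff_not]
  have e : (1 : ℕ) = pack 1 false 0 := by decide
  obtain ⟨h1, h2, -⟩ := F.eE_spec (show (1 : ℕ) < 4096 by norm_num)
  rw [e, vE_eE D (by norm_num) false, show F.zp false = 1 from rfl, mul_one]
  exact hf.not_oval _ h1 h2

theorem normal_conj {g : G} {u : G} (hu : u ∈ D.V) (he : g * z * g⁻¹ = u) :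
    ∃ k ∈ normalizer (D.V : Set G), k * z * k⁻¹ = u := by
  haveI : Fact (Nat.Prime 2) := ⟨Nat.prime_two⟩
  set C := centralizer ({u} : Set G)
  have hV : D.V ≤ C := fun v hv => mem_centralizer_singleton_iff.2 (V_comm D hv hu)
  have hW : D.V.map (MulAut.conj g).toMonoidHom ≤ C := by
    rintro _ ⟨v, hv, rfl⟩
    refine mem_centralizer_singleton_iff.2 ?_
    rw [← he]
    show g * v * g⁻¹ * (g * z * g⁻¹) = g * z * g⁻¹ * (g * v * g⁻¹)
    calc g * v * g⁻¹ * (g * z * g⁻¹) = g * (v * z) * g⁻¹ := by group
      _ = g * (z * v) * g⁻¹ := by rw [V_comm D hv D.z_mem]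
      _ = g * z * g⁻¹ * (g * v * g⁻¹) := by group
  have hp : IsPGroup 2 D.V := IsPGroup.of_card D.card
  have hp' : IsPGroup 2 (D.V.map (MulAut.conj g).toMonoidHom) := hp.map _
  obtain ⟨T1, hT1⟩ := IsPGroup.exists_le_sylow
    (hp.comap_of_injective C.subtype C.subtype_injective)
  obtain ⟨T2, hT2⟩ := IsPGroup.exists_le_sylow
    (hp'.comap_of_injective C.subtype C.subtype_injective)
  obtain ⟨c, hc⟩ := MulAction.exists_smul_eq C T2 T1
  obtain ⟨S, hS⟩ := ((T1.isPGroup').map C.subtype).exists_le_sylow
  have hA : D.V.map (MulAut.conj ((c : G) * g)).toMonoidHom ≤ S := by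
    rintro _ ⟨v, hv, rfl⟩
    have hm : g * v * g⁻¹ ∈ D.V.map (MulAut.conj g).toMonoidHom := ⟨v, hv, rfl⟩
    have h2 : (⟨_, hW hm⟩ : C) ∈ (T2 : Subgroup C) := hT2 hm
    have h1 : c * ⟨_, hW hm⟩ * c⁻¹ ∈ (T1 : Subgroup C) := by
      rw [← hc, Sylow.coe_subgroup_smul]
      exact Subgroup.smul_mem_pointwise_smul _ (MulAut.conj c) _ h2
    have := hS ⟨_, h1, rfl⟩
    simpa [mul_assoc] using this
  have hB : D.V ≤ S := fun v hv => hS ⟨⟨v, hV hv⟩, hT1 hv, rfl⟩
  have hel : IsElementaryAbelian 2 (D.V.map (MulAut.conj ((c : G) * g)).toMonoidHom) := by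
    refine ⟨⟨⟨?_⟩⟩, ?_⟩
    · rintro ⟨_, a, ha, rfl⟩ ⟨_, b, hb, rfl⟩
      exact Subtype.ext (by
        show (MulAut.conj ((c : G) * g)) a * (MulAut.conj ((c : G) * g)) b =
          (MulAut.conj ((c : G) * g)) b * (MulAut.conj ((c : G) * g)) a
        rw [← map_mul, ← map_mul, V_comm D ha hb])
    · rintro _ ⟨a, ha, rfl⟩
      rw [← map_pow, D.elem.2 a ha, map_one]
  have hcd : Nat.card ↥(D.V.map (MulAut.conj ((c : G) * g)).toMonoidHom) = 2 ^ 11 := by
    rw [← Nat.card_congr (Subgroup.equivMapOfInjective D.V _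
      (MulAut.conj ((c : G) * g)).injective).toEquiv, D.card]
  have heq := D.unique S _ _ hA hB hel hcd D.elem D.card
  refine ⟨(c : G) * g, ?_, ?_⟩
  · rw [mem_normalizer_iff]
    intro v
    refine ⟨fun hv => heq.le ⟨v, hv, rfl⟩, fun hv => ?_⟩
    obtain ⟨w, hw, e⟩ := heq.ge hv
    have : w = v := (MulAut.conj ((c : G) * g)).injective e
    exact this ▸ hw
  · rw [show (c : G) * g * z * ((c : G) * g)⁻¹ = (c : G) * (g * z * g⁻¹) * (c : G)⁻¹ by group, he,
      mem_centralizer_singleton_iff.1 c.2, mul_inv_cancel_right]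

theorem class_control {u : G} (hu : u ∈ D.V) (h : IsConj z u) :
    ∃ k ∈ normalizer (D.V : Set G), k * z * k⁻¹ = u := by
  obtain ⟨g, hg⟩ := isConj_iff.1 h
  exact normal_conj D hf hu hg

/-- The class of the central involution in the group as a set. -/
def classV : Set G := {v : G | v ∈ D.V ∧ IsConj z v}

theorem classV_ncard : (classV D).ncard = ((Finset.range 2048).filter fun n => isZ D n).card := by
  classical
  rw [← Set.ncard_coe_finset]
  refine (Set.ncard_congr (fun n _ => vE D n) ?_ ?_ ?_).symm
  · intro n hn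
    simp only [Finset.coe_filter, Finset.mem_range, Set.mem_setOf_eq, isZ, decide_eq_true_iff] at hn
    exact ⟨vE_mem D hn.1, hn.2⟩
  · intro a b ha hb h
    simp only [Finset.coe_filter, Finset.mem_range, Set.mem_setOf_eq] at ha hb
    exact vE_injOn D ha.1 hb.1 h
  · rintro v ⟨hv, hc⟩
    obtain ⟨n, hn, rfl⟩ := exists_vE D hv
    exact ⟨n, Finset.mem_coe.2 (Finset.mem_filter.2 ⟨Finset.mem_range.2 hn, decide_eq_true hc⟩), rfl⟩

theorem ncard_dvd_gl : (classV D).ncard ∣ glCard := by
  classical
  set N := normalizer (D.V : Set G) with hN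
  let L : Subgroup N := (Cen z).subgroupOf N
  have e : (classV D).ncard = L.index := by
    let f : N ⧸ L → ↥(classV D) := Quotient.lift
      (fun k : N => (⟨(k : G) * z * (k : G)⁻¹, conj_mem D k.2 D.z_mem,
        isConj_iff.2 ⟨k, rfl⟩⟩ : ↥(classV D))) (by
        intro a b hab
        have h := QuotientGroup.leftRel_apply.1 hab
        have h' : ((a : G)⁻¹ * b) * z = z * ((a : G)⁻¹ * b) := mem_Cen.1 h
        apply Subtype.ext
        show (a : G) * z * (a : G)⁻¹ = (b : G) * z * (b : G)⁻¹
        calc (a : G) * z * (a : G)⁻¹ = (a : G) * (z * ((a : G)⁻¹ * b)) * (b : G)⁻¹ := by group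
          _ = (a : G) * ((a : G)⁻¹ * b * z) * (b : G)⁻¹ := by rw [h']
          _ = (b : G) * z * (b : G)⁻¹ := by group)
    have hb : Function.Bijective f := by
      constructor
      · intro x y
        induction x using Quotient.inductionOn with | _ a =>
        induction y using Quotient.inductionOn with | _ b =>
        intro h
        have h' : (a : G) * z * (a : G)⁻¹ = (b : G) * z * (b : G)⁻¹ := congrArg Subtype.val h
        refine Quotient.sound (QuotientGroup.leftRel_apply.2 (mem_Cen.2 ?_))
        show (a : G)⁻¹ * b * z = z * ((a : G)⁻¹ * b)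
        calc (a : G)⁻¹ * b * z = (a : G)⁻¹ * ((b : G) * z * (b : G)⁻¹) * b := by group
          _ = (a : G)⁻¹ * ((a : G) * z * (a : G)⁻¹) * b := by rw [h']
          _ = z * ((a : G)⁻¹ * b) := by group
      · rintro ⟨v, hv, hc⟩
        obtain ⟨k, hk, hkz⟩ := class_control D hf hv hc
        exact ⟨Quotient.mk _ ⟨k, hk⟩, Subtype.ext hkz⟩
    rw [← Nat.card_coe_set_eq, ← Nat.card_congr (Equiv.ofBijective f hb), index_eq_card]
  rw [e]
  let lin : N → (Fin 11 → ZMod 2) →ₗ[ZMod 2] (Fin 11 → ZMod 2) := fun g =>
    AddMonoidHom.toZModLinearMap 2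
      { toFun := fun x => toV 11 (act D g (ofV x))
        map_zero' := by
          show toV 11 (act D (g : G) (ofV (0 : Fin 11 → ZMod 2))) = 0
          rw [← toV_zero 11, ofV_toV (Nat.two_pow_pos 11)]
          have h0 := act_xor D g.2 (show (0 : ℕ) < 2048 by norm_num) (show (0 : ℕ) < 2048 by norm_num)
          rw [Nat.xor_self, Nat.xor_self] at h0
          rw [h0]
        map_add' := fun x y => by rw [ofV_add, act_xor D g.2 (ofV_lt x) (ofV_lt y), toV_xor] }
  have lin_apply : ∀ g x, lin g x = toV 11 (act D (g : G) (ofV x)) := fun _ _ => rfl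
  have lin_mul : ∀ g h : N, lin (g * h) = lin g * lin h := fun g h => by
    refine LinearMap.ext fun x => ?_
    rw [Module.End.mul_apply, lin_apply, lin_apply, lin_apply, Subgroup.coe_mul,
      act_mul D h.2 (ofV_lt x), ofV_toV (vE_act D h.2 (ofV_lt x)).1]
  have lin_one : lin 1 = 1 := by
    refine LinearMap.ext fun x => ?_
    rw [lin_apply, Module.End.one_apply]
    conv_rhs => rw [← toV_ofV x]
    congr 1
    show cV D (1 * vE D (ofV x) * 1⁻¹) = ofV x
    rw [one_mul, inv_one, mul_one, cV_vE D (ofV_lt x)]
  let ψ : N →* LinearMap.GeneralLinearGroup (ZMod 2) (Fin 11 → ZMod 2) :=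
    MonoidHom.toHomUnits { toFun := lin, map_one' := lin_one, map_mul' := lin_mul }
  have hker : ψ.ker ≤ L := by
    intro g hg
    have h1 : lin g = 1 := congrArg Units.val (MonoidHom.mem_ker.1 hg)
    refine mem_Cen.2 ?_
    have h2 := congrArg ofV (LinearMap.congr_fun h1 (toV 11 64))
    rw [lin_apply, Module.End.one_apply, ofV_toV (show (64 : ℕ) < 2 ^ 11 by norm_num),
      ofV_toV (vE_act D g.2 (show (64 : ℕ) < 2048 by norm_num)).1] at h2
    have h3 := (vE_act D g.2 (show (64 : ℕ) < 2048 by norm_num)).2
    rw [h2, vE_z] at h3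
    exact eq_mul_inv_iff_mul_eq.1 h3 |>.symm
  refine (index_dvd_of_le hker).trans ?_
  rw [index_ker]
  have hcard : Nat.card (LinearMap.GeneralLinearGroup (ZMod 2) (Fin 11 → ZMod 2)) = glCard := by
    rw [← Nat.card_congr Matrix.GeneralLinearGroup.toLin.toEquiv, Matrix.card_GL_field 11,
      ZMod.card, glCard]
    rw [Finset.prod_fin_eq_prod_range]
    decide
  exact hcard ▸ card_subgroup_dvd_card ψ.range

/-- The colour predicate of the class. -/
theorem isZ_pattern {cv : Bool} (hv : IsVariant D cv) :
    isZ D 5 = true ∧ isZ D 129 = true ∧ (isZ D 128 != isZ D 132) = true := by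
  classical
  have hne : (isZ D 5 || isZ D 128 || isZ D 129 || isZ D 132) = true := by
    obtain ⟨u, hu, hne, hc⟩ := hf.ne_isolated
    obtain ⟨n, hn, rfl⟩ := exists_vE D hu
    have hn0 : n ≠ 0 := by
      rintro rfl
      rw [vE_zero] at hc
      have := isZ_zero D
      rw [isZ, decide_eq_false_iff_not, vE_zero] at this
      exact this hc
    have h := const_isZ D hv hn hn0
    have hT : isZ D n = true := decide_eq_true hc
    have hc64 : colour cv n ≠ 0 := by
      intro h0
      have := List.all_eq_true.1 (List.all_eq_true.1 (colour_mask cv) n (List.mem_range.2 hn)) 0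
        (List.mem_range.2 (by norm_num))
      rw [h0, show Nat.beq n 0 = false from nat_beq_eq n 0 ▸ decide_eq_false hn0] at this
      have h64 : orbZ.testBit n = true := by simpa [masks] using this
      have : n = 64 := by
        have key : ∀ v < 2048, orbZ.testBit v = true → v = 64 := by decide +kernel
        exact key n hn h64
      exact hne (this ▸ vE_z D)
    have hl := colour_lt cv n
    rw [hT] at h
    have hov := isZ_root_oval D hf
    interval_cases hcn : colour cv n
    · exact absurd rfl hc64
    all_goals simp_all [roots]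
  have hsize : (classV D).ncard =
      sizeOf6 [true, false, isZ D 5, isZ D 128, isZ D 129, isZ D 132] := by
    rw [classV_ncard D hf]
    have hm : ∀ i < 6, ((Finset.range 2048).filter fun n => n ≠ 0 ∧ colour cv n = i).card =
        [1, 36, 90, 240, 1440, 240].getD i 0 := by
      intro i hi
      rw [← mask_count cv, List.getD_eq_getElem _ _ (by simp [masks, hi]), List.getElem_map, count,
        List.countP_eq_length_filter,
        ← List.toFinset_card_of_nodup (List.nodup_range.filter _), List.toFinset_filter,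
        List.toFinset_range]
      refine congrArg Finset.card (Finset.filter_congr fun n hn => ?_)
      have hn' := Finset.mem_range.1 hn
      rw [← List.getD_eq_getElem (masks cv) 0]
      by_cases h0 : n = 0
      · subst h0
        have key : ∀ cv : Bool, ∀ i < 6, ((masks cv).getD i 0).testBit 0 = false := by
          decide +kernel
        rw [key cv i hi]
        simp
      · have := List.all_eq_true.1 (List.all_eq_true.1 (colour_mask cv) n (List.mem_range.2 hn')) i
          (List.mem_range.2 hi)
        rw [show Nat.beq n 0 = false from nat_beq_eq n 0 ▸ decide_eq_false h0, Bool.false_or,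
          beq_iff_eq, nat_beq_eq] at this
        rw [this]
        simp [h0]
    have hsplit : ((Finset.range 2048).filter fun n => isZ D n) = (Finset.range 6).biUnion fun i =>
        if isZ D (roots.getD i 0) then
          (Finset.range 2048).filter fun n => n ≠ 0 ∧ colour cv n = i else ∅ := by
      ext n
      simp only [Finset.mem_filter, Finset.mem_range, Finset.mem_biUnion]
      constructor
      · rintro ⟨hn, hT⟩
        have h0 : n ≠ 0 := fun h => by simp [h, isZ_zero D] at hT
        refine ⟨colour cv n, colour_lt cv n, ?_⟩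
        rw [← const_isZ D hv hn h0, if_pos hT]
        simp [hn, h0]
      · rintro ⟨i, -, h⟩
        split at h
        · obtain ⟨h1, h2, h3⟩ : n < 2048 ∧ n ≠ 0 ∧ colour cv n = i := by simpa using h
          exact ⟨h1, by rw [const_isZ D hv h1 h2, h3]; assumption⟩
        · simp at h
    rw [hsplit, Finset.card_biUnion]
    · simp only [apply_ite Finset.card, Finset.card_empty]
      rw [Finset.sum_range_succ, Finset.sum_range_succ, Finset.sum_range_succ,
        Finset.sum_range_succ, Finset.sum_range_succ, Finset.sum_range_one, hm 0 (by norm_num),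
        hm 1 (by norm_num), hm 2 (by norm_num), hm 3 (by norm_num), hm 4 (by norm_num),
        hm 5 (by norm_num)]
      simp only [roots, List.getD_cons_zero, List.getD_cons_succ, isZ_root_z D,
        isZ_root_oval D hf]
      cases isZ D 5 <;> cases isZ D 128 <;> cases isZ D 129 <;> cases isZ D 132 <;>
        simp [sizeOf6]
    · intro i _ j _ hij
      simp only [Function.onFun]
      split <;> split <;>
        first
        | exact Finset.disjoint_empty_left _
        | exact Finset.disjoint_empty_right _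
        | exact Finset.disjoint_filter.2 fun n _ h1 h2 => hij (h1.2.symm.trans h2.2)
  exact class_size _ _ _ _ hne (hsize ▸ ncard_dvd_gl D hf)

theorem ncard_class : (classV D).ncard = 1771 ∧
    ∀ {cv : Bool}, IsVariant D cv → ∀ n < 2048, n ≠ 0 →
      isZ D n = !((orbOval ||| (bif isZ D 128 then (masks cv).getD 5 0 else (masks cv).getD 3 0)).testBit n) := by
  classical
  have main : ∀ {cv : Bool}, IsVariant D cv → ∀ n < 2048, n ≠ 0 →
      isZ D n = !((orbOval ||| (bif isZ D 128 then (masks cv).getD 5 0
        else (masks cv).getD 3 0)).testBit n) := by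
    intro cv hv n hn h0
    obtain ⟨p5, p129, pd⟩ := isZ_pattern D hf hv
    have hc := List.all_eq_true.1 (List.all_eq_true.1 (colour_mask cv) n (List.mem_range.2 hn))
    have hh : ∀ i < 6, ((masks cv).getD i 0).testBit n = decide (colour cv n = i) := by
      intro i hi
      have := hc i (List.mem_range.2 hi)
      rwa [show Nat.beq n 0 = false from nat_beq_eq n 0 ▸ decide_eq_false h0, Bool.false_or,
        beq_iff_eq, nat_beq_eq] at this
    have h1 : orbOval.testBit n = decide (colour cv n = 1) := hh 1 (by norm_num)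
    rw [Nat.testBit_or, h1, const_isZ D hv hn h0]
    have hl := colour_lt cv n
    have z1 := isZ_root_z D
    have o1 := isZ_root_oval D hf
    cases b : isZ D 128 <;> simp only [b, cond_true, cond_false, hh _ (by norm_num : (5:ℕ) < 6),
        hh _ (by norm_num : (3:ℕ) < 6)] <;>
      (interval_cases colour cv n <;> simp_all [roots])
  refine ⟨?_, main⟩
  obtain ⟨cv, hv⟩ := exists_variant D
  rw [classV_ncard D hf]
  have key : ∀ cv b : Bool, ((Finset.range 2048).filter fun n => n ≠ 0 ∧
      (!((orbOval ||| (bif b then (masks cv).getD 5 0 else (masks cv).getD 3 0)).testBit n)) =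
        true).card = 1771 := by
    decide +kernel
  rw [← key cv (isZ D 128)]
  refine congrArg Finset.card (Finset.filter_congr fun n hn => ?_)
  by_cases h0 : n = 0
  · simp [h0, isZ_zero D]
  · simp [h0, main hv n (Finset.mem_range.1 hn) h0]

/-- The complement of the class among the nontrivial elements. -/
noncomputable def bMask (cv : Bool) : ℕ :=
  orbOval ||| (bif isZ D 128 then (masks cv).getD 5 0 else (masks cv).getD 3 0)

theorem bMask_act {cv : Bool} (hv : IsVariant D cv) {g : G} (hg : g ∈ normalizer (D.V : Set G))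
    {n : ℕ} (hn : n < 2048) : (bMask D cv).testBit (act D g n) = (bMask D cv).testBit n := by
  have h0 : ∀ b : Bool, ∀ cv : Bool,
      (orbOval ||| (bif b then (masks cv).getD 5 0 else (masks cv).getD 3 0)).testBit 0 = false := by
    decide +kernel
  by_cases hn0 : n = 0
  · subst hn0
    have e : act D g 0 = 0 := by
      have := act_xor D hg (show (0 : ℕ) < 2048 by norm_num) (show (0 : ℕ) < 2048 by norm_num)
      rwa [Nat.xor_self, Nat.xor_self] at this
    rw [e]
  · obtain ⟨h1, h2⟩ := vE_act D hg hn
    have hne : act D g n ≠ 0 := by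
      intro e
      rw [e, vE_zero] at h2
      exact hn0 (vE_inj D hn (conj_eq_one_iff.1 h2.symm))
    have := isZ_act D hg hn
    rw [(ncard_class D hf).2 hv _ h1 hne, (ncard_class D hf).2 hv _ hn hn0] at this
    exact Bool.not_inj this

theorem valency_act {cv : Bool} (hv : IsVariant D cv) {g : G}
    (hg : g ∈ normalizer (D.V : Set G)) {u : ℕ} (hu : u < 2048) :
    valency (bMask D cv) (act D g u) = valency (bMask D cv) u := by
  classical
  have fin : ∀ u, valency (bMask D cv) u = ((Finset.range 2048).filter fun w =>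
      ((bMask D cv).testBit w && (bMask D cv).testBit (u ^^^ w)) = true).card := by
    intro u
    rw [valency, List.countP_eq_length_filter,
      ← List.toFinset_card_of_nodup (List.nodup_range.filter _), List.toFinset_filter,
      List.toFinset_range]
  rw [fin, fin]
  symm
  refine Finset.card_bij (fun w _ => act D g w) ?_ ?_ ?_
  · intro w hw
    simp only [Finset.mem_filter, Finset.mem_range] at hw ⊢
    refine ⟨(vE_act D hg hw.1).1, ?_⟩
    rw [← act_xor D hg hu hw.1, bMask_act D hf hv hg hw.1,
      bMask_act D hf hv hg (Nat.xor_lt_two_pow (n := 11) hu hw.1)]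
    exact hw.2
  · intro a ha b hb e
    exact act_inj D hg (Finset.mem_range.1 (Finset.mem_filter.1 ha).1)
      (Finset.mem_range.1 (Finset.mem_filter.1 hb).1) e
  · intro v hv'
    simp only [Finset.mem_filter, Finset.mem_range] at hv'
    refine ⟨act D g⁻¹ v, ?_, ?_⟩
    · have hgi : g⁻¹ ∈ normalizer (D.V : Set G) := inv_mem hg
      simp only [Finset.mem_filter, Finset.mem_range]
      obtain ⟨w1, w2⟩ := vE_act D hgi hv'.1
      refine ⟨w1, ?_⟩
      have e : act D g (act D g⁻¹ v) = v := by
        rw [← act_mul D hgi hv'.1, mul_inv_cancel, act, one_mul, inv_one, mul_one, cV_vE D hv'.1]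
      rw [← bMask_act D hf hv hg w1, ← bMask_act D hf hv hg (Nat.xor_lt_two_pow (n := 11) hu w1),
        act_xor D hg hu w1, e]
      exact hv'.2
    · rw [← act_mul D (inv_mem hg) hv'.1, mul_inv_cancel, act, one_mul, inv_one, mul_one,
        cV_vE D hv'.1]

/-- The extension is the covering one and the class avoids the low orbit. -/
theorem variant_cover {cv : Bool} (hv : IsVariant D cv) : cv = true ∧ isZ D 128 = false := by
  by_contra hcon
  set o := bif isZ D 128 then 132 else 128 with ho
  have hval : valency (bMask D cv) 1 ≠ valency (bMask D cv) o := by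
    rw [ho, bMask]
    cases cv <;> cases h : isZ D 128 <;> simp only [cond_true, cond_false, masks,
      List.getD_cons_succ, List.getD_cons_zero]
    · exact valency_split.1
    · exact valency_split.2
    · exact absurd ⟨rfl, h⟩ hcon
    · rw [valency_high.1]; exact fun e => valency_high.2 e.symm
  have hconst : ∀ n < 2048, n ≠ 0 → (valency (bMask D cv) n == valency (bMask D cv) 1) =
      (valency (bMask D cv) (roots.getD (colour cv n) 0) == valency (bMask D cv) 1) :=
    const_on_colour (cv := cv) (fun n => valency (bMask D cv) n == valency (bMask D cv) 1)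
      fun k hk v hv' => by rw [← hv k hk v hv', valency_act D hf hv (gen9_mem D hk).2 hv']
  have key : ∀ g ∈ normalizer (D.V : Set G), ∀ a < 2048, orbOval.testBit a = true →
      orbOval.testBit (act D g a) = true := by
    intro g hg a ha hao
    have ha0 : a ≠ 0 := by
      rintro rfl
      exact absurd hao (by decide +kernel)
    obtain ⟨b1, -⟩ := vE_act D hg ha
    have hB : (bMask D cv).testBit (act D g a) = true := by
      rw [bMask_act D hf hv hg ha, bMask, Nat.testBit_or, hao]; rfl
    have hb0 : act D g a ≠ 0 := by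
      intro e
      rw [e] at hB
      revert hB
      rw [bMask]
      cases isZ D 128 <;> cases cv <;> decide +kernel
    have hc := fun i (hi : i < 6) =>
      List.all_eq_true.1 (List.all_eq_true.1 (colour_mask cv) _ (List.mem_range.2 b1)) i
        (List.mem_range.2 hi)
    have hh : ∀ i < 6, ((masks cv).getD i 0).testBit (act D g a) =
        decide (colour cv (act D g a) = i) := by
      intro i hi
      have := hc i hi
      rwa [show Nat.beq (act D g a) 0 = false from nat_beq_eq _ 0 ▸ decide_eq_false hb0,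
        Bool.false_or, beq_iff_eq, nat_beq_eq] at this
    have hca : colour cv a = 1 := by
      have key : ∀ cv : Bool, ∀ v < 2048, orbOval.testBit v = true → colour cv v = 1 := by
        decide +kernel
      exact key cv a ha hao
    have h1 := hconst a ha ha0
    rw [hca] at h1
    have h1' : valency (bMask D cv) a = valency (bMask D cv) 1 := by simpa [roots] using h1
    have h2 := hconst _ b1 hb0
    rw [valency_act D hf hv hg ha, h1', beq_self_eq_true] at h2
    show ((masks cv).getD 1 0).testBit (act D g a) = true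
    rw [hh 1 (by norm_num), decide_eq_true_iff]
    by_contra hne
    rw [bMask, Nat.testBit_or] at hB
    have e1 : orbOval.testBit (act D g a) = false := by
      have := hh 1 (by norm_num)
      simpa [masks, hne] using this
    rw [e1, Bool.false_or] at hB
    cases h : isZ D 128
    · rw [h, cond_false, hh 3 (by norm_num), decide_eq_true_iff] at hB
      rw [hB] at h2
      exact hval (by rw [ho, h]; exact (eq_of_beq h2.symm).symm)
    · rw [h, cond_true, hh 5 (by norm_num), decide_eq_true_iff] at hB
      rw [hB] at h2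
      exact hval (by rw [ho, h]; exact (eq_of_beq h2.symm).symm)
  have small : ∀ v < 2048, isZ D v = true → v < 128 := by
    intro v hv' hz
    have hc : IsConj z (vE D v) := by simpa [isZ] using hz
    obtain ⟨k, hk, he⟩ := class_control D hf (vE_mem D hv') hc
    have e : v = act D k 64 := by rw [act, vE_z, he, cV_vE D hv']
    have ov : orbOval.testBit 1 = true ∧ orbOval.testBit 65 = true ∧ (1 : ℕ) ^^^ 65 = 64 ∧
        ∀ w < 2048, orbOval.testBit w = true → w < 128 := by decide +kernel
    obtain ⟨o1, o2, o3, o4⟩ := ov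
    rw [e, ← o3, act_xor D hk (by norm_num) (by norm_num)]
    exact Nat.xor_lt_two_pow (n := 7)
      (o4 _ (vE_act D hk (by norm_num)).1 (key k hk 1 (by norm_num) o1))
      (o4 _ (vE_act D hk (by norm_num)).1 (key k hk 65 (by norm_num) o2))
  have hle : (classV D).ncard ≤ 128 := by
    rw [classV_ncard D hf]
    refine le_trans (Finset.card_le_card (t := Finset.range 128) ?_) (by simp)
    intro v hv'
    simp only [Finset.mem_filter, Finset.mem_range] at hv' ⊢
    exact small v hv'.1 hv'.2
  rw [(ncard_class D hf).1] at hle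
  omega

theorem exists_cover : IsVariant D true ∧ ∀ n < 2048, n ≠ 0 →
    isZ D n = !inB n := by
  obtain ⟨cv, hv⟩ := exists_variant D
  obtain ⟨rfl, h128⟩ := variant_cover D hf hv
  refine ⟨hv, fun n hn h0 => ?_⟩
  rw [(ncard_class D hf).2 hv n hn h0, h128]
  rfl

theorem goodMap_act {g : G} (hg : g ∈ normalizer (D.V : Set G)) : GoodMap (act D g) where
  lt v hv := (vE_act D hg hv).1
  add v hv u hu := act_xor D hg hv hu
  inj v hv u hu h := act_inj D hg hv hu h
  presB v hv hB := by
    have hv0 : v ≠ 0 := by
      rintro rfl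
      exact absurd hB (by decide +kernel)
    obtain ⟨hcv, hc⟩ := exists_cover D hf
    obtain ⟨h1, h2⟩ := vE_act D hg hv
    have hne : act D g v ≠ 0 := by
      intro e
      rw [e, vE_zero] at h2
      exact hv0 (vE_inj D hv (conj_eq_one_iff.1 h2.symm))
    have := isZ_act D hg hv
    rw [hc v hv hv0, hc _ h1 hne, hB] at this
    simpa using this

theorem z_mem_derived : z ∈ ⁅CP z P, CP z P⁆ := by
  obtain ⟨hcv, -⟩ := exists_cover D hf
  have hm : ∀ c < 16, vC D c ∈ ⁅CP z P, CP z P⁆ := by
    intro c hc
    have pre : ∀ c < 16, ∃ d < 16, d ^^^ (cjTab.getD 0 []).getD d 0 = c := by decide +kernel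
    obtain ⟨d, hd, rfl⟩ := pre c hc
    have h0 : (0 : ℕ) < 3 := by norm_num
    have l1 := (F.lev_spec h0).1
    obtain ⟨v1, -, -⟩ := vC_spec D hd
    have hmem := commutator_mem_commutator l1 (V0_le_CP D v1)
    have hlt := (cjTab_ok 0 h0 d hd).1
    have h := lev_conj D h0 hd
    rw [(aOf_spec D h0).2 d hd, aOf_zero D,
      show chiV 0 d = false from by simp [chiV, bb], show F.zp false = 1 from rfl, mul_one] at h
    have e : ⁅F.lev 0, vC D d⁆ = vC D (d ^^^ (cjTab.getD 0 []).getD d 0) := by
      rw [commutatorElement_def, h, inv_eq_of_mul_eq_one_right (V_sq D v1.1), vC_mul D hlt hd,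
        Nat.xor_comm]
    rwa [e] at hmem
  have h1 : (1 : ℕ) < 3 := by norm_num
  have hc2 : (2 : ℕ) < 16 := by norm_num
  obtain ⟨v1, -, -⟩ := vC_spec D hc2
  have hlt := (cjTab_ok 1 h1 2 hc2).1
  obtain ⟨w1, -, -⟩ := vC_spec D hlt
  have hg : F.gen9 1 = F.lev 1 := rfl
  have e := hcv 1 (by norm_num) (pack 0 false 2) (pack_parts 0 (by norm_num) false 2 hc2).1
  have key : mv ((gensV true).getD 1 []) (pack 0 false 2) =
      pack 0 true ((cjTab.getD 1 []).getD 2 0) := by decide +kernel
  obtain ⟨a1, a2⟩ := vE_act D (gen9_mem D (show 1 < 9 by norm_num)).2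
    (pack_parts 0 (by norm_num) false 2 hc2).1
  rw [e, key, hg, vE_vC D hc2, vE_vC D hlt, show F.zp false = 1 from rfl, one_mul] at a2
  have hmem := commutator_mem_commutator (F.lev_spec h1).1 (V0_le_CP D v1)
  rw [commutatorElement_def, ← a2, inv_eq_of_mul_eq_one_right (V_sq D v1.1)] at hmem
  have := (⁅CP z P, CP z P⁆).mul_mem hmem
    ((⁅CP z P, CP z P⁆).mul_mem (hm _ hc2) (hm _ hlt))
  rw [mul_assoc, ← mul_assoc (vC D 2), V_sq D v1.1, one_mul, mul_assoc, V_sq D w1.1,
    mul_one] at this
  exact this

/-- The outcome of the analysis. -/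
theorem local_of_fused : Local D := by
  obtain ⟨hcv, hc⟩ := exists_cover D hf
  refine ⟨(ncard_class D hf).1, fun u hu h => class_control D hf hu h, z_mem_derived D hf, ?_⟩
  have ex : ∃ a < 2048, ∃ b < 2048, a % 64 = 0 ∧ b % 64 = 0 ∧ a ≠ 0 ∧ b ≠ 0 ∧ a ^^^ b ≠ 0 ∧
      a ≠ 64 ∧ b ≠ 64 ∧ a ^^^ b ≠ 64 ∧ inB a = false ∧ inB b = false ∧
      inB (a ^^^ b) = false := by
    decide +kernel
  obtain ⟨a, ha, b, hb, a6, b6, a0, b0, ab0, az, bz, abz, aB, bB, abB⟩ := ex
  have hab : a ^^^ b < 2048 := Nat.xor_lt_two_pow (n := 11) ha hb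
  have centP : ∀ n < 2048, n % 64 = 0 → vE D n ∈ centralizer (P : Set G) := by
    intro n hn h6
    rw [vE, h6, F.eE_zero, one_mul]
    exact mul_mem (F.zp_mem_centP _) (vC_spec D (show n / 128 < 16 by omega)).1.2
  have conjZ : ∀ n < 2048, n ≠ 0 → inB n = false → IsConj z (vE D n) := by
    intro n hn h0 h
    have := hc n hn h0
    rw [h] at this
    simpa [isZ] using this
  have nez : ∀ n < 2048, n ≠ 64 → vE D n ≠ z := fun n hn h e =>
    h (vE_injOn D hn (by norm_num) (by rw [e, vE_z]))
  refine ⟨vE D a, vE D b, ⟨vE_mem D ha, centP a ha a6⟩, ⟨vE_mem D hb, centP b hb b6⟩,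
    nez a ha az, nez b hb bz, by rw [← vE_xor D ha hb]; exact nez _ hab abz,
    fun e => a0 (vE_inj D ha e), fun e => b0 (vE_inj D hb e),
    fun e => ab0 (Nat.xor_eq_zero_iff.2 (vE_injOn D ha hb e)),
    conjZ a ha a0 aB, conjZ b hb b0 bB, by rw [← vE_xor D ha hb]; exact conjZ _ hab ab0 abB⟩

end Frame

end CfsgLib.J4Type
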