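import Cfsg.Agent.Lib.J4Type.NV.Data

/-!
The formulas for conjugation on the group of order `2 ^ 11`, and their comparison with the recorded
matrices.
-/

set_option autoImplicit false
set_option maxRecDepth 100000
set_option Elab.async false

namespace CfsgLib.J4Type.NV

/-- The scalar. -/
def w1 (v : ℕ) : ℕ := mv pOm v

/-- The square of the scalar. -/
def w2 (v : ℕ) : ℕ := mv pOm (mv pOm v)

/-- The defect of the product of two canonical elements of the radical. -/
def beta (v w : ℕ) : Bool := (bF w (w1 v)).xor ((bF w (w2 v)).xor (bF (w1 w) (w2 v)))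

/-- An element of the upper radical. -/
def upM (c : ℕ) : List ℕ :=
  (List.range 4).foldr (fun i m => bif c.testBit i then mm (upperB.getD i idM) m else m) idM

/-- The three Levi generators. -/
def levG : List (List ℕ) := [kX, kA, kB]

/-- Conjugation by the Levi generators on the upper radical, tabulated. -/
def cjTab : List (List ℕ) :=
  [[0, 4, 8, 12, 5, 1, 13, 9, 10, 14, 2, 6, 15, 11, 7, 3],
   [0, 2, 3, 1, 15, 13, 12, 14, 5, 7, 6, 4, 10, 8, 9, 11],
   [0, 4, 2, 6, 7, 3, 5, 1, 14, 10, 12, 8, 9, 13, 11, 15]]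

/-- Parity of the common bits below four. -/
def chiV (a c : ℕ) : Bool :=
  (bb (a &&& c) 0 0).xor ((bb (a &&& c) 1 1).xor ((bb (a &&& c) 2 2).xor (bb (a &&& c) 3 3)))

/-- A number from its parts. -/
def pack (w : ℕ) (e : Bool) (c : ℕ) : ℕ := w ^^^ ((bif e then 64 else 0) ^^^ (c * 128))

/-- The conjugate of a basis vector by a Levi generator. -/
def levBasis (k a i : ℕ) : ℕ :=
  if i < 6 then mv (levG.getD k idM) (2 ^ i)
  else if i = 6 then 64
  else pack 0 (chiV a (2 ^ (i - 7))) ((cjTab.getD k []).getD (2 ^ (i - 7)) 0)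

/-- The conjugate of a basis vector by the canonical lift of a basis vector of the lower plane. -/
def radBasis (j i : ℕ) : ℕ :=
  let b := 2 ^ (6 + j)
  if i < 6 then pack (2 ^ i) (bF (2 ^ i) b) 0
  else if i = 6 then 64
  else
    let b' := mv (upM (2 ^ (i - 7))) b
    pack (b' ^^^ b) (beta b' b) (2 ^ (i - 7))

theorem gensSplit_eq : gensSplit = ((List.range 3).map fun k => (List.range 11).map (levBasis k 0))
    ++ (List.range 6).map fun j => (List.range 11).map (radBasis j) := by decide +kernel

theorem gensCover_eq : gensCover = ((List.range 3).map fun k =>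
    (List.range 11).map (levBasis k ([0, 6, 12].getD k 0)))
    ++ (List.range 6).map fun j => (List.range 11).map (radBasis j) := by decide +kernel

/-- Composition of the action on the radical part along a word, with the central bit. -/
def evalW (cs : List ℕ) : List ℕ → ℕ × Bool → ℕ × Bool
  | [], x => x
  | k :: w, x =>
    let y := evalW cs w x
    ((cjTab.getD k []).getD y.1 0, y.2.xor (chiV (cs.getD k 0) y.1))

theorem relations_pin : ∀ a < 16, ∀ b < 16,
    (∀ w ∈ relW, ∀ c < 16, evalW [0, a, b] w (c, false) = (c, false)) →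
      (a = 0 ∧ b = 0) ∨ (a = 6 ∧ b = 12) := by decide +kernel

theorem relW_scalar : ∀ w ∈ relW,
    (w.foldr (fun k m => mm (levG.getD k idM) m) idM) ∈ [idM, pOm, mm pOm pOm] := by decide +kernel

theorem relW_lt : ∀ w ∈ relW, ∀ k ∈ w, k < 3 := by decide +kernel

theorem cjTab_ok : ∀ k < 3, ∀ c < 16, (cjTab.getD k []).getD c 0 < 16 ∧
    mm (upM ((cjTab.getD k []).getD c 0)) (levG.getD k idM) = mm (levG.getD k idM) (upM c) := by
  decide +kernel

theorem upM_mul : ∀ a < 16, ∀ b < 16, mm (upM a) (upM b) = upM (a ^^^ b) := by decide +kernel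

theorem upM_inj : ∀ a < 16, upM a = idM → a = 0 := by decide +kernel

theorem upM_one : upM 0 = idM ∧ mm qU idM = qU ∧ upM 1 = qU := by decide +kernel

theorem cjTab_generate : (cjTab.getD 1 []).getD 1 0 = 2 ∧ (cjTab.getD 2 []).getD 1 0 = 4 ∧
    (cjTab.getD 0 []).getD 2 0 = 8 := by decide +kernel

theorem kX_fpf : ∀ c < 16, c ^^^ ((cjTab.getD 0 []).getD c 0 ^^^
    (cjTab.getD 0 []).getD ((cjTab.getD 0 []).getD c 0) 0) = 0 := by decide +kernel

theorem lev_comm_scalar : ∀ k < 3, mm (levG.getD k idM) pOm = mm pOm (levG.getD k idM) := by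
  decide +kernel

theorem kX_cube : mm kX (mm kX kX) = idM := by decide +kernel

theorem scalar_sum : (List.range 4096).all (fun v => Nat.beq (v ^^^ (w1 v ^^^ w2 v)) 0) = true := by
  decide +kernel

theorem perp_check : (List.range 4096).all (fun u => (Nat.blt u 64) ||
    (List.range 6).any fun i => bF (2 ^ i) u) = true := by decide +kernel

theorem plane_invariant : ∀ k < 3, ∀ i < 6, mv (levG.getD k idM) (2 ^ i) < 64 := by decide +kernel

theorem plane_beta : ∀ v < 64, ∀ w < 64, beta v w = false ∧ bF v w = false := by decide +kernel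

end CfsgLib.J4Type.NV
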