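import Cfsg.Agent.Lib.J4Type.NV.SplitData
import Cfsg.Agent.Lib.J4Type.NV.CountChecks
import Cfsg.Agent.Lib.J4Type.NV.Formulas
import Cfsg.Agent.Lib.J4Type.NV.Graph
import Cfsg.Agent.Lib.J4Type.Cert.Decomp

/-!
Finite facts for the complement of the elementary abelian group of order `2 ^ 11` in its normaliser.
-/

set_option autoImplicit false
set_option maxRecDepth 100000
set_option Elab.async false

namespace CfsgLib.J4Type.NV

open CfsgLib.Golay

/-- A generator of the cover variant. -/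
def gC (k : ℕ) : List ℕ := gensCover.getD k []

/-- The action of a word in the generators. -/
def wordF (w : List ℕ) (n : ℕ) : ℕ := w.foldr (fun k v => mv (gC k) v) n

/-- The semilinear involution on the module, with given central bits. -/
def sigM (a : ℕ) : List ℕ :=
  (List.range 11).map fun i => if i < 6 then mv sig (2 ^ i)
    else if i = 6 then 64 else pack 0 (chiV a (2 ^ (i - 7))) (cjSig.getD (2 ^ (i - 7)) 0)

/-- The semilinear involution on the module. -/
def sF (n : ℕ) : ℕ := mv (sigM 0) n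

theorem sigM_lt : ∀ a < 16, ∀ x ∈ sigM a, x < 2048 := by decide +kernel

theorem sig_pin : ∀ a < 16,
    (∀ k < 3, ∀ i < 11, mv (sigM a) (mv (gC k) (mv (sigM a) (2 ^ i))) =
      wordF (sigWords.getD k []) (2 ^ i)) → a = 0 := by decide +kernel

theorem sigWords_mat : ∀ k < 3, mm sig (mm (levG.getD k idM) sig) =
    (sigWords.getD k []).foldr (fun j m => mm (levG.getD j idM) m) idM ∧
      ∀ j ∈ sigWords.getD k [], j < 3 := by decide +kernel

theorem cjSig_ok : ∀ c < 16, cjSig.getD c 0 < 16 ∧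
    mm (upM (cjSig.getD c 0)) sig = mm sig (upM c) ∧
    ∀ d < 16, cjSig.getD (c ^^^ d) 0 = cjSig.getD c 0 ^^^ cjSig.getD d 0 := by decide +kernel

theorem sig_scalar : mm sig pOm = mm (mm pOm pOm) sig ∧ mm sig pOm ≠ mm pOm sig ∧
    (∀ i < 6, mv sig (2 ^ i) < 64) ∧ mm sig sig = idM := by decide +kernel

theorem wd_lt : (∀ k ∈ wdA, k < 3) ∧ ∀ k ∈ wdB, k < 3 := by decide +kernel

/-- Matrix of the first Levi involution. -/
def mA : List ℕ := wdA.foldr (fun k m => mm (levG.getD k idM) m) idM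

/-- Matrix of the second Levi involution. -/
def mB : List ℕ := wdB.foldr (fun k m => mm (levG.getD k idM) m) idM

theorem six_sq : mm mA mA = idM ∧ mm mB mB = idM ∧
    mm (mm (mm mA mB) (mm mA mB)) (mm (mm mA mB) (mm mA mB)) = idM ∧
    mm (mm sig mA) (mm sig mA) = idM ∧ mm (mm sig mB) (mm sig mB) = idM := by decide +kernel

/-- The six actions. -/
def sixF (j : ℕ) (n : ℕ) : ℕ :=
  [wordF wdA n, wordF wdB n, wordF (wdA ++ wdB ++ (wdA ++ wdB)) n, sF n, sF (wordF wdA n),
    sF (wordF wdB n)].getD j 0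

/-- The word of an element of the lower plane. -/
def lowW (c : ℕ) : List ℕ := ((List.range 6).filter fun i => c.testBit i).map (· + 3)

/-- One item of the data. -/
def item (j : ℕ) : ℕ × ℕ × ℕ × ℕ := sixData.getD j (0, 0, 0, 0)

theorem six_ok : ∀ j < 6, inM24 (item j).1 = true ∧ inM24 (item j).2.1 = true ∧
    inM24 (item j).2.2.2 = true ∧ (item j).2.2.1 < 64 ∧
    (∀ p < 24, img (item j).1 (img (item j).2.1 p) =
      img (item j).2.1 (img (item j).2.2.2 p)) ∧
    (∀ p < 24, ∀ q < 24, sixF j (tabV p q) = tabV (img (item j).1 p) (img (item j).1 q) ∧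
      wordF (lowW (item j).2.2.1) (tabV p q) =
        tabV (img (item j).2.2.2 p) (img (item j).2.2.2 q)) ∧
    ∀ n < 2048, sixF j n ^^^ n ≠ 64 := by decide +kernel

/-- The sixteen matrices. -/
def d16 : List (List ℕ) :=
  let r : List (List ℕ) := [idM, mA, mB, mm mA mB, mm mB mA, mm mA (mm mB mA), mm mB (mm mA mB),
    mm (mm mA mB) (mm mA mB)]
  r ++ r.map (mm sig)

theorem d16_ok : d16.Nodup ∧ d16.length = 16 ∧ d16.getD 0 [] = idM ∧
    (∀ m ∈ d16, m = idM ∨ ∃ i < 12, 6 ≤ i ∧ 64 ≤ mv m (2 ^ i) ^^^ 2 ^ i) ∧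
    ∀ g ∈ [mA, mB, sig], ∀ v < 64, mv g (64 * v) % 64 = 0 := by decide +kernel

theorem low_ok : ∀ v < 64, ∀ w < 64, beta (64 * v) (64 * w) = false ∧
    bF (64 * v) (64 * w) = false ∧ qF (64 * v) = false ∧ w1 (64 * v) % 64 = 0 ∧
    w2 (64 * v) % 64 = 0 := by decide +kernel

end CfsgLib.J4Type.NV
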