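import Cfsg.Agent.Lib.J4Type.NV.Norm
import Cfsg.Agent.Lib.J4Type.NV.SplitChecks
import Cfsg.Agent.Lib.Solvable.Gaschutz

/-!
The normaliser of the elementary abelian group of order `2 ^ 11` splits over it: a group of order
`2 ^ 10` made of lifts of a Levi subgroup and of the lower plane meets it trivially.
-/

set_option autoImplicit false
set_option linter.unusedSectionVars false
set_option maxRecDepth 100000
set_option maxHeartbeats 800000

namespace CfsgLib.J4Type

open Cfsg Subgroup NV CfsgLib.Golay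

variable {G : Type*} [Group G] [Finite G] {z : G} {P : Subgroup G}

namespace Frame

theorem sixF_eq : (∀ n, sixF 0 n = wordF wdA n) ∧ (∀ n, sixF 1 n = wordF wdB n) ∧
    (∀ n, sixF 2 n = wordF (wdA ++ wdB ++ (wdA ++ wdB)) n) ∧ (∀ n, sixF 3 n = sF n) ∧
    (∀ n, sixF 4 n = sF (wordF wdA n)) ∧ ∀ n, sixF 5 n = sF (wordF wdB n) := by
  refine ⟨fun n => ?_, fun n => ?_, fun n => ?_, fun n => ?_, fun n => ?_, fun n => ?_⟩ <;>
    simp only [sixF, List.getD_cons_zero, List.getD_cons_succ]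

variable {F : Frame z P} (D : VData F)
include D

theorem act_one {n : ℕ} (hn : n < 2048) : act D 1 n = n := by
  rw [act, one_mul, inv_one, mul_one, cV_vE D hn]

/-- An element squaring into the centre of the centraliser acts as an involution. -/
theorem act_two {h : G} (hn : h ∈ normalizer (D.V : Set G)) {b : Bool} (hb : h * h = F.zp b)
    {n : ℕ} (hn' : n < 2048) : act D h (act D h n) = n := by
  rw [← act_mul D hn hn', hb, act,
    V_comm D (zp_mem_V D b) (vE_mem D hn'), mul_inv_cancel_right, cV_vE D hn']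

theorem norm_cases {h : G} (hh : h ∈ Cen z) (hP : h ∈ normalizer (P : Set G))
    (hm : F.mat h = idM) : ∃ b, h = F.zp b := by
  have hr := (F.mat_eq_id h hh).1 hm
  have hc : h ∈ centralizer (P : Set G) := (F.mem_CP_of_comm hh hP (by rw [hm]; decide +kernel)).2
  rcases F.mem_rad_centP hr hc with e | e
  · exact ⟨false, e⟩
  · exact ⟨true, e⟩

theorem word_act (hv : IsVariant D true) : ∀ (w : List ℕ), (∀ k ∈ w, k < 9) → ∀ n < 2048,
    (w.map F.gen9).prod ∈ normalizer (D.V : Set G) ∧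
    act D (w.map F.gen9).prod n = wordF w n
  | [], _, n, hn => ⟨one_mem _, act_one D hn⟩
  | k :: w, h, n, hn => by
    obtain ⟨i1, i2⟩ := word_act hv w (fun j hj => h j (by simp [hj])) n hn
    have hk := h k (by simp)
    refine ⟨mul_mem (gen9_mem D hk).2 i1, ?_⟩
    rw [List.map_cons, List.prod_cons, act_mul D i1 hn, hv k hk _ (vE_act D i1 hn).1, i2]
    rfl

variable (F) in
/-- A lift of the semilinear involution. -/
noncomputable def sl : G := (F.mat_surj sig (InL.of_gen (by simp [gensL]))).choose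

theorem sl_spec : F.sl ∈ Cen z ∧ F.sl ∈ normalizer (P : Set G) ∧ F.mat (F.sl) = sig ∧
    F.sl ∈ normalizer (D.V : Set G) := by
  obtain ⟨h, hm⟩ := (F.mat_surj sig (InL.of_gen (by simp [gensL]))).choose_spec
  refine ⟨h.1, h.2, hm, mem_norm_of_plane D h.1 fun i hi => ?_⟩
  rw [show F.mat (F.sl) = sig from hm]
  exact sig_scalar.2.2.1 i hi

theorem sl_sq : ∃ b, F.sl * F.sl = F.zp b := by
  obtain ⟨h1, h2, h3, -⟩ := sl_spec D
  exact norm_cases D (mul_mem h1 h1) (mul_mem h2 h2)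
    (by rw [F.mat_mul _ h1 _ h1, h3, sig_scalar.2.2.2])

theorem sl_conj_p0 : F.sl * F.p0 * (F.sl)⁻¹ = F.p0 * F.p0 := by
  obtain ⟨h1, h2, h3, -⟩ := sl_spec D
  have hc : F.sl * F.p0 * (F.sl)⁻¹ ∈ zpowers F.p0 :=
    F.zpowers_p0.ge ((mem_normalizer_iff.1 h2 _).1 F.p0_mem)
  obtain ⟨k, hk⟩ :=
    (isOfFinOrder_iff_pow_eq_one.2 ⟨3, by norm_num, F.p0_cube⟩).mem_powers_iff_mem_zpowers.2 hc
  change F.p0 ^ k = _ at hk
  rw [pow_eq_pow_mod k F.p0_cube] at hk
  have hlt := Nat.mod_lt k (show 0 < 3 by norm_num)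
  have hne := sig_scalar.2.1
  interval_cases hk3 : k % 3
  · exfalso
    rw [pow_zero] at hk
    have hp : F.p0 = 1 := conj_eq_one_iff.1 hk.symm
    have := F.mat_p0
    rw [hp, F.mat_one] at this
    exact absurd this (by decide)
  · exfalso
    rw [pow_one] at hk
    have e : F.sl * F.p0 = F.p0 * F.sl := (eq_mul_inv_iff_mul_eq.1 hk).symm
    have := congrArg F.mat e
    rw [F.mat_mul _ h1 _ F.p0_mem_cen, F.mat_mul _ F.p0_mem_cen _ h1, h3, F.mat_p0] at this
    exact hne this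
  · rw [← hk, pow_two]

/-- The semilinear lift carries canonical elements on isotropic pairs to canonical elements. -/
theorem sl_conj_eE {v : ℕ} (hv : v < 4096) (h12 : bF v (w1 v) = false)
    (h13 : bF v (w2 v) = false) (h23 : bF (w1 v) (w2 v) = false) :
    F.sl * F.eE v * (F.sl)⁻¹ = F.eE (mv sig v) := by
  obtain ⟨h1, -, h3, -⟩ := sl_spec D
  obtain ⟨x0, cx, nx⟩ := F.eE_spec hv
  set x := F.eE v
  set s := F.sl
  have x1 := F.rad_conj F.p0_mem_cen x0
  have x2 := F.rad_conj F.p0_mem_cen x1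
  have cx1 := F.co_p0 x0
  have cx2 := F.co_p0_two x0
  rw [cx] at cx1 cx2
  set a := F.p0 * x * F.p0⁻¹ with ha
  set a' := F.p0 * a * F.p0⁻¹ with ha'
  have q : a * a' = a' * a := by
    have := F.comm_rad x1 x2
    rw [cx1, cx2, h23, if_neg (by simp), mul_one] at this
    exact this
  have hp : s * F.p0 * s⁻¹ = F.p0 * F.p0 := sl_conj_p0 D
  have p3 : F.p0 * F.p0 * F.p0 = 1 := by
    have := F.p0_cube
    simpa [pow_succ] using this
  have hpp : s * (F.p0 * F.p0) * s⁻¹ = F.p0 := by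
    calc s * (F.p0 * F.p0) * s⁻¹ = (s * F.p0 * s⁻¹) * (s * F.p0 * s⁻¹) := by group
      _ = F.p0 * F.p0 * F.p0 * F.p0 := by rw [hp]; group
      _ = F.p0 := by rw [p3, one_mul]
  have e1 : F.p0 * (s * x * s⁻¹) * F.p0⁻¹ = s * a' * s⁻¹ := by
    conv_lhs => rw [← hpp]
    rw [ha', ha]; group
  have e2 : F.p0 * (s * a' * s⁻¹) * F.p0⁻¹ = s * a * s⁻¹ := by
    conv_lhs => rw [← hpp]
    have : F.p0 * F.p0 * a' * (F.p0 * F.p0)⁻¹ = a := by
      rw [ha', ha]
      calc F.p0 * F.p0 * (F.p0 * (F.p0 * x * F.p0⁻¹) * F.p0⁻¹) * (F.p0 * F.p0)⁻¹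
          = (F.p0 * F.p0 * F.p0) * (F.p0 * x * F.p0⁻¹) * (F.p0 * F.p0 * F.p0)⁻¹ := by group
        _ = F.p0 * x * F.p0⁻¹ := by rw [p3, one_mul, inv_one, mul_one]
    calc s * (F.p0 * F.p0) * s⁻¹ * (s * a' * s⁻¹) * (s * (F.p0 * F.p0) * s⁻¹)⁻¹
        = s * (F.p0 * F.p0 * a' * (F.p0 * F.p0)⁻¹) * s⁻¹ := by group
      _ = s * a * s⁻¹ := by rw [this]
  have hn : F.nm (s * x * s⁻¹) = F.zp false := by
    show s * x * s⁻¹ * (F.p0 * (s * x * s⁻¹) * F.p0⁻¹) *
      (F.p0 * (F.p0 * (s * x * s⁻¹) * F.p0⁻¹) * F.p0⁻¹) = 1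
    rw [e1, e2]
    calc s * x * s⁻¹ * (s * a' * s⁻¹) * (s * a * s⁻¹) = s * (x * (a' * a)) * s⁻¹ := by group
      _ = s * (x * a * a') * s⁻¹ := by rw [← q]; group
      _ = 1 := by
        rw [show x * a * a' = 1 from nx, mul_one, mul_inv_cancel]
  have := F.eq_eE_mul (F.rad_conj h1 x0) hn
  rw [F.conj_co h1 x0, h3, cx] at this
  simpa [zp] using this

theorem sl_conj_vC {c : ℕ} (hc : c < 16) :
    ∃ b, F.sl * vC D c * (F.sl)⁻¹ = vC D (cjSig.getD c 0) * F.zp b := by
  obtain ⟨h1, h2, h3, h4⟩ := sl_spec D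
  obtain ⟨v1, v2, -⟩ := vC_spec D hc
  obtain ⟨hlt, e, -⟩ := cjSig_ok c hc
  have hu : F.sl * vC D c * (F.sl)⁻¹ ∈ V0 D := by
    refine ⟨conj_mem D h4 v1.1, mem_centralizer_iff.2 fun y hy => ?_⟩
    have hy' : (F.sl)⁻¹ * y * F.sl ∈ P := by
      have := (mem_normalizer_iff.1 (inv_mem h2) y).1 hy
      rwa [inv_inv] at this
    have := mem_centralizer_iff.1 v1.2 _ hy'
    calc y * (F.sl * vC D c * (F.sl)⁻¹) = F.sl * ((F.sl)⁻¹ * y * F.sl * vC D c) * (F.sl)⁻¹ := by
          group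
      _ = F.sl * (vC D c * ((F.sl)⁻¹ * y * F.sl)) * (F.sl)⁻¹ := by rw [this]
      _ = F.sl * vC D c * (F.sl)⁻¹ * y := by group
  have hm : F.mat (F.sl * vC D c * (F.sl)⁻¹) = upM (cjSig.getD c 0) := by
    refine F.mat_inv_cancel h1 (F.mat_length (V0_le_CP D hu).1) (upM_length _ hlt) ?_
    rw [← F.mat_mul _ (V0_le_CP D hu).1 _ h1, inv_mul_cancel_right,
      F.mat_mul _ h1 _ (V0_le_CP D v1).1, h3, v2, e]
  obtain ⟨b, hb⟩ := nmX_pair D hu
  exact ⟨b, eq_vC_mul D hu hlt hm hb⟩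

open Classical in
/-- The central bit of a conjugated canonical element. -/
noncomputable def sChi (c : ℕ) : Bool :=
  decide (F.sl * vC D c * (F.sl)⁻¹ ≠ vC D (cjSig.getD c 0))

theorem sl_basis {i : ℕ} (hi : i < 11) : F.sl * vE D (2 ^ i) * (F.sl)⁻¹ =
    vE D (mv (sigM (bits4 fun j => sChi D (2 ^ j))) (2 ^ i)) := by
  obtain ⟨h1, -, -, -⟩ := sl_spec D
  obtain ⟨hlt, hbit⟩ := chiV_bits fun j => sChi D (2 ^ j)
  have hget : ∀ a < 16, ∀ i < 11, mv (sigM a) (2 ^ i) = if i < 6 then mv sig (2 ^ i)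
      else if i = 6 then 64 else pack 0 (chiV a (2 ^ (i - 7))) (cjSig.getD (2 ^ (i - 7)) 0) := by
    decide +kernel
  rw [hget _ hlt i hi]
  conv_lhs => rw [basis_parts i hi]
  rcases Nat.lt_trichotomy i 6 with h | h | h
  · have hw : (2 : ℕ) ^ i < 64 := (Nat.pow_lt_pow_right (by norm_num) h : 2 ^ i < 2 ^ 6)
    have hs : ∀ v < 64, bF v (w1 v) = false ∧ bF v (w2 v) = false ∧
        bF (w1 v) (w2 v) = false := by decide +kernel
    obtain ⟨a1, a2, a3⟩ := hs _ hw
    simp only [if_pos h, show ¬ 7 ≤ i by omega, show i ≠ 6 by omega, decide_false, if_false]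
    rw [vE_eE D hw, show F.zp false = 1 from rfl, mul_one,
      sl_conj_eE D (by omega) a1 a2 a3]
    have hp : mv sig (2 ^ i) < 64 := sig_scalar.2.2.1 i h
    have e : pack (mv sig (2 ^ i)) false 0 = mv sig (2 ^ i) := by simp [pack]
    rw [← e, vE_eE D hp, show F.zp false = 1 from rfl, mul_one, e]
  · subst h
    simp only [show ¬ (6 < 6) by omega, show ¬ (7 ≤ 6) by omega, decide_true, if_false, if_true]
    have e : (64 : ℕ) = pack 0 true 0 := by decide
    rw [e, vE_vC D (by norm_num), vC_zero D, mul_one, F.zp_comm h1, mul_inv_cancel_right]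
  · simp only [show ¬ i < 6 by omega, show 7 ≤ i by omega, show i ≠ 6 by omega, decide_false,
      if_false, if_true]
    have hc : 2 ^ (i - 7) < 16 :=
      (Nat.pow_lt_pow_right (by norm_num) (show i - 7 < 4 by omega) : 2 ^ (i - 7) < 2 ^ 4)
    have hl := (cjSig_ok _ hc).1
    rw [vE_vC D hc, show F.zp false = 1 from rfl, one_mul, vE_vC D hl, hbit _ (by omega)]
    obtain ⟨b, hb⟩ := sl_conj_vC D hc
    have : sChi D (2 ^ (i - 7)) = b := by
      rw [sChi]
      cases b
      · simpa [zp] using hb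
      · simp [zp] at hb
        simp [hb, F.z_ne]
    rw [this, hb, V_comm D (zp_mem_V D b) (vC_spec D hl).1.1]

theorem sl_act (hv : IsVariant D true) {n : ℕ} (hn : n < 2048) : act D (F.sl) n = sF n := by
  obtain ⟨h1, h2, h3, h4⟩ := sl_spec D
  obtain ⟨hlt, -⟩ := chiV_bits fun j => sChi D (2 ^ j)
  set a := bits4 fun j => sChi D (2 ^ j) with ha
  have hconj : ∀ n < 2048, act D (F.sl) n = mv (sigM a) n := by
    intro n hn
    rw [act, conj_of_basis D (sigM_lt a hlt) (fun i hi => sl_basis D hi) n hn,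
      cV_vE D (mv_lt_2048 _ _ (sigM_lt a hlt))]
  have key : a = 0 := by
    refine sig_pin a hlt fun k hk i hi => ?_
    have h11 : (2 : ℕ) ^ i < 2048 := (Nat.pow_lt_pow_right (by norm_num) hi : 2 ^ i < 2 ^ 11)
    obtain ⟨hw, hwl⟩ := sigWords_mat k hk
    obtain ⟨g1, g2⟩ := prod_lev D _ hwl
    obtain ⟨l1, l2⟩ := F.lev_spec hk
    obtain ⟨b, hb⟩ := sl_sq D
    set s := F.sl
    set W := ((sigWords.getD k []).map F.lev).prod
    have hcp : s * F.lev k * s ∈ normalizer (P : Set G) :=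
      mul_mem (mul_mem h2 ((centralizer_le_normalizer _) l1.2)) h2
    have hcc : s * F.lev k * s ∈ Cen z := mul_mem (mul_mem h1 l1.1) h1
    have hW : W⁻¹ * (s * F.lev k * s) ∈ Cen z := mul_mem (inv_mem g1.1) hcc
    have hm : F.mat (W⁻¹ * (s * F.lev k * s)) = idM := by
      rw [F.mat_mul _ (inv_mem g1.1) _ hcc, F.mat_mul _ (mul_mem h1 l1.1) _ h1,
        F.mat_mul _ h1 _ l1.1, h3, l2, mm_assoc sig (levG.getD k idM) sig, hw, ← g2,
        ← F.mat_mul _ (inv_mem g1.1) _ g1.1, inv_mul_cancel, F.mat_one]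
    obtain ⟨c, hc⟩ := norm_cases D hW
      (mul_mem (inv_mem ((centralizer_le_normalizer _) g1.2)) hcp) hm
    have e : s * F.lev k * s = W * F.zp c := by rw [← hc]; group
    have hg9 : F.gen9 k = F.lev k := by simp [gen9, hk]
    have hln : F.lev k ∈ normalizer (D.V : Set G) := lev_norm D hk
    have hWeq : W = ((sigWords.getD k []).map F.gen9).prod := by
      refine congrArg List.prod (List.map_congr_left fun j hj => ?_)
      simp [gen9, hwl j hj]
    obtain ⟨hWn, hWact⟩ := word_act D hv (sigWords.getD k [])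
      (fun j hj => lt_trans (hwl j hj) (by norm_num)) (2 ^ i) h11
    rw [← hWeq] at hWn hWact
    have hzn : F.zp c ∈ normalizer (D.V : Set G) := le_normalizer (zp_mem_V D c)
    have t1 : act D (s * F.lev k * s) (2 ^ i) = mv (sigM a) (mv (gC k) (mv (sigM a) (2 ^ i))) := by
      rw [mul_assoc, act_mul D (mul_mem hln h4) h11, act_mul D h4 h11, hconj _ h11,
        ← hg9, hv k (by omega) _ (mv_lt_2048 _ _ (sigM_lt a hlt)),
        hconj _ (mv_lt_2048 _ _ (fun x hx => ?_))]
      · rfl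
      · have key : ∀ k < 3, ∀ x ∈ gensCover.getD k [], x < 2048 := by decide +kernel
        exact key k hk x hx
    rw [e, act_mul D hzn h11] at t1
    have hz1 : act D (F.zp c) (2 ^ i) = 2 ^ i := by
      rw [act, V_comm D (zp_mem_V D c) (vE_mem D h11), mul_inv_cancel_right, cV_vE D h11]
    rw [hz1, hWact] at t1
    exact t1.symm
  rw [hconj n hn, key]
  rfl

variable (F) in
/-- The first Levi involution. -/
noncomputable def aE : G := (wdA.map F.gen9).prod

variable (F) in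
/-- The second Levi involution. -/
noncomputable def bE : G := (wdB.map F.gen9).prod

theorem levWord_spec {w : List ℕ} (hw : ∀ k ∈ w, k < 3) :
    (w.map F.gen9).prod ∈ CP z P ∧
      F.mat (w.map F.gen9).prod = w.foldr (fun k m => mm (levG.getD k idM) m) idM := by
  have e : w.map F.gen9 = w.map F.lev :=
    List.map_congr_left fun j hj => by simp [gen9, hw j hj]
  rw [e]
  exact prod_lev D w hw

theorem levWord_norm {w : List ℕ} (hw : ∀ k ∈ w, k < 3) :
    (w.map F.gen9).prod ∈ normalizer (D.V : Set G) := by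
  refine Subgroup.list_prod_mem _ fun x hx => ?_
  obtain ⟨k, hk, rfl⟩ := List.mem_map.1 hx
  exact (gen9_mem D (lt_trans (hw k hk) (by norm_num))).2

theorem aE_spec : F.aE ∈ CP z P ∧ F.mat F.aE = mA ∧ F.aE ∈ normalizer (D.V : Set G) :=
  ⟨(levWord_spec D wd_lt.1).1, (levWord_spec D wd_lt.1).2, levWord_norm D wd_lt.1⟩

theorem bE_spec : F.bE ∈ CP z P ∧ F.mat F.bE = mB ∧ F.bE ∈ normalizer (D.V : Set G) :=
  ⟨(levWord_spec D wd_lt.2).1, (levWord_spec D wd_lt.2).2, levWord_norm D wd_lt.2⟩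

variable (hf : Fused D)
include hf

/-- An element acting as one of the six models and squaring into the centre is an involution. -/
theorem six_invol {h : G} (hn : h ∈ normalizer (D.V : Set G)) {b : Bool} (hb : h * h = F.zp b)
    {j : ℕ} (hj : j < 6) (hact : ∀ n < 2048, act D h n = sixF j n) : h * h = 1 := by
  cases b
  · exact hb
  exfalso
  have hv := (exists_cover D hf).1
  obtain ⟨φ, hsurj, hker, hφ⟩ := exists_norm_hom D hf
  obtain ⟨m1, m2, m3, hc, hperm, hpairs, hno⟩ := six_ok j hj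
  set it := item j
  obtain ⟨k, hk⟩ := hsurj ⟨permOf it.2.1, inM24_mem m2⟩
  set w := lowW it.2.2.1
  have hw9 : ∀ i ∈ w, i < 9 := by
    intro i hi
    simp only [w, lowW, List.mem_map, List.mem_filter, List.mem_range] at hi
    obtain ⟨i, ⟨hi, -⟩, rfl⟩ := hi
    omega
  set e := (w.map F.gen9).prod
  have hen : e ∈ normalizer (D.V : Set G) := (word_act D hv w hw9 0 (by norm_num)).1
  have he2 : e * e = 1 := by
    have low : ∀ i < 6, ∃ v < 64, 2 ^ (6 + i) = 64 * v := fun i hi =>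
      ⟨2 ^ i, (Nat.pow_lt_pow_right (by norm_num) hi : 2 ^ i < 2 ^ 6), by rw [pow_add]; norm_num⟩
    have hprod : ∀ l : List ℕ, (∀ i ∈ l, i < 6) →
        ∃ v < 64, ((l.map (· + 3)).map F.gen9).prod = F.eE (64 * v) := by
      intro l
      induction l with
      | nil => exact fun _ => ⟨0, by norm_num, by simp [F.eE_zero]⟩
      | cons i l ih =>
        intro hl
        obtain ⟨v, hv', hl'⟩ := ih fun x hx => hl x (by simp [hx])
        obtain ⟨u, hu, hu'⟩ := low i (hl i (by simp))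
        refine ⟨u ^^^ v, Nat.xor_lt_two_pow (n := 6) hu hv', ?_⟩
        have hg : F.gen9 (i + 3) = F.eE (64 * u) := by
          simp [gen9, radGen, ← hu']
        have hx : (64 * u) ^^^ (64 * v) = 64 * (u ^^^ v) := by
          have key : ∀ a < 64, ∀ b < 64, (64 * a) ^^^ (64 * b) = 64 * (a ^^^ b) := by decide +kernel
          exact key u hu v hv'
        rw [List.map_cons, List.map_cons, List.prod_cons, hl', hg,
          F.eE_mul (by omega) (by omega), (low_ok u hu v hv').1, hx]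
        exact mul_one _
    obtain ⟨v, hv', hev⟩ := hprod ((List.range 6).filter fun i => it.2.2.1.testBit i)
      (fun i hi => List.mem_range.1 (List.mem_filter.1 hi).1)
    rw [show e = F.eE (64 * v) from hev, F.eE_mul (by omega) (by omega),
      (low_ok v hv' v hv').1, Nat.xor_self, F.eE_zero]
    exact mul_one _
  have hM : ∀ {g : G} (hg : g ∈ normalizer (D.V : Set G)) {p : ℕ},
      inM24 p = true → (∀ a < 24, ∀ b < 24, act D g (tabV a b) = tabV (img p a) (img p b)) →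
      (φ ⟨g, hg⟩ : Equiv.Perm GolayPt) = permOf p := by
    intro g hg p hp hpt
    refine perm_unique fun a b => ?_
    rw [← hφ ⟨g, hg⟩ a b, ← pv_eq_tab a b, hpt _ (idx_lt a) _ (idx_lt b),
      permOf_apply (inM24_valid hp), permOf_apply (inM24_valid hp), ← pv_eq_tab,
      idx_pt (valid_lt (inM24_valid hp) (idx_lt a)), idx_pt (valid_lt (inM24_valid hp) (idx_lt b))]
  have tlt : ∀ a < 24, ∀ b < 24, tabV a b < 2048 := fun a ha b hb => by
    rw [(tab_facts ha hb).1]
    exact Nat.xor_lt_two_pow (n := 11) (tab_facts ha hb).2.1 (tab_facts hb hb).2.1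
  have ph : (φ ⟨h, hn⟩ : Equiv.Perm GolayPt) = permOf it.1 := hM hn m1 fun a ha b hb' => by
    rw [hact _ (tlt a ha b hb'), (hpairs a ha b hb').1]
  have pe : (φ ⟨e, hen⟩ : Equiv.Perm GolayPt) = permOf it.2.2.2 := hM hen m3 fun a ha b hb' => by
    rw [(word_act D hv w hw9 _ (tlt a ha b hb')).2, (hpairs a ha b hb').2]
  have hconjperm : permOf it.1 * permOf it.2.1 = permOf it.2.1 * permOf it.2.2.2 := by
    refine Equiv.ext fun p => ?_
    simp only [Equiv.Perm.mul_apply]
    rw [permOf_apply (inM24_valid m1), permOf_apply (inM24_valid m2) p,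
      idx_pt (valid_lt (inM24_valid m2) (idx_lt p)), hperm _ (idx_lt p),
      permOf_apply (inM24_valid m3) p, permOf_apply (inM24_valid m2),
      idx_pt (valid_lt (inM24_valid m3) (idx_lt p))]
  have hcomm : φ ⟨h, hn⟩ * φ k = φ k * φ ⟨e, hen⟩ := Subtype.ext (by
    rw [Subgroup.coe_mul, Subgroup.coe_mul, ph, pe, hk]
    exact hconjperm)
  have hmem : (⟨h, hn⟩ : ↥(normalizer (D.V : Set G)))⁻¹ * (k * ⟨e, hen⟩ * k⁻¹) ∈
      D.V.subgroupOf (normalizer (D.V : Set G)) := by
    rw [← hker, MonoidHom.mem_ker, map_mul, map_inv, map_mul, map_mul, map_inv, ← hcomm]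
    group
  rw [mem_subgroupOf] at hmem
  simp only [Subgroup.coe_mul, Subgroup.coe_inv] at hmem
  set v := h⁻¹ * ((k : G) * e * (k : G)⁻¹) with hvdef
  have hsq : h * v * (h * v) = 1 := by
    rw [hvdef, ← mul_assoc h, mul_inv_cancel, one_mul]
    calc (k : G) * e * (k : G)⁻¹ * ((k : G) * e * (k : G)⁻¹) = (k : G) * (e * e) * (k : G)⁻¹ := by
          group
      _ = 1 := by rw [he2]; group
  obtain ⟨n, hn', hnv⟩ := exists_vE D hmem
  obtain ⟨a1, a2⟩ := vE_act D hn hn'
  have hz' : h * h = z := hb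
  refine hno n hn' ?_
  have e1 : h * v * h⁻¹ * v = h * v * (h * v) * (h * h)⁻¹ := by
    have hvc : v * z = z * v := V_comm D hmem D.z_mem
    have hzi : z⁻¹ = z := inv_eq_of_mul_eq_one_right F.z_mul_z
    have hz2 : h⁻¹ * v = h * v * z := by
      calc h⁻¹ * v = h * (h * h)⁻¹ * v := by group
        _ = h * (z * v) := by rw [hz', hzi]; group
        _ = h * v * z := by rw [← hvc]; group
    calc h * v * h⁻¹ * v = h * v * (h⁻¹ * v) := by group
      _ = h * v * (h * v) * z := by rw [hz2]; group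
      _ = h * v * (h * v) * (h * h)⁻¹ := by rw [hz', hzi]
  rw [hsq, one_mul, hz', inv_eq_of_mul_eq_one_right F.z_mul_z] at e1
  rw [← hact n hn']
  refine vE_injOn D (Nat.xor_lt_two_pow (n := 11) a1 hn') (by norm_num) ?_
  rw [vE_xor D a1 hn', a2, hnv, vE_z, e1]

theorem levi_relations : (F.aE * F.aE = 1 ∧ F.bE * F.bE = 1 ∧
    F.aE * F.bE * (F.aE * F.bE) * (F.aE * F.bE * (F.aE * F.bE)) = 1) ∧
    F.sl * F.sl = 1 ∧ F.sl * F.aE = F.aE * F.sl ∧ F.sl * F.bE = F.bE * F.sl := by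
  have hv := (exists_cover D hf).1
  obtain ⟨hwa, hwb⟩ := wd_lt
  obtain ⟨a1, a2, an'⟩ := aE_spec D
  obtain ⟨b1, b2, bn'⟩ := bE_spec D
  obtain ⟨s1, s2, s3, s4⟩ := sl_spec D
  have hwab : ∀ k ∈ wdA ++ wdB ++ (wdA ++ wdB), k < 3 := by
    intro k hk
    simp only [List.mem_append] at hk
    rcases hk with (h | h) | (h | h) <;> first | exact hwa k h | exact hwb k h
  obtain ⟨c1, c2⟩ := levWord_spec D hwab
  have eab : F.aE * F.bE * (F.aE * F.bE) = ((wdA ++ wdB ++ (wdA ++ wdB)).map F.gen9).prod := by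
    simp [aE, bE, List.map_append, List.prod_append, mul_assoc]
  have l9 : ∀ {w : List ℕ}, (∀ k ∈ w, k < 3) → ∀ k ∈ w, k < 9 :=
    fun h k hk => lt_trans (h k hk) (by norm_num)
  have an : F.aE ∈ normalizer (D.V : Set G) := levWord_norm D hwa
  have bn : F.bE ∈ normalizer (D.V : Set G) := levWord_norm D hwb
  have aP : F.aE ∈ normalizer (P : Set G) := centralizer_le_normalizer _ a1.2
  have bP : F.bE ∈ normalizer (P : Set G) := centralizer_le_normalizer _ b1.2
  obtain ⟨q1, q2, q3, q4, q5⟩ := six_sq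
  obtain ⟨sx0, sx1, sx2, sx3, sx4, sx5⟩ := sixF_eq
  have am : F.mat (F.aE) = mA := a2
  have bm : F.mat (F.bE) = mB := b2
  have mk : ∀ {h : G} (hc : h ∈ Cen z) (hp : h ∈ normalizer (P : Set G))
      (hn : h ∈ normalizer (D.V : Set G)) {j : ℕ}, j < 6 → mm (F.mat h) (F.mat h) = idM →
      (∀ n < 2048, act D h n = sixF j n) → h * h = 1 := by
    intro h hc hp hn j hj hm hact
    obtain ⟨b, hb⟩ := norm_cases D (mul_mem hc hc) (mul_mem hp hp)
      (by rw [F.mat_mul _ hc _ hc]; exact hm)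
    exact six_invol D hf hn hb hj hact
  have ha := mk a1.1 aP an (j := 0) (by norm_num) (by rw [am]; exact q1)
    fun n hn => by rw [sx0]; exact (word_act D hv _ (l9 hwa) n hn).2
  have hb := mk b1.1 bP bn (j := 1) (by norm_num) (by rw [bm]; exact q2)
    fun n hn => by rw [sx1]; exact (word_act D hv _ (l9 hwb) n hn).2
  have habab := mk (h := F.aE * F.bE * (F.aE * F.bE))
    (mul_mem (mul_mem a1.1 b1.1) (mul_mem a1.1 b1.1))
    (mul_mem (mul_mem aP bP) (mul_mem aP bP)) (mul_mem (mul_mem an bn) (mul_mem an bn))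
    (j := 2) (by norm_num)
    (by
      rw [F.mat_mul _ (mul_mem a1.1 b1.1) _ (mul_mem a1.1 b1.1), F.mat_mul _ a1.1 _ b1.1, am, bm]
      exact q3)
    fun n hn => by
      rw [eab, sx2]
      exact (word_act D hv _ (l9 hwab) n hn).2
  have hs := mk s1 s2 s4 (j := 3) (by norm_num) (by rw [s3]; exact sig_scalar.2.2.2)
    fun n hn => by rw [sx3]; exact sl_act D hv hn
  have hsa := mk (h := F.sl * F.aE) (mul_mem s1 a1.1) (mul_mem s2 aP) (mul_mem s4 an) (j := 4)
    (by norm_num) (by rw [F.mat_mul _ s1 _ a1.1, s3, am]; exact q4)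
    fun n hn => by
      rw [act_mul D an hn, sl_act D hv (vE_act D an hn).1, sx4]
      exact congrArg sF (word_act D hv _ (l9 hwa) n hn).2
  have hsb := mk (h := F.sl * F.bE) (mul_mem s1 b1.1) (mul_mem s2 bP) (mul_mem s4 bn) (j := 5)
    (by norm_num) (by rw [F.mat_mul _ s1 _ b1.1, s3, bm]; exact q5)
    fun n hn => by
      rw [act_mul D bn hn, sl_act D hv (vE_act D bn hn).1, sx5]
      exact congrArg sF (word_act D hv _ (l9 hwb) n hn).2
  have comm : ∀ {x y : G}, x * x = 1 → y * y = 1 → x * y * (x * y) = 1 → x * y = y * x := by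
    intro x y hx hy hxy
    calc x * y = (x * y)⁻¹ := eq_inv_of_mul_eq_one_left hxy
      _ = y * x := by
        rw [mul_inv_rev, inv_eq_of_mul_eq_one_right hx, inv_eq_of_mul_eq_one_right hy]
  exact ⟨⟨ha, hb, habab⟩, hs, comm hs ha hsa, comm hs hb hsb⟩

variable (F) in
/-- The sixteen lifts. -/
noncomputable def dL : List G :=
  let r : List G := [1, F.aE, F.bE, F.aE * F.bE, F.bE * F.aE, F.aE * (F.bE * F.aE),
    F.bE * (F.aE * F.bE), F.aE * F.bE * (F.aE * F.bE)]
  r ++ r.map (F.sl * ·)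

variable (F) in
/-- The group of order sixteen. -/
noncomputable def dGrp : Subgroup G := closure {F.aE, F.bE, F.sl}

theorem mem_dL {g : G} (hg : g ∈ F.dGrp) : g ∈ F.dL := by
  obtain ⟨⟨ha, hb, habab⟩, hs, hsa, hsb⟩ := levi_relations D hf
  set a := F.aE
  set b := F.bE
  set s := F.sl
  have hba : a * b * (a * b) = b * a * (b * a) := by
    rw [eq_inv_of_mul_eq_one_left habab]
    rw [mul_inv_rev, mul_inv_rev, inv_eq_of_mul_eq_one_right ha, inv_eq_of_mul_eq_one_right hb]
  have ca : ∀ x, a * (a * x) = x := fun x => by rw [← mul_assoc, ha, one_mul]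
  have cb : ∀ x, b * (b * x) = x := fun x => by rw [← mul_assoc, hb, one_mul]
  have cs : ∀ x, s * (s * x) = x := fun x => by rw [← mul_assoc, hs, one_mul]
  have as' : ∀ x, a * (s * x) = s * (a * x) := fun x => by rw [← mul_assoc, ← hsa, mul_assoc]
  have bs' : ∀ x, b * (s * x) = s * (b * x) := fun x => by rw [← mul_assoc, ← hsb, mul_assoc]
  have hba' : b * (a * (b * a)) = a * (b * (a * b)) := by
    simp only [← mul_assoc] at hba ⊢; exact hba.symm
  have hb3 : b * (a * (b * (a * b))) = a * (b * a) := by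
    rw [← hba', ← mul_assoc b b, hb, one_mul]
  let R : List G := [1, a, b, a * b, b * a, a * (b * a), b * (a * b), a * b * (a * b)]
  have hRa : ∀ r ∈ R, a * r ∈ R := by
    intro r hr
    simp only [R, List.mem_cons, List.not_mem_nil, or_false] at hr
    rcases hr with rfl | rfl | rfl | rfl | rfl | rfl | rfl | rfl <;>
      simp [R, ha, ca, mul_assoc]
  have hRb : ∀ r ∈ R, b * r ∈ R := by
    intro r hr
    simp only [R, List.mem_cons, List.not_mem_nil, or_false] at hr
    rcases hr with rfl | rfl | rfl | rfl | rfl | rfl | rfl | rfl <;>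
      simp [R, hb, cb, hba', hb3, mul_assoc]
  have hmem : ∀ {x : G}, x ∈ F.dL ↔ x ∈ R ∨ ∃ r ∈ R, s * r = x := by
    intro x
    show x ∈ R ++ R.map (s * ·) ↔ _
    rw [List.mem_append, List.mem_map]
  have hLa : ∀ x ∈ F.dL, a * x ∈ F.dL := by
    intro x hx
    rcases hmem.1 hx with h | ⟨r, hr, rfl⟩
    · exact hmem.2 (Or.inl (hRa x h))
    · exact hmem.2 (Or.inr ⟨a * r, hRa r hr, (as' r).symm⟩)
  have hLb : ∀ x ∈ F.dL, b * x ∈ F.dL := by
    intro x hx
    rcases hmem.1 hx with h | ⟨r, hr, rfl⟩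
    · exact hmem.2 (Or.inl (hRb x h))
    · exact hmem.2 (Or.inr ⟨b * r, hRb r hr, (bs' r).symm⟩)
  have hLs : ∀ x ∈ F.dL, s * x ∈ F.dL := by
    intro x hx
    rcases hmem.1 hx with h | ⟨r, hr, rfl⟩
    · exact hmem.2 (Or.inr ⟨x, h, rfl⟩)
    · exact hmem.2 (Or.inl (by rw [cs]; exact hr))
  unfold dGrp at hg
  induction hg using Subgroup.closure_induction_left with
  | one => exact hmem.2 (Or.inl (by simp [R]))
  | mul_left x hx y _ ih =>
    rcases hx with rfl | rfl | rfl
    · exact hLa y ih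
    · exact hLb y ih
    · exact hLs y ih
  | inv_mul_cancel x hx y _ ih =>
    rcases hx with rfl | rfl | rfl
    · rw [inv_eq_of_mul_eq_one_right ha]; exact hLa y ih
    · rw [inv_eq_of_mul_eq_one_right hb]; exact hLb y ih
    · rw [inv_eq_of_mul_eq_one_right hs]; exact hLs y ih

theorem dL_mat : (F.dL).map F.mat = d16 := by
  obtain ⟨hwa, hwb⟩ := wd_lt
  obtain ⟨a1, a2, an'⟩ := aE_spec D
  obtain ⟨b1, b2, bn'⟩ := bE_spec D
  obtain ⟨s1, -, s3, -⟩ := sl_spec D
  have am : F.mat (F.aE) = mA := a2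
  have bm : F.mat (F.bE) = mB := b2
  have ac : F.aE ∈ Cen z := a1.1
  have bc : F.bE ∈ Cen z := b1.1
  have m := F.mat_mul
  have hid : mm sig idM = sig := by decide +kernel
  simp only [dL, d16, List.map_append, List.map_cons, List.map_nil, mul_one, hid]
  simp only [m _ s1 _ ac, m _ s1 _ bc, m _ ac _ bc, m _ bc _ ac, m _ ac _ (mul_mem bc ac),
    m _ bc _ (mul_mem ac bc), m _ (mul_mem ac bc) _ (mul_mem ac bc), m _ s1 _ (mul_mem ac bc),
    m _ s1 _ (mul_mem bc ac), m _ s1 _ (mul_mem ac (mul_mem bc ac)),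
    m _ s1 _ (mul_mem bc (mul_mem ac bc)), m _ s1 _ (mul_mem (mul_mem ac bc) (mul_mem ac bc)),
    am, bm, s3, F.mat_one]

theorem dGrp_spec {g : G} (hg : g ∈ F.dGrp) : g ∈ Cen z ∧ g ∈ normalizer (D.V : Set G) ∧
    F.mat g ∈ d16 ∧ (F.mat g = idM → g = 1) := by
  have hL := mem_dL D hf hg
  obtain ⟨hwa, hwb⟩ := wd_lt
  obtain ⟨a1, -⟩ := aE_spec D
  obtain ⟨b1, -⟩ := bE_spec D
  obtain ⟨s1, -, -, s4⟩ := sl_spec D
  have hle : F.dGrp ≤ Cen z ⊓ normalizer (D.V : Set G) := (closure_le _).2 (by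
    rintro x (rfl | rfl | rfl)
    · exact ⟨a1.1, levWord_norm D hwa⟩
    · exact ⟨b1.1, levWord_norm D hwb⟩
    · exact ⟨s1, s4⟩)
  have hm : F.mat g ∈ d16 := by rw [← dL_mat D hf]; exact List.mem_map_of_mem hL
  refine ⟨(hle hg).1, (hle hg).2, hm, fun he => ?_⟩
  have hnd : ((F.dL).map F.mat).Nodup := by rw [dL_mat D hf]; exact d16_ok.1
  refine List.inj_on_of_nodup_map hnd hL ?_ (by rw [he, F.mat_one])
  simp [dL]

variable (F) in
/-- The canonical elements over the lower plane. -/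
noncomputable def eLow : Subgroup G := closure {x | ∃ v < 64, x = F.eE (64 * v)}

theorem mem_eLow {x : G} (hx : x ∈ F.eLow) : ∃ v < 64, x = F.eE (64 * v) := by
  have key : ∀ a < 64, ∀ b < 64, (64 * a) ^^^ (64 * b) = 64 * (a ^^^ b) := by decide +kernel
  have hmul : ∀ u < 64, ∀ v < 64, F.eE (64 * u) * F.eE (64 * v) = F.eE (64 * (u ^^^ v)) := by
    intro u hu v hv
    rw [F.eE_mul (by omega) (by omega), (low_ok u hu v hv).1, key u hu v hv]
    exact mul_one _
  unfold eLow at hx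
  induction hx using Subgroup.closure_induction with
  | mem x hx => exact hx
  | one => exact ⟨0, by norm_num, F.eE_zero.symm⟩
  | mul x y _ _ ihx ihy =>
    obtain ⟨u, hu, rfl⟩ := ihx
    obtain ⟨v, hv, rfl⟩ := ihy
    exact ⟨u ^^^ v, Nat.xor_lt_two_pow (n := 6) hu hv, hmul u hu v hv⟩
  | inv x _ ih =>
    obtain ⟨u, hu, rfl⟩ := ih
    refine ⟨u, hu, inv_eq_of_mul_eq_one_right ?_⟩
    rw [hmul u hu u hu, Nat.xor_self, F.eE_zero]

theorem dGrp_norm_eLow {d : G} (hd : d ∈ F.dGrp) {x : G} (hx : x ∈ F.eLow) :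
    d * x * d⁻¹ ∈ F.eLow := by
  obtain ⟨hwa, hwb⟩ := wd_lt
  obtain ⟨a1, a2, an'⟩ := aE_spec D
  obtain ⟨b1, b2, bn'⟩ := bE_spec D
  obtain ⟨⟨ha, hb, -⟩, hs, -, -⟩ := levi_relations D hf
  have hgen : ∀ y ∈ ({F.aE, F.bE, F.sl} : Set G), ∀ x ∈ F.eLow, y * x * y⁻¹ ∈ F.eLow := by
    intro y hy x hx
    obtain ⟨v, hv, rfl⟩ := mem_eLow D hf hx
    have hlow : ∀ g ∈ [mA, mB, sig], ∃ u < 64, mv g (64 * v) = 64 * u := by
      intro g hg
      have h64 := d16_ok.2.2.2.2 g hg v hv
      have hlt : mv g (64 * v) < 4096 := by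
        have key : ∀ g ∈ [mA, mB, sig], ∀ v < 64, mv g (64 * v) < 4096 := by decide +kernel
        exact key g hg v hv
      exact ⟨mv g (64 * v) / 64, by omega, by omega⟩
    rcases hy with rfl | rfl | rfl
    · obtain ⟨u, hu, e⟩ := hlow mA (by simp)
      refine subset_closure ⟨u, hu, ?_⟩
      rw [F.conj_eE a1 (by omega), show F.mat (F.aE) = mA from a2, e]
    · obtain ⟨u, hu, e⟩ := hlow mB (by simp)
      refine subset_closure ⟨u, hu, ?_⟩
      rw [F.conj_eE b1 (by omega), show F.mat (F.bE) = mB from b2, e]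
    · obtain ⟨u, hu, e⟩ := hlow sig (by simp)
      refine subset_closure ⟨u, hu, ?_⟩
      have hh : ∀ v < 64, bF (64 * v) (w1 (64 * v)) = false ∧ bF (64 * v) (w2 (64 * v)) = false ∧
          bF (w1 (64 * v)) (w2 (64 * v)) = false := by decide +kernel
      rw [sl_conj_eE D (by omega) (hh v hv).1 (hh v hv).2.1 (hh v hv).2.2, e]
  unfold dGrp at hd
  induction hd using Subgroup.closure_induction_left generalizing x with
  | one => simpa using hx
  | mul_left y hy w _ ih =>
    rw [show y * w * x * (y * w)⁻¹ = y * (w * x * w⁻¹) * y⁻¹ by group]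
    exact hgen y hy _ (ih hx)
  | inv_mul_cancel y hy w _ ih =>
    have hy2 : y⁻¹ = y := by
      rcases hy with rfl | rfl | rfl
      · exact inv_eq_of_mul_eq_one_right ha
      · exact inv_eq_of_mul_eq_one_right hb
      · exact inv_eq_of_mul_eq_one_right hs
    rw [hy2, show y * w * x * (y * w)⁻¹ = y * (w * x * w⁻¹) * y⁻¹ by group]
    exact hgen y hy _ (ih hx)

/-- The group of order `2 ^ 10`. -/
noncomputable def tGrp : Subgroup G where
  carrier := {g | ∃ e ∈ F.eLow, ∃ d ∈ F.dGrp, g = e * d}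
  one_mem' := ⟨1, one_mem _, 1, one_mem _, (one_mul 1).symm⟩
  mul_mem' := by
    rintro _ _ ⟨e, he, d, hd, rfl⟩ ⟨e', he', d', hd', rfl⟩
    exact ⟨e * (d * e' * d⁻¹), mul_mem he (dGrp_norm_eLow D hf hd he'), d * d', mul_mem hd hd',
      by group⟩
  inv_mem' := by
    rintro _ ⟨e, he, d, hd, rfl⟩
    refine ⟨d⁻¹ * e⁻¹ * d, ?_, d⁻¹, inv_mem hd, by group⟩
    have := dGrp_norm_eLow D hf (inv_mem hd) (inv_mem he)
    rwa [inv_inv] at this

theorem tGrp_le : tGrp D hf ≤ normalizer (D.V : Set G) := by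
  rintro _ ⟨e, he, d, hd, rfl⟩
  obtain ⟨v, hv, rfl⟩ := mem_eLow D hf he
  exact mul_mem (D.rad_le_norm (F.eE_spec (by omega)).1) (dGrp_spec D hf hd).2.1

theorem low_of_mem {v : ℕ} (hv : v < 64) (hm : F.eE (64 * v) ∈ D.V) : v = 0 := by
  obtain ⟨r1, r2, -⟩ := F.eE_spec (show 64 * v < 4096 by omega)
  have := (D.rad _ r1).1 hm
  omega

theorem tGrp_inter {g : G} (hg : g ∈ tGrp D hf) (hgV : g ∈ D.V) : g = 1 := by
  obtain ⟨e, he, d, hd, rfl⟩ := hg
  obtain ⟨v, hv, rfl⟩ := mem_eLow D hf he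
  obtain ⟨dc, -, dm, d1⟩ := dGrp_spec D hf hd
  have hr := (F.eE_spec (show 64 * v < 4096 by omega)).1
  have he1 : F.mat (F.eE (64 * v)) = idM := (F.mat_eq_id _ (rad_le_Cen hr)).2 hr
  rcases d16_ok.2.2.2.1 _ dm with h | ⟨i, hi, h6, h64⟩
  · obtain rfl := d1 h
    rw [mul_one] at hgV ⊢
    rw [low_of_mem D hf hv hgV, F.eE_zero]
  · exfalso
    have := D.mat_upper _ hgV i h6 hi
    rw [F.mat_mul _ (rad_le_Cen hr) _ dc, he1, mv_mm,
      mv_idM (F.mv_lt dc (lt_of_lt_of_le (Nat.pow_lt_pow_right (by norm_num) hi) (by norm_num)))]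
      at this
    omega

theorem card_tGrp_ge : 1024 ≤ Nat.card (tGrp D hf) := by
  have hlen : (F.dL).length = 16 := by
    have := congrArg List.length (dL_mat D hf)
    rwa [List.length_map, d16_ok.2.1] at this
  have hmem : ∀ x ∈ F.dL, x ∈ F.dGrp := by
    have ga : F.aE ∈ F.dGrp := subset_closure (by simp)
    have gb : F.bE ∈ F.dGrp := subset_closure (by simp)
    have gs : F.sl ∈ F.dGrp := subset_closure (by simp)
    intro x hx
    simp only [dL, List.mem_append, List.mem_map, List.mem_cons, List.not_mem_nil, or_false] at hx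
    rcases hx with (rfl | rfl | rfl | rfl | rfl | rfl | rfl | rfl) |
        ⟨r, (rfl | rfl | rfl | rfl | rfl | rfl | rfl | rfl), rfl⟩ <;>
      repeat' (first | assumption | exact one_mem _ | apply mul_mem)
  let f : Fin 64 × Fin 16 → tGrp D hf := fun x => ⟨F.eE (64 * (x.1 : ℕ)) * (F.dL)[(x.2 : ℕ)]'(by omega),
    ⟨_, subset_closure ⟨_, x.1.2, rfl⟩, _, hmem _ (List.getElem_mem _), rfl⟩⟩
  have hinj : Function.Injective f := by
    rintro ⟨u, i⟩ ⟨v, j⟩ h
    have h' : F.eE (64 * (u : ℕ)) * (F.dL)[(i : ℕ)]'(by omega) =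
        F.eE (64 * (v : ℕ)) * (F.dL)[(j : ℕ)]'(by omega) := congrArg Subtype.val h
    have hu := (F.eE_spec (show 64 * (u : ℕ) < 4096 by omega))
    have hv := (F.eE_spec (show 64 * (v : ℕ) < 4096 by omega))
    have hi := (dGrp_spec D hf (hmem _ (List.getElem_mem (show (i : ℕ) < (F.dL).length by omega))))
    have hj := (dGrp_spec D hf (hmem _ (List.getElem_mem (show (j : ℕ) < (F.dL).length by omega))))
    have hm := congrArg F.mat h'
    rw [F.mat_mul _ (rad_le_Cen hu.1) _ hi.1, F.mat_mul _ (rad_le_Cen hv.1) _ hj.1,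
      (F.mat_eq_id _ (rad_le_Cen hu.1)).2 hu.1, (F.mat_eq_id _ (rad_le_Cen hv.1)).2 hv.1] at hm
    have hid : ∀ m ∈ d16, mm idM m = m := by decide +kernel
    rw [hid _ hi.2.2.1, hid _ hj.2.2.1] at hm
    have hij : i = j := Fin.ext (((List.Nodup.getElem_inj_iff
      (show ((F.dL).map F.mat).Nodup by rw [dL_mat D hf]; exact d16_ok.1)
      (hi := by simp; omega) (hj := by simp; omega))).1 (by simpa using hm))
    subst hij
    have := congrArg F.co (mul_right_cancel h')
    rw [hu.2.1, hv.2.1] at this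
    exact Prod.ext (Fin.ext (by dsimp; omega)) rfl
  have := Nat.card_le_card_of_injective f hinj
  simpa using this

/-- The normaliser splits, with complement isomorphic to `M₂₄`. -/
theorem exists_complement : ∃ K : Subgroup G, K ≤ normalizer (D.V : Set G) ∧ K ⊓ D.V = ⊥ ∧
    K ⊔ D.V = normalizer (D.V : Set G) ∧ Cfsg.Spor.IsoM24 K := by
  set N := normalizer (D.V : Set G) with hN
  obtain ⟨φ, hsurj, hker, -⟩ : ∃ φ : N →* M24, Function.Surjective φ ∧ φ.ker = D.V.subgroupOf N ∧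
      ∀ (g : N) p q, act D (g : G) (pv p q) =
        pv ((φ g : Equiv.Perm GolayPt) p) ((φ g : Equiv.Perm GolayPt) q) := exists_norm_hom D hf
  set V' := D.V.subgroupOf N with hV'
  haveI : V'.Normal := hker ▸ φ.normal_ker
  haveI : IsMulCommutative V' := ⟨⟨fun a b => Subtype.ext (Subtype.ext (V_comm D a.2 b.2))⟩⟩
  set T := (tGrp D hf).subgroupOf N
  have hdisj : T ⊓ V' = ⊥ := by
    rw [eq_bot_iff]
    intro x hx
    exact Subtype.ext (tGrp_inter D hf hx.1 hx.2)
  have hTinj : Set.InjOn φ (T : Set N) := by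
    intro a ha b hb e
    have : a⁻¹ * b ∈ T ⊓ V' := ⟨T.mul_mem (T.inv_mem ha) hb, by
      show a⁻¹ * b ∈ V'
      rw [← hker, MonoidHom.mem_ker, map_mul, map_inv, e, inv_mul_cancel]⟩
    rw [hdisj, mem_bot, inv_mul_eq_one] at this
    exact this
  set I := T.map φ
  have hcI : 1024 ≤ Nat.card I := by
    refine le_trans ?_ (le_of_eq (Nat.card_congr (Equiv.Set.imageOfInjOn φ (T : Set N) hTinj)))
    refine le_trans (card_tGrp_ge D hf) (le_of_eq ?_)
    exact (Nat.card_congr (subgroupOfEquivOfLe (tGrp_le D hf)).toEquiv).symm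
  have hidx : ¬ 2 ∣ (I.comap φ).index := by
    rw [index_comap_of_surjective _ hsurj]
    intro h2
    have hmul := card_mul_index I
    rw [card_M24] at hmul
    have hp : IsPGroup 2 T := by
      intro x
      obtain ⟨e, he, d, hd, hx⟩ := x.2
      obtain ⟨n, hn⟩ : ∃ n, Nat.card (tGrp D hf) = 2 ^ n := by
        refine ⟨10, le_antisymm ?_ (card_tGrp_ge D hf)⟩
        let g : Fin 64 × Fin 16 → G := fun y =>
          F.eE (64 * (y.1 : ℕ)) * (F.dL).getD (y.2 : ℕ) 1
        have hsub : ∀ t : tGrp D hf, ∃ y, g y = t := by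
          rintro ⟨t, e, he, d, hd, rfl⟩
          obtain ⟨v, hv, rfl⟩ := mem_eLow D hf he
          obtain ⟨i, hi, rfl⟩ := List.getElem_of_mem (mem_dL D hf hd)
          have hlen : (F.dL).length = 16 := by
            have := congrArg List.length (dL_mat D hf)
            rwa [List.length_map, d16_ok.2.1] at this
          exact ⟨(⟨v, hv⟩, ⟨i, by omega⟩), by
            show F.eE (64 * v) * F.dL.getD i 1 = _
            rw [List.getD_eq_getElem _ _ hi]⟩
        choose y hy using hsub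
        have : Function.Injective y := fun a b h => Subtype.ext (by rw [← hy a, ← hy b, h])
        simpa using Nat.card_le_card_of_injective y this
      refine ⟨n, Subtype.ext (Subtype.ext ?_)⟩
      have := pow_card_eq_one' (x := (⟨((x : N) : G), x.2⟩ : tGrp D hf))
      rw [hn] at this
      simpa using congrArg Subtype.val this
    obtain ⟨k, hk⟩ := (IsPGroup.iff_card.1 (hp.map φ))
    rw [hk] at hmul hcI
    obtain ⟨r, hr⟩ := h2
    rw [hr] at hmul
    have hk10 : 10 ≤ k := by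
      by_contra hlt
      have := Nat.pow_le_pow_right (show 0 < 2 by norm_num) (show k ≤ 9 by omega)
      omega
    have : 2048 ∣ 244823040 := by
      refine ⟨2 ^ (k - 10) * r, ?_⟩
      rw [← hmul, show k = 10 + (k - 10) by omega, pow_add]
      norm_num
      ring
    norm_num at this
  have hU : V' ⊔ T = I.comap φ := by rw [comap_map_eq, hker, sup_comm]
  have hcop : (Nat.card V').Coprime (V' ⊔ T).index := by
    rw [Nat.card_congr (subgroupOfEquivOfLe (le_normalizer : D.V ≤ N)).toEquiv, D.card, hU]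
    exact Nat.Coprime.pow_left _ ((Nat.prime_two.coprime_iff_not_dvd).2 hidx)
  obtain ⟨H, hH⟩ := CfsgLib.Solvable.gaschutz_exists (K := V') le_sup_left hcop hdisj rfl
  have hmap : ∀ {X : Subgroup N}, X.map N.subtype ≤ N := fun {X} => map_subtype_le X
  refine ⟨H.map N.subtype, hmap, ?_, ?_, ?_⟩
  · rw [eq_bot_iff]
    rintro _ ⟨⟨x, hx, rfl⟩, hxV⟩
    have : x ∈ V' ⊓ H := ⟨hxV, hx⟩
    rw [hH.disjoint.eq_bot, mem_bot] at this
    simp [this]
  · have hVeq : V'.map N.subtype = D.V := map_subgroupOf_eq_of_le le_normalizer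
    rw [← hVeq, ← Subgroup.map_sup, sup_comm, hH.sup_eq_top, ← MonoidHom.range_eq_map,
      N.range_subtype]
  · have hb : Function.Bijective (φ.comp H.subtype) := by
      constructor
      · refine (injective_iff_map_eq_one _).2 fun x hx => ?_
        have : (x : N) ∈ V' ⊓ H := ⟨hker ▸ MonoidHom.mem_ker.2 hx, x.2⟩
        rw [hH.disjoint.eq_bot, mem_bot] at this
        exact Subtype.ext this
      · intro m
        obtain ⟨n, rfl⟩ := hsurj m
        obtain ⟨⟨v, h⟩, e, -⟩ := Subgroup.IsComplement.existsUnique hH n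
        refine ⟨h, ?_⟩
        have hv : φ (v : N) = 1 := MonoidHom.mem_ker.1 (by rw [hker]; exact v.2)
        rw [MonoidHom.comp_apply, Subgroup.coe_subtype, ← e]
        simp [hv]
    exact ⟨(equivMapOfInjective H N.subtype N.subtype_injective).symm.trans
      (MulEquiv.ofBijective _ hb)⟩

end Frame

end CfsgLib.J4Type
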