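import Cfsg.Agent.Lib.J4Type.NV.Count
import Cfsg.Agent.Lib.J4Type.Cert.Oval
import Cfsg.Agent.Lib.J4Type.Cert.Decomp
import Cfsg.Agent.Lib.Golay.Mathieu

/-!
The normaliser of the elementary abelian group of order `2 ^ 11` induces exactly `M₂₄` on it.
-/

set_option autoImplicit false
set_option linter.unusedSectionVars false
set_option maxRecDepth 100000

namespace CfsgLib.J4Type

open Cfsg Subgroup NV CfsgLib.Golay

namespace NV

open Cert in
/-- The stabiliser of the plane in the group of the matrices. -/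
noncomputable def planeStab : Subgroup LGrp where
  carrier := {m | stabF m.1 = true}
  one_mem' := stabF_idM
  mul_mem' := fun {a b} ha hb => stabF_mm ha hb
  inv_mem' := fun {a} ha => by
    show stabF (a⁻¹).1 = true
    simp only [stabF, List.all_eq_true, List.mem_range]
    intro i hi
    obtain ⟨v, hv, e⟩ := plane_surj a.2 (mv_lt_plane ha) (2 ^ i)
      (Nat.pow_lt_pow_right (by norm_num) hi : 2 ^ i < 2 ^ 6)
    have h2 : (a⁻¹).act (a.act v) = v := a.act_inv (by omega)
    rw [LGrp.act, LGrp.act, e] at h2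
    rw [h2]
    exact Nat.ble_eq_true_of_le hv

open Cert in
theorem mem_planeStab {m : LGrp} : m ∈ planeStab ↔ stabF m.1 = true := Iff.rfl

open Cert in
theorem card_planeStab : Nat.card planeStab = 34560 := by
  have hle : Nat.card planeStab ≤ 34560 := by
    let f : Fin 16 × Fin 1080 × Bool → planeStab := fun x =>
      if x.2.2 then ⟨⟨mm (mm (qM x.1) (kM x.2.1)) sig,
        (inX_stab x.1.2 x.2.1.2).inL.comp InL.sig_mem⟩,
          stabF_mm (stabF_stab x.1.2 x.2.1.2) stabF_sig⟩
      else ⟨⟨mm (qM x.1) (kM x.2.1), (inX_stab x.1.2 x.2.1.2).inL⟩,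
          stabF_stab x.1.2 x.2.1.2⟩
    have hf : Function.Surjective f := by
      intro m
      obtain ⟨a, ha, k, hk, e | e⟩ := m.1.2.plane_stab (mv_lt_plane m.2)
      · exact ⟨(⟨a, ha⟩, ⟨k, hk⟩, false), Subtype.ext (Subtype.ext e.symm)⟩
      · exact ⟨(⟨a, ha⟩, ⟨k, hk⟩, true), Subtype.ext (Subtype.ext e.symm)⟩
    exact (Nat.card_le_card_of_surjective f hf).trans (by simp)
  have hge : 2661120 ≤ 77 * Nat.card planeStab := by
    let g : Fin 77 × planeStab → LGrp := fun x => ⟨rM x.1, (inX_rM _ x.1.2).inL⟩ * x.2.1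
    have hg : Function.Surjective g := by
      intro m
      rcases m.2.cases_sig with hx | ⟨y, hy, e⟩
      · obtain ⟨p, hp, a, ha, k, hk, e⟩ := hx.decomp
        exact ⟨(⟨p, hp⟩, ⟨⟨mm (qM a) (kM k), (inX_stab ha hk).inL⟩, stabF_stab ha hk⟩),
          Subtype.ext e.symm⟩
      · obtain ⟨p, hp, a, ha, k, hk, rfl⟩ := hy.decomp
        refine ⟨(⟨p, hp⟩, ⟨⟨mm (mm (qM a) (kM k)) sig, (inX_stab ha hk).inL.comp InL.sig_mem⟩,
          stabF_mm (stabF_stab ha hk) stabF_sig⟩), Subtype.ext ?_⟩
        rw [e]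
        exact (CfsgLib.J4Type.mm_assoc _ _ _).symm
    have := Nat.card_le_card_of_surjective g hg
    rw [card_LGrp, Nat.card_prod, Nat.card_eq_fintype_card (α := Fin 77), Fintype.card_fin] at this
    exact this
  omega

end NV

variable {G : Type*} [Group G] [Finite G] {z : G} {P : Subgroup G}

namespace Frame

variable {F : Frame z P} (D : VData F)
include D

theorem stabF_iff_norm {h : G} (hh : h ∈ Cen z) :
    h ∈ normalizer (D.V : Set G) ↔ Cert.stabF (F.mat h) = true := by
  constructor
  · intro hn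
    simp only [Cert.stabF, List.all_eq_true, List.mem_range]
    intro i hi
    have hw : (2 : ℕ) ^ i < 64 := (Nat.pow_lt_pow_right (by norm_num) hi : 2 ^ i < 2 ^ 6)
    obtain ⟨p1, p2, -⟩ := F.eE_spec (show 2 ^ i < 4096 by omega)
    have hc := (D.rad _ (F.rad_conj hh p1)).1 (conj_mem D hn (plane_mem D hw))
    rw [F.conj_co hh p1, p2] at hc
    exact Nat.ble_eq_true_of_le hc
  · intro h'
    refine mem_norm_of_plane D hh fun i hi => ?_
    simp only [Cert.stabF, List.all_eq_true, List.mem_range] at h'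
    exact Nat.le_of_ble_eq_true (h' i hi)

theorem card_norm_cen : Nat.card ↥(Cen z ⊓ normalizer (D.V : Set G)) = 2 ^ 13 * 34560 := by
  set M := Cen z ⊓ normalizer (D.V : Set G)
  let φ : M →* Cert.LGrp :=
    { toFun := fun h => ⟨F.mat h, F.mat_inL h h.2.1⟩
      map_one' := Subtype.ext F.mat_one
      map_mul' := fun a b => Subtype.ext (F.mat_mul a a.2.1 b b.2.1) }
  have hker : φ.ker = (Rad z).subgroupOf M := by
    ext h
    rw [MonoidHom.mem_ker, mem_subgroupOf, ← F.mat_eq_id h h.2.1]
    exact ⟨fun e => congrArg Subtype.val e, fun e => Subtype.ext e⟩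
  have hrange : φ.range = planeStab := by
    ext m
    constructor
    · rintro ⟨h, rfl⟩
      exact (stabF_iff_norm D h.2.1).1 h.2.2
    · intro hm
      obtain ⟨h, hh, e⟩ := F.mat_surj m.1 m.2
      exact ⟨⟨h, hh.1, (stabF_iff_norm D hh.1).2 (e ▸ hm)⟩, Subtype.ext e⟩
  have hE : Rad z ≤ M := le_inf rad_le_Cen D.rad_le_norm
  rw [← card_mul_index φ.ker, index_ker, hrange, card_planeStab, hker,
    Nat.card_congr (subgroupOfEquivOfLe hE).toEquiv, F.type.2.2.1]

variable (hf : Fused D)
include hf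

theorem card_norm : Nat.card ↥(normalizer (D.V : Set G)) = 2 ^ 11 * 244823040 := by
  set N := normalizer (D.V : Set G)
  let L : Subgroup N := (Cen z).subgroupOf N
  let f : N ⧸ L → ↥(classV D) := Quotient.lift
    (fun k : N => (⟨(k : G) * z * (k : G)⁻¹, conj_mem D k.2 D.z_mem,
      isConj_iff.2 ⟨k, rfl⟩⟩ : ↥(classV D))) (by
      intro a b hab
      have h := QuotientGroup.leftRel_apply.1 hab
      have h' : ((a : G)⁻¹ * b) * z = z * ((a : G)⁻¹ * b) := mem_Cen.1 h
      apply Subtype.ext
      show (a : G) * z * (a : G)⁻¹ = (b : G) * z * (b : G)⁻¹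
      calc (a : G) * z * (a : G)⁻¹ = (a : G) * (z * ((a : G)⁻¹ * b)) * (b : G)⁻¹ := by group
        _ = (a : G) * ((a : G)⁻¹ * b * z) * (b : G)⁻¹ := by rw [h']
        _ = (b : G) * z * (b : G)⁻¹ := by group)
  have hb : Function.Bijective f := by
    constructor
    · intro x y
      induction x using Quotient.inductionOn with | _ a =>
      induction y using Quotient.inductionOn with | _ b =>
      intro h
      have h' : (a : G) * z * (a : G)⁻¹ = (b : G) * z * (b : G)⁻¹ := congrArg Subtype.val h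
      refine Quotient.sound (QuotientGroup.leftRel_apply.2 (mem_Cen.2 ?_))
      show (a : G)⁻¹ * b * z = z * ((a : G)⁻¹ * b)
      calc (a : G)⁻¹ * b * z = (a : G)⁻¹ * ((b : G) * z * (b : G)⁻¹) * b := by group
        _ = (a : G)⁻¹ * ((a : G) * z * (a : G)⁻¹) * b := by rw [h']
        _ = z * ((a : G)⁻¹ * b) := by group
    · rintro ⟨v, hv, hc⟩
      obtain ⟨k, hk, hkz⟩ := class_control D hf hv hc
      exact ⟨Quotient.mk _ ⟨k, hk⟩, Subtype.ext hkz⟩
  have hi : L.index = 1771 := by
    rw [index_eq_card, Nat.card_congr (Equiv.ofBijective f hb), Nat.card_coe_set_eq,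
      (ncard_class D hf).1]
  have hL : Nat.card L = 2 ^ 13 * 34560 := by
    rw [← card_norm_cen D]
    refine Nat.card_congr
      { toFun := fun k => ⟨((k : N) : G), k.2, k.1.2⟩
        invFun := fun k => ⟨⟨(k : G), k.2.2⟩, k.2.1⟩
        left_inv := fun k => rfl
        right_inv := fun k => rfl }
  rw [← card_mul_index L, hi, hL]
  norm_num

/-- The normaliser maps onto `M₂₄` with kernel the elementary abelian group. -/
theorem exists_norm_hom : ∃ φ : ↥(normalizer (D.V : Set G)) →* M24,
    Function.Surjective φ ∧ φ.ker = D.V.subgroupOf (normalizer (D.V : Set G)) ∧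
    ∀ (g : ↥(normalizer (D.V : Set G))) p q, act D (g : G) (pv p q) =
      pv ((φ g : Equiv.Perm GolayPt) p) ((φ g : Equiv.Perm GolayPt) q) := by
  set N := normalizer (D.V : Set G)
  obtain ⟨φ, h1, h2⟩ := exists_hom (N := N) (fun g n => act D (g : G) n)
    (fun g => goodMap_act D hf g.2) fun g h v hv => act_mul D h.2 hv
  have hker : φ.ker = D.V.subgroupOf N := by
    ext g
    rw [MonoidHom.mem_ker, h2, mem_subgroupOf]
    constructor
    · intro hfix
      refine D.cent_le (mem_centralizer_iff.2 fun v hv => ?_)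
      obtain ⟨n, hn, rfl⟩ := exists_vE D hv
      have := (vE_act D g.2 hn).2
      rw [hfix n hn] at this
      exact eq_mul_inv_iff_mul_eq.1 this
    · intro hg n hn
      show cV D ((g : G) * vE D n * (g : G)⁻¹) = n
      rw [V_comm D hg (vE_mem D hn), mul_inv_cancel_right, cV_vE D hn]
  refine ⟨φ, ?_, hker, h1⟩
  have hV : D.V ≤ N := le_normalizer
  have hc := card_mul_index φ.ker
  rw [index_ker, hker, Nat.card_congr (subgroupOfEquivOfLe hV).toEquiv, D.card, card_norm D hf] at hc
  have hr : Nat.card φ.range = Nat.card M24 := by rw [card_M24]; omega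
  exact MonoidHom.range_eq_top.1 (eq_top_of_card_eq _ hr)

end Frame

end CfsgLib.J4Type
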