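import Cfsg.Agent.Lib.J4Type.NV.SecondModel
import Cfsg.Agent.Lib.J4Type.NV.Norm
import Cfsg.Agent.Lib.Golay.Orbits

/-!
The normaliser of `V` has two orbits on the non-identity elements of `V`, of lengths 1771 and 276,
and the centraliser of an element of the shorter orbit lies in the normaliser.
-/

set_option autoImplicit false
set_option maxRecDepth 100000

namespace CfsgLib.J4Type

open Cfsg Subgroup CfsgLib.Golay

variable {G : Type*} [Group G] [Finite G] {z : G} {P : Subgroup G}

namespace Frame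

variable {F : Frame z P} (D : VData F)

theorem coV_eq_cV (v : G) : coV D v = cV D v := rfl

/-- The pair model of `V` from the fusion. -/
theorem exists_pairModel_of_fused (hf : Fused D) :
    ∃ M : NV.PairModel D.V (fun x => IsConj z x), (∀ v ∈ D.V, M.co v = coV D v) ∧
      ∀ σ ∈ M24, ∃ n ∈ normalizer (D.V : Set G), M.perm n = σ := by
  obtain ⟨-, hc⟩ := exists_cover D hf
  obtain ⟨M, hM⟩ := exists_pairModel D (fun n hn h0 => by
      have := hc n hn h0
      rw [isZ] at this
      cases h : NV.inB n <;> simp_all)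
    (fun u hu h => class_control D hf hu h) (fun g hg => goodMap_act D hf hg)
  refine ⟨M, hM, fun σ hσ => ?_⟩
  obtain ⟨φ, hφ, -, heq⟩ := exists_norm_hom D hf
  obtain ⟨g, hg⟩ := hφ ⟨σ, hσ⟩
  refine ⟨g, g.2, NV.perm_unique fun p q => ?_⟩
  have h1 := heq g p q
  rw [hg] at h1
  have hv := vE_mem D (NV.pv_lt p q)
  have h2 := M.co_conj (g : G) g.2 _ hv p q (by rw [hM _ hv, coV_vE D (NV.pv_lt p q)])
  rw [hM _ ((Subgroup.mem_normalizer_iff.1 g.2 _).1 hv)] at h2
  exact h2.symm.trans h1

theorem inB_count : ((List.range 2048).filter fun n => NV.inB n).length = 276 := by decide +kernel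

/-- The elements of `V` which are neither trivial nor conjugate to the central involution. -/
def pairV : Set G := {v | v ∈ D.V ∧ v ≠ 1 ∧ ¬ IsConj z v}

theorem inB_of_pairV (hf : Fused D) {v : G} (hv : v ∈ pairV D) :
    NV.inB (coV D v) = true := by
  classical
  obtain ⟨hv, h1, hz⟩ := hv
  obtain ⟨a1, a2⟩ := coV_spec D hv
  obtain ⟨-, hc⟩ := exists_cover D hf
  have hne : coV D v ≠ 0 := fun e => h1 (by rw [← a2, e, vE_zero])
  have := hc _ a1 hne
  rw [isZ, a2] at this
  cases h : NV.inB (coV D v)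
  · rw [h] at this; exact absurd (of_decide_eq_true this) hz
  · rfl

theorem pairV_of_inB (hf : Fused D) {n : ℕ} (hn : n < 2048) (hB : NV.inB n = true) :
    vE D n ∈ pairV D := by
  classical
  obtain ⟨-, hc⟩ := exists_cover D hf
  have h0 : n ≠ 0 := fun e => by
    rw [e, inB_zero'] at hB
    exact Bool.noConfusion hB
  refine ⟨vE_mem D hn, fun e => h0 (vE_inj D hn e), fun hz => ?_⟩
  have := hc n hn h0
  rw [isZ, hB, decide_eq_true hz] at this
  exact Bool.noConfusion this

theorem ncard_pairV (hf : Fused D) : (pairV D).ncard = 276 := by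
  classical
  have e : pairV D = (fun n => vE D n) ''
      (((List.range 2048).filter fun n => NV.inB n).toFinset : Set ℕ) := by
    ext v
    simp only [Set.mem_image, List.coe_toFinset, Set.mem_ofPred_eq, List.mem_filter, List.mem_range]
    constructor
    · intro hv
      exact ⟨coV D v, ⟨(coV_spec D hv.1).1, inB_of_pairV D hf hv⟩, (coV_spec D hv.1).2⟩
    · rintro ⟨n, ⟨hn, hB⟩, rfl⟩
      exact pairV_of_inB D hf hn hB
  rw [e, Set.InjOn.ncard_image, Set.ncard_coe_finset, List.toFinset_card_of_nodup, inB_count]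
  · exact List.nodup_range.filter _
  · intro a ha b hb hab
    simp only [List.coe_toFinset, Set.mem_ofPred_eq, List.mem_filter, List.mem_range] at ha hb
    exact vE_injOn D ha.1 hb.1 hab

/-- The normaliser is transitive on the elements of pair type. -/
theorem pairV_transitive (hf : Fused D) {t v : G} (ht : t ∈ pairV D) (hv : v ∈ pairV D) :
    ∃ n ∈ normalizer (D.V : Set G), n * t * n⁻¹ = v := by
  obtain ⟨M, hM, hsurj⟩ := exists_pairModel_of_fused D hf
  obtain ⟨a, b, hab, e1⟩ := NV.decode (coV_spec D ht.1).1 (inB_of_pairV D hf ht)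
  obtain ⟨c, d, hcd, e2⟩ := NV.decode (coV_spec D hv.1).1 (inB_of_pairV D hf hv)
  have : MulAction.IsMultiplyPretransitive M24 GolayPt 5 := M24_isMultiplyPretransitive
  have h2 : MulAction.IsMultiplyPretransitive M24 GolayPt 2 :=
    MulAction.isMultiplyPretransitive_of_le (n := 5) (by norm_num)
      (by rw [Nat.card_eq_fintype_card]; decide)
  obtain ⟨σ, hσa, hσb⟩ := (MulAction.is_two_pretransitive_iff (G := M24) (α := GolayPt)).1 h2 hab hcd
  obtain ⟨n, hn, hnσ⟩ := hsurj σ σ.2
  refine ⟨n, hn, ?_⟩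
  have hn1 := (Subgroup.mem_normalizer_iff.1 hn t).1 ht.1
  have h3 := M.co_conj n hn t ht.1 a b (by rw [hM t ht.1, e1])
  rw [hnσ, hM _ hn1] at h3
  have h4 : coV D (n * t * n⁻¹) = coV D v := by
    rw [h3, e2, ← hσa, ← hσb]
    rfl
  rw [← (coV_spec D hn1).2, h4, (coV_spec D hv.1).2]

theorem orbit_pairV (hf : Fused D) {t : G} (ht : t ∈ pairV D) :
    {v : G | ∃ n ∈ normalizer (D.V : Set G), n * t * n⁻¹ = v} = pairV D := by
  ext v
  constructor
  · rintro ⟨n, hn, rfl⟩
    refine ⟨(Subgroup.mem_normalizer_iff.1 hn t).1 ht.1, fun e => ht.2.1 ?_, fun e => ht.2.2 ?_⟩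
    · exact conj_eq_one_iff.1 e
    · exact e.trans (isConj_iff.2 ⟨n⁻¹, by group⟩)
  · exact pairV_transitive D hf ht

theorem orbit_classV (hf : Fused D) :
    {v : G | ∃ n ∈ normalizer (D.V : Set G), n * z * n⁻¹ = v} = classV D := by
  ext v
  constructor
  · rintro ⟨n, hn, rfl⟩
    exact ⟨(Subgroup.mem_normalizer_iff.1 hn z).1 D.z_mem, isConj_iff.2 ⟨n, rfl⟩⟩
  · rintro ⟨hv, hc⟩
    exact class_control D hf hv hc

/-- The centraliser of an element of pair type lies in the normaliser of `V`. -/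
theorem centralizer_pairV_le (hf : Fused D) {t : G} (ht : t ∈ pairV D) :
    centralizer ({t} : Set G) ≤ normalizer (D.V : Set G) := by
  obtain ⟨M, hM, -⟩ := exists_pairModel_of_fused D hf
  exact M.centralizer_second_le ht.1 (by rw [hM t ht.1]; exact inB_of_pairV D hf ht)

theorem exists_pairV (hf : Fused D) : ∃ t, t ∈ pairV D :=
  ⟨vE D (NV.wv 1), pairV_of_inB D hf (by decide +kernel) (by decide +kernel)⟩

end Frame

end CfsgLib.J4Type
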