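import Cfsg.Agent.Lib.J4Type.NV.Inner
import Cfsg.Agent.Lib.J4Type.NV.Pairs276
import Cfsg.Agent.Lib.J4Type.OuterTransfer

/-!
An involution of the centraliser of the central involution inducing a linear map is conjugate
into `V`.
-/

set_option autoImplicit false
set_option maxRecDepth 100000

namespace CfsgLib.J4Type

open Cfsg Subgroup CfsgLib.Golay

variable {G : Type*} [Group G] [Finite G] {z : G} {P : Subgroup G}

namespace Frame

variable {F : Frame z P} (D : VData F)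

omit [Finite G] in
/-- An involution of the radical is conjugate into `V`. -/
theorem rad_into_V {x : G} (hx : x ∈ Rad z) (h2 : x * x = 1) : ∃ g : G, g * x * g⁻¹ ∈ D.V := by
  have hq : qF (F.co x) = false := by
    have := F.sq x hx
    rw [h2] at this
    cases h : qF (F.co x)
    · rfl
    · rw [h, if_pos rfl] at this; exact absurd this.symm F.z_ne
  obtain ⟨m, hm, w, hw, e⟩ := singular_to_plane (F.co_lt x hx) hq
  obtain ⟨m', hm', e1, -⟩ := hm.exists_inv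
  obtain ⟨h, hh, ehm⟩ := F.mat_surj m' hm'.inL
  refine ⟨h, (D.rad _ (F.rad_conj hh.1 hx)).2 ?_⟩
  rw [F.conj_co hh.1 hx, ehm, ← e, ← mv_mm, e1, mv_idM (by omega)]
  exact hw

omit [Finite G] in
/-- A complement of `V` in its normaliser may be assumed to contain the scalar element. -/
theorem exists_complement_p0 (M : NV.PairModel D.V (fun x => IsConj z x)) {K : Subgroup G}
    (hKN : K ≤ normalizer (D.V : Set G)) (hKV : ∀ k ∈ K, k ∈ D.V → k = 1)
    (hKs : ∀ σ ∈ M24, ∃ k ∈ K, M.perm k = σ) :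
    ∃ K' : Subgroup G, K' ≤ normalizer (D.V : Set G) ∧ (∀ k ∈ K', k ∈ D.V → k = 1) ∧
      (∀ σ ∈ M24, ∃ k ∈ K', M.perm k = σ) ∧ F.p0 ∈ K' := by
  have hp : F.p0 ∈ normalizer (D.V : Set G) := D.norm_P F.p0_mem
  obtain ⟨k, hk, hkp⟩ := hKs _ (M.perm_mem _ hp)
  have hk' := hKN hk
  set w := k * F.p0⁻¹ with hw
  have hwV : w ∈ D.V := by
    refine (M.perm_eq_one _ (mul_mem hk' (inv_mem hp))).1 ?_
    have h1 := M.perm_mul _ (mul_mem hk' (inv_mem hp)) _ hp
    rw [inv_mul_cancel_right, hkp] at h1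
    exact mul_eq_right.1 h1.symm
  have hk3 : k ^ 3 = 1 := by
    refine hKV _ (pow_mem hk 3) ((M.perm_eq_one _ (pow_mem hk' 3)).1 ?_)
    have hp3 : M.perm (F.p0 ^ 3) = 1 := by rw [F.p0_cube, M.perm_one]
    rw [pow_succ, pow_two, M.perm_mul _ (mul_mem hk' hk') _ hk', M.perm_mul _ hk' _ hk', hkp,
      ← M.perm_mul _ hp _ hp, ← M.perm_mul _ (mul_mem hp hp) _ hp, ← pow_two, ← pow_succ, hp3]
  have hwk : k = w * F.p0 := by rw [hw]; group
  set v := F.p0 * w * F.p0⁻¹ with hv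
  have hvV : v ∈ D.V := (Subgroup.mem_normalizer_iff.1 hp w).1 hwV
  have hu : F.p0 * v * F.p0⁻¹ ∈ D.V := (Subgroup.mem_normalizer_iff.1 hp v).1 hvV
  have hprod : w * v * (F.p0 * v * F.p0⁻¹) = 1 := by
    calc w * v * (F.p0 * v * F.p0⁻¹)
        = w * F.p0 * (w * F.p0) * (w * F.p0) * (F.p0 ^ 3)⁻¹ := by rw [hv]; group
      _ = k ^ 3 := by rw [F.p0_cube, inv_one, mul_one, ← hwk, pow_succ, pow_two]
      _ = 1 := hk3
  have hvi : v⁻¹ = v := inv_eq_of_mul_eq_one_right (V_sq D hvV)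
  have hvu : v * (F.p0 * v * F.p0⁻¹) = w := by
    have e : v * (F.p0 * v * F.p0⁻¹) = w⁻¹ := by
      refine eq_inv_of_mul_eq_one_right ?_
      rw [← mul_assoc, hprod]
    rw [e, inv_eq_of_mul_eq_one_right (V_sq D hwV)]
  have hkey : v * F.p0 * v⁻¹ = k := by
    rw [hwk, ← hvu, hvi]
    group
  refine ⟨K.map (MulAut.conj v⁻¹).toMonoidHom, ?_, ?_, ?_, ?_⟩
  · intro y hy
    rw [NV.mem_map_conj, inv_inv] at hy
    have hvN : v ∈ normalizer (D.V : Set G) := Subgroup.le_normalizer hvV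
    have e : y = v⁻¹ * (v * y * v⁻¹) * v := by group
    rw [e]
    exact mul_mem (mul_mem (inv_mem hvN) (hKN hy)) hvN
  · intro y hy hyV
    rw [NV.mem_map_conj, inv_inv] at hy
    have := hKV _ hy (mul_mem (mul_mem hvV hyV) (inv_mem hvV))
    exact conj_eq_one_iff.1 this
  · intro σ hσ
    obtain ⟨k', hk'K, e⟩ := hKs σ hσ
    have hvN : v ∈ normalizer (D.V : Set G) := Subgroup.le_normalizer hvV
    refine ⟨v⁻¹ * k' * v, ?_, ?_⟩
    · rw [NV.mem_map_conj, inv_inv]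
      simpa [mul_assoc] using hk'K
    · rw [M.perm_mul _ (mul_mem (inv_mem hvN) (hKN hk'K)) _ hvN,
        M.perm_mul _ (inv_mem hvN) _ (hKN hk'K), (M.perm_eq_one _ hvN).2 hvV,
        (M.perm_eq_one _ (inv_mem hvN)).2 (inv_mem hvV), e, one_mul, mul_one]
  · rw [NV.mem_map_conj, inv_inv, hkey]
    exact hk

/-- An involution of the centraliser inducing a linear map is conjugate into `V`. -/
theorem conj_into_V_of_inX (hf : Fused D) {K : Subgroup G}
    (hKN : K ≤ normalizer (D.V : Set G)) (hKV : K ⊓ D.V = ⊥)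
    (hKsup : K ⊔ D.V = normalizer (D.V : Set G))
    {t : G} (ht : t ∈ Cen z) (h2 : t * t = 1) (hX : InX (F.mat t)) :
    ∃ g : G, g * t * g⁻¹ ∈ D.V := by
  obtain ⟨M, hM, hsurj⟩ := exists_pairModel_of_fused D hf
  have hKV' : ∀ k ∈ K, k ∈ D.V → k = 1 := fun k hk hkV =>
    Subgroup.mem_bot.1 (hKV ▸ (⟨hk, hkV⟩ : k ∈ K ⊓ D.V))
  have hKs : ∀ σ ∈ M24, ∃ k ∈ K, M.perm k = σ := by
    intro σ hσ
    obtain ⟨n, hn, e⟩ := hsurj σ hσ
    have hn' : n ∈ ((K ⊔ D.V : Subgroup G) : Set G) := by rw [hKsup]; exact hn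
    rw [Subgroup.coe_mul_of_left_le_normalizer_right K D.V hKN] at hn'
    obtain ⟨k, hk, v, hv, rfl⟩ := hn'
    refine ⟨k, hk, ?_⟩
    have hvN : v ∈ normalizer (D.V : Set G) := Subgroup.le_normalizer hv
    rw [M.perm_mul _ (hKN hk) _ hvN, (M.perm_eq_one _ hvN).2 hv, mul_one] at e
    exact e
  obtain ⟨K', hK'N, hK'V, hK's, hpK'⟩ := exists_complement_p0 D M hKN hKV' hKs
  obtain ⟨hvar, -⟩ := exists_cover D hf
  have hmodel : ∀ k < 9, ∀ n < 2048,
      F.gen9 k * vE D n * (F.gen9 k)⁻¹ = vE D (mv (NV.gensCover.getD k []) n) := by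
    intro k hk n hn
    have hn' := (Subgroup.mem_normalizer_iff.1 (gen9_mem D hk).2 _).1 (vE_mem D hn)
    have e : cV D (F.gen9 k * vE D n * (F.gen9 k)⁻¹) = mv (NV.gensCover.getD k []) n :=
      hvar k hk n hn
    rw [← e, (cV_spec D hn').2]
  have h2' : mm (F.mat t) (F.mat t) = idM := by
    rw [← F.mat_mul t ht t ht, h2, F.mat_one]
  obtain ⟨g, g', hg, hg', e1, c, hc, ec⟩ := NV.exists_conj_upper hX h2'
  obtain ⟨h, hh, ehm⟩ := F.mat_surj g' hg'.inL
  have hhi : F.mat h⁻¹ = g := by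
    let a : Cert.LGrp := ⟨F.mat h⁻¹, F.mat_inL _ (inv_mem hh.1)⟩
    let b : Cert.LGrp := ⟨g', hg'.inL⟩
    let d : Cert.LGrp := ⟨g, hg.inL⟩
    have h1 : b * a = 1 := Cert.LGrp.ext (by
      show mm g' (F.mat h⁻¹) = idM
      rw [← ehm, ← F.mat_mul _ hh.1 _ (inv_mem hh.1), mul_inv_cancel, F.mat_one])
    have h3 : d * b = 1 := Cert.LGrp.ext e1
    exact congrArg Subtype.val (left_inv_eq_right_inv h3 h1).symm
  set t' := h * t * h⁻¹ with ht'
  have ht'C : t' ∈ Cen z := mul_mem (mul_mem hh.1 ht) (inv_mem hh.1)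
  have ht'm : F.mat t' = NV.upM c := by
    rw [ht', F.mat_mul _ (mul_mem hh.1 ht) _ (inv_mem hh.1), F.mat_mul _ hh.1 _ ht, ehm, hhi, ← ec,
      Cert.mm_assoc]
  have ht'2 : t' * t' = 1 := by
    rw [ht', show h * t * h⁻¹ * (h * t * h⁻¹) = h * (t * t) * h⁻¹ by group, h2]; group
  have hback : ∀ {s : G}, (∃ a : G, a * s * a⁻¹ ∈ D.V) → ∀ b : G, s = b * t * b⁻¹ →
      ∃ a : G, a * t * a⁻¹ ∈ D.V := by
    rintro s ⟨a, ha⟩ b rfl
    exact ⟨a * b, by simpa [mul_assoc] using ha⟩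
  have hN : t' ∈ normalizer (D.V : Set G) :=
    mem_norm_of_plane D ht'C fun i hi => by rw [ht'm]; exact NV.upM_stab c hc i hi
  obtain ⟨v1, v2, -⟩ := vC_spec D hc
  have he : vC D c * t' ∈ Rad z := by
    refine (F.mat_eq_id _ (mul_mem (V0_le_CP D v1).1 ht'C)).1 ?_
    rw [F.mat_mul _ (V0_le_CP D v1).1 _ ht'C, v2, ht'm, NV.upM_mul c hc c hc, Nat.xor_self,
      NV.upM_one.1]
  have hte : vC D c * (vC D c * t') = t' := by rw [← mul_assoc, V_sq D v1.1, one_mul]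
  rcases inner_to_rad D M hM hK'N hK'V hK's hpK' hmodel v1.1 he (by rw [hte, ht'2]) with
    hin | ⟨n, hn⟩
  · rw [hte] at hin
    exact ⟨h, hin⟩
  · rw [hte] at hn
    refine hback (s := n * t' * n⁻¹) (rad_into_V D hn ?_) (n * h) (by rw [ht']; group)
    rw [show n * t' * n⁻¹ * (n * t' * n⁻¹) = n * (t' * t') * n⁻¹ by group, ht'2]
    group


/-- Every involution outside the class of the central involution is conjugate into `pairV`. -/
theorem conj_into_pairV [IsSimpleGroup G] (hf : Fused D) {K : Subgroup G}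
    (hKN : K ≤ normalizer (D.V : Set G)) (hKV : K ⊓ D.V = ⊥)
    (hKsup : K ⊔ D.V = normalizer (D.V : Set G))
    {t : G} (ht : orderOf t = 2) (hnc : ¬ IsConj z t) :
    ∃ g : G, g * t * g⁻¹ ∈ pairV D := by
  classical
  have : Fact (Nat.Prime 2) := ⟨Nat.prime_two⟩
  have h2 : t * t = 1 := by
    have := pow_orderOf_eq_one t
    rwa [ht, pow_two] at this
  have h1 : t ≠ 1 := fun h => by
    rw [h, orderOf_one] at ht
    exact absurd ht (by norm_num)
  obtain ⟨S, hS⟩ := F.exists_sylow_T₀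
  have hp : IsPGroup 2 (Subgroup.zpowers t) :=
    IsPGroup.of_card (n := 1) (by rw [Nat.card_zpowers, pow_one, ht])
  obtain ⟨S', hS'⟩ := hp.exists_le_sylow
  obtain ⟨a, ha⟩ := MulAction.exists_smul_eq G S' S
  have hat : a * t * a⁻¹ ∈ F.T₀ := by
    rw [← hS, ← ha, Sylow.coe_subgroup_smul]
    exact ⟨t, hS' (Subgroup.mem_zpowers t), rfl⟩
  obtain ⟨b, hb, hX⟩ := F.exists_conj_inX (F.T₀_le_cen hat) (by
    rw [show a * t * a⁻¹ * (a * t * a⁻¹) = a * (t * t) * a⁻¹ by group, h2]; group)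
  have e : b * (a * t * a⁻¹) * b⁻¹ = b * a * t * (b * a)⁻¹ := by group
  obtain ⟨g, hg⟩ := conj_into_V_of_inX D hf hKN hKV hKsup hb (by
    rw [e, show b * a * t * (b * a)⁻¹ * (b * a * t * (b * a)⁻¹) = b * a * (t * t) * (b * a)⁻¹ by
      group, h2]; group) hX
  have e' : g * (b * (a * t * a⁻¹) * b⁻¹) * g⁻¹ = g * b * a * t * (g * b * a)⁻¹ := by group
  rw [e'] at hg
  refine ⟨g * b * a, hg, fun h => h1 (conj_eq_one_iff.1 h), fun h => hnc ?_⟩
  exact h.trans (isConj_iff.2 ⟨g * b * a, rfl⟩).symm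

end Frame

end CfsgLib.J4Type
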