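import Cfsg.Agent.Lib.J4Type.NV.Coord

/-!
Conjugation on the elementary abelian group of order `2 ^ 11` by nine elements of its normaliser in
the centraliser: the coordinates follow one of the two recorded sets of matrices.
-/

set_option autoImplicit false
set_option linter.unusedSectionVars false
set_option maxRecDepth 100000
set_option Elab.async false

namespace CfsgLib.J4Type

open Cfsg Subgroup NV

namespace NV

theorem chiV_add : ∀ a < 16, ∀ c < 16, ∀ d < 16,
    chiV a (c ^^^ d) = (chiV a c).xor (chiV a d) := by decide +kernel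

/-- The number with four given bits. -/
def bits4 (f : ℕ → Bool) : ℕ :=
  (bif f 0 then 1 else 0) + (bif f 1 then 2 else 0) + (bif f 2 then 4 else 0) +
    (bif f 3 then 8 else 0)

theorem chiV_bits (f : ℕ → Bool) :
    bits4 f < 16 ∧ ∀ i < 4, chiV (bits4 f) (2 ^ i) = f i := by
  have h : ∀ a b c d : Bool, ((bif a then 1 else 0) + (bif b then 2 else 0) +
      (bif c then 4 else 0) + (bif d then 8 else 0) : ℕ) < 16 ∧
      ∀ i < 4, chiV ((bif a then 1 else 0) + (bif b then 2 else 0) + (bif c then 4 else 0) +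
        (bif d then 8 else 0)) (2 ^ i) = [a, b, c, d].getD i false := by decide +kernel
  obtain ⟨h1, h2⟩ := h (f 0) (f 1) (f 2) (f 3)
  refine ⟨h1, fun i hi => ?_⟩
  rw [bits4, h2 i hi]
  interval_cases i <;> rfl

theorem pack_parts : ∀ w < 64, ∀ e : Bool, ∀ c < 16,
    pack w e c < 2048 ∧ pack w e c % 64 = w ∧ (pack w e c).testBit 6 = e ∧
      pack w e c / 128 = c := by decide +kernel

theorem basis_parts : ∀ i < 11, 2 ^ i = pack (if i < 6 then 2 ^ i else 0) (decide (i = 6))
    (if 7 ≤ i then 2 ^ (i - 7) else 0) := by decide +kernel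

theorem gens_length : ∀ g ∈ gensSplit ++ gensCover, g.length = 11 ∧
    ∀ x ∈ g, x < 2048 := by decide +kernel

theorem rad_parts : ∀ j < 6, ∀ c < 16, mv (upM c) (2 ^ (6 + j)) ^^^ 2 ^ (6 + j) < 64 ∧
    mv pOm (2 ^ (6 + j)) < 4096 := by decide +kernel

theorem rad_plane : ∀ j < 6, ∀ w < 64, beta (2 ^ (6 + j)) w = beta w (2 ^ (6 + j)) →
    bF w (2 ^ (6 + j)) = bF (2 ^ (6 + j)) w := by
  intro j _ w _ _
  simp only [bF, Nat.xor_comm (2 ^ (6 + j)) w, Bool.xor_comm (qF (2 ^ (6 + j))) (qF w)]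

theorem qF_lower : ∀ j < 6, qF (2 ^ (6 + j)) = false := by decide +kernel

theorem mv_lt_2048 : ∀ (l : List ℕ) (v : ℕ), (∀ x ∈ l, x < 2048) → mv l v < 2048
  | [], _, _ => by simp [mv]
  | a :: l, v, h => by
    have ha := h a (by simp)
    have ih := mv_lt_2048 l (v / 2) fun x hx => h x (by simp [hx])
    simp only [mv]
    cases Nat.beq (v % 2) 1
    · exact ih
    · exact Nat.xor_lt_two_pow (n := 11) ha ih

end NV

variable {G : Type*} [Group G] {z : G} {P : Subgroup G}

namespace Frame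

variable {F : Frame z P} (D : VData F) [Finite G]
include D

theorem vE_pack {w c : ℕ} (hw : w < 64) (hc : c < 16) (e : Bool) :
    vE D (pack w e c) = F.eE w * F.zp e * vC D c := by
  obtain ⟨-, h1, h2, h3⟩ := pack_parts w hw e c hc
  rw [vE, h1, h2, h3]

theorem vE_eE {w : ℕ} (hw : w < 64) (e : Bool) : vE D (pack w e 0) = F.eE w * F.zp e := by
  rw [vE_pack D hw (by norm_num), vC_zero D, mul_one]

theorem vE_vC {c : ℕ} (hc : c < 16) (e : Bool) : vE D (pack 0 e c) = F.zp e * vC D c := by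
  rw [vE_pack D (by norm_num) hc, F.eE_zero, one_mul]

/-- A conjugation of the basis vectors extends to all coordinates. -/
theorem conj_of_basis {g : G} {M : List ℕ} (hl : ∀ x ∈ M, x < 2048)
    (hb : ∀ i < 11, g * vE D (2 ^ i) * g⁻¹ = vE D (mv M (2 ^ i))) :
    ∀ n < 2048, g * vE D n * g⁻¹ = vE D (mv M n) := by
  suffices ∀ k ≤ 11, ∀ n < 2 ^ k, g * vE D n * g⁻¹ = vE D (mv M n) from this 11 le_rfl
  intro k
  induction k with
  | zero =>
    intro _ n hn
    have h0 : vE D 0 = 1 := by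
      have := vE_xor D (show (0 : ℕ) < 2048 by norm_num) (show (0 : ℕ) < 2048 by norm_num)
      rw [Nat.xor_self] at this
      exact left_eq_mul.1 this
    rw [show n = 0 by simpa using hn, mv_zero, h0, mul_one, mul_inv_cancel]
  | succ k ih =>
    intro hk n hn
    by_cases hnk : n < 2 ^ k
    · exact ih (by omega) n hnk
    · have hw : n ^^^ 2 ^ k < 2 ^ k := by
        refine Nat.lt_pow_two_of_testBit _ fun i hi => ?_
        rcases eq_or_lt_of_le hi with e | e
        · subst e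
          obtain ⟨r, hr⟩ : ∃ r, n = 2 ^ k + r := ⟨n - 2 ^ k, by omega⟩
          have : n.testBit k = true := by
            rw [hr, Nat.testBit_two_pow_add_eq,
              Nat.testBit_lt_two_pow (by rw [pow_succ] at hn; omega)]
            rfl
          rw [Nat.testBit_xor, this, Nat.testBit_two_pow_self]; rfl
        · rw [Nat.testBit_xor, Nat.testBit_lt_two_pow (lt_of_lt_of_le hn
            (Nat.pow_le_pow_right (by norm_num) e)), Nat.testBit_two_pow_of_ne (by omega)]; rfl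
      have h2 : (2 : ℕ) ^ k < 2048 := lt_of_lt_of_le (Nat.pow_lt_pow_right (by norm_num) hk)
        (by norm_num)
      have hw' : n ^^^ 2 ^ k < 2048 := lt_trans hw h2
      have e : n = (n ^^^ 2 ^ k) ^^^ 2 ^ k := by rw [Nat.xor_assoc, Nat.xor_self, Nat.xor_zero]
      rw [e, vE_xor D hw' h2, mv_xor, vE_xor D (mv_lt_2048 M _ hl) (mv_lt_2048 M _ hl),
        ← hb k (by omega), ← ih (by omega) _ hw]
      group

theorem lev_conj_vC {k : ℕ} (hk : k < 3) {c : ℕ} (hc : c < 16) :
    ∃ b, F.lev k * vC D c * (F.lev k)⁻¹ = vC D ((cjTab.getD k []).getD c 0) * F.zp b := by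
  obtain ⟨h1, h2, -⟩ := vC_spec D hc
  have hu := conj_mem_V0 D (F.lev_spec hk).1 (lev_norm D hk) h1
  have hlt := (cjTab_ok k hk c hc).1
  obtain ⟨b, hb⟩ := nmX_pair D hu
  exact ⟨b, eq_vC_mul D hu hlt (mat_conj_lev D hk h1 hc h2) hb⟩

open Classical in
/-- The central bit of a conjugated canonical element. -/
noncomputable def chiOf (k c : ℕ) : Bool :=
  decide (F.lev k * vC D c * (F.lev k)⁻¹ ≠ vC D ((cjTab.getD k []).getD c 0))

theorem lev_conj {k : ℕ} (hk : k < 3) {c : ℕ} (hc : c < 16) :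
    F.lev k * vC D c * (F.lev k)⁻¹ = vC D ((cjTab.getD k []).getD c 0) * F.zp (chiOf D k c) := by
  obtain ⟨b, hb⟩ := lev_conj_vC D hk hc
  cases b <;> simp_all [chiOf, zp, F.z_ne]

theorem cjTab_add : ∀ k < 3, ∀ a < 16, ∀ b < 16, (cjTab.getD k []).getD (a ^^^ b) 0 =
    (cjTab.getD k []).getD a 0 ^^^ (cjTab.getD k []).getD b 0 := by decide +kernel

theorem chiOf_add {k : ℕ} (hk : k < 3) {a b : ℕ} (ha : a < 16) (hb : b < 16) :
    chiOf D k (a ^^^ b) = (chiOf D k a).xor (chiOf D k b) := by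
  have ea := lev_conj D hk ha
  have eb := lev_conj D hk hb
  have hab := lev_conj D hk (Nat.xor_lt_two_pow (n := 4) ha hb)
  have hA := (cjTab_ok k hk a ha).1
  have hB := (cjTab_ok k hk b hb).1
  rw [← vC_mul D ha hb, show F.lev k * (vC D a * vC D b) * (F.lev k)⁻¹ =
    F.lev k * vC D a * (F.lev k)⁻¹ * (F.lev k * vC D b * (F.lev k)⁻¹) by group, ea, eb,
    cjTab_add D k hk a ha b hb, ← vC_mul D hA hB] at hab
  have hc := V_comm D (zp_mem_V D (chiOf D k a)) (vC_spec D hB).1.1
  rw [mul_assoc (vC D _) (F.zp _), ← mul_assoc (F.zp _) (vC D _), hc, mul_assoc (vC D _) (F.zp _),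
    F.zp_mul, ← mul_assoc] at hab
  exact (F.zp_inj (mul_left_cancel hab)).symm

/-- The bit vector of the `k`-th generator. -/
noncomputable def aOf (k : ℕ) : ℕ := bits4 fun i => chiOf D k (2 ^ i)

theorem aOf_spec {k : ℕ} (hk : k < 3) :
    aOf D k < 16 ∧ ∀ c < 16, chiOf D k c = chiV (aOf D k) c := by
  obtain ⟨h1, h2⟩ := chiV_bits fun i => chiOf D k (2 ^ i)
  change aOf D k < 16 at h1
  change ∀ i < 4, chiV (aOf D k) (2 ^ i) = chiOf D k (2 ^ i) at h2
  refine ⟨h1, fun c hc => ?_⟩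
  have add : ∀ a < 16, ∀ b < 16, chiOf D k a = chiV (aOf D k) a →
      chiOf D k b = chiV (aOf D k) b → chiOf D k (a ^^^ b) = chiV (aOf D k) (a ^^^ b) :=
    fun a ha b hb e1 e2 => by rw [chiOf_add D hk ha hb, chiV_add _ h1 a ha b hb, e1, e2]
  have k1 := (h2 0 (by norm_num)).symm
  have k2 := (h2 1 (by norm_num)).symm
  have k4 := (h2 2 (by norm_num)).symm
  have k8 := (h2 3 (by norm_num)).symm
  norm_num at k1 k2 k4 k8
  have k0 := add 1 (by norm_num) 1 (by norm_num) k1 k1
  have k3 := add 1 (by norm_num) 2 (by norm_num) k1 k2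
  have k12 := add 4 (by norm_num) 8 (by norm_num) k4 k8
  norm_num at k0 k3 k12
  interval_cases c
  exacts [k0, k1, k2, k3, k4, add 1 (by norm_num) 4 (by norm_num) k1 k4,
    add 2 (by norm_num) 4 (by norm_num) k2 k4, add 3 (by norm_num) 4 (by norm_num) k3 k4, k8,
    add 1 (by norm_num) 8 (by norm_num) k1 k8, add 2 (by norm_num) 8 (by norm_num) k2 k8,
    add 3 (by norm_num) 8 (by norm_num) k3 k8, k12,
    add 1 (by norm_num) 12 (by norm_num) k1 k12, add 2 (by norm_num) 12 (by norm_num) k2 k12,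
    add 3 (by norm_num) 12 (by norm_num) k3 k12]

theorem aOf_zero : aOf D 0 = 0 := by
  have h0 : ∀ c < 16, chiOf D 0 c = false := fun c hc => by
    obtain ⟨h1, h2, h3⟩ := vC_spec D hc
    have hu := conj_mem_V0 D (F.lev_spec (k := 0) (by norm_num)).1 (lev_norm D (by norm_num)) h1
    have hn : F.nmX (F.lev 0 * vC D c * (F.lev 0)⁻¹) = 1 := by
      have e : F.nmX (F.lev 0 * vC D c * (F.lev 0)⁻¹) =
          F.lev 0 * F.nmX (vC D c) * (F.lev 0)⁻¹ := by
        simp only [nmX]; group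
      rw [e, h3, mul_one, mul_inv_cancel]
    have := eq_vC_mul D hu (cjTab_ok 0 (by norm_num) c hc).1
      (mat_conj_lev D (k := 0) (by norm_num) h1 hc h2) (b := false) (by rw [hn]; rfl)
    rw [lev_conj D (by norm_num) hc] at this
    exact F.zp_inj (mul_left_cancel this)
  rw [aOf, bits4, h0 _ (by norm_num), h0 _ (by norm_num), h0 _ (by norm_num), h0 _ (by norm_num)]
  rfl

theorem word_conj : ∀ (w : List ℕ), (∀ k ∈ w, k < 3) → ∀ c < 16,
    (evalW [0, aOf D 1, aOf D 2] w (c, false)).1 < 16 ∧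
    (w.map F.lev).prod * vC D c * ((w.map F.lev).prod)⁻¹ =
      vC D (evalW [0, aOf D 1, aOf D 2] w (c, false)).1 *
        F.zp (evalW [0, aOf D 1, aOf D 2] w (c, false)).2
  | [], _, c, hc => ⟨hc, by simp [evalW, zp]⟩
  | k :: w, h, c, hc => by
    obtain ⟨i1, i2⟩ := word_conj w (fun j hj => h j (by simp [hj])) c hc
    have hk := h k (by simp)
    refine ⟨(cjTab_ok k hk _ i1).1, ?_⟩
    have hz : F.lev k * F.zp (evalW [0, aOf D 1, aOf D 2] w (c, false)).2 * (F.lev k)⁻¹ =
        F.zp (evalW [0, aOf D 1, aOf D 2] w (c, false)).2 := by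
      rw [F.zp_comm (F.lev_spec hk).1.1, mul_inv_cancel_right]
    have ha : [0, aOf D 1, aOf D 2].getD k 0 = aOf D k := by
      interval_cases k <;> simp [aOf_zero D]
    rw [List.map_cons, List.prod_cons, mul_inv_rev,
      show F.lev k * (w.map F.lev).prod * vC D c * ((w.map F.lev).prod⁻¹ * (F.lev k)⁻¹) =
        F.lev k * ((w.map F.lev).prod * vC D c * (w.map F.lev).prod⁻¹) * (F.lev k)⁻¹ by group,
      i2, show ∀ a b : G, F.lev k * (a * b) * (F.lev k)⁻¹ =
        F.lev k * a * (F.lev k)⁻¹ * (F.lev k * b * (F.lev k)⁻¹) from fun a b => by group,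
      hz, lev_conj D hk i1, mul_assoc, F.zp_mul, (aOf_spec D hk).2 _ i1]
    simp only [evalW, ha, Bool.xor_comm]

theorem prod_lev : ∀ (w : List ℕ), (∀ k ∈ w, k < 3) → (w.map F.lev).prod ∈ CP z P ∧
    F.mat (w.map F.lev).prod = w.foldr (fun k m => mm (levG.getD k idM) m) idM
  | [], _ => ⟨one_mem _, F.mat_one⟩
  | k :: w, h => by
    obtain ⟨i1, i2⟩ := prod_lev w (fun j hj => h j (by simp [hj]))
    obtain ⟨l1, l2⟩ := F.lev_spec (h k (by simp))
    refine ⟨mul_mem l1 i1, ?_⟩
    rw [List.map_cons, List.prod_cons, F.mat_mul _ l1.1 _ i1.1, l2, i2, List.foldr_cons]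

theorem word_trivial {w : List ℕ} (hw : w ∈ relW) {c : ℕ} (hc : c < 16) :
    evalW [0, aOf D 1, aOf D 2] w (c, false) = (c, false) := by
  have hlt := relW_lt w hw
  obtain ⟨g1, g2⟩ := prod_lev D w hlt
  obtain ⟨e1, e2⟩ := word_conj D w hlt c hc
  obtain ⟨j, hj⟩ : ∃ j < 3, F.mat ((w.map F.lev).prod * F.p0 ^ j) = idM := by
    have hr := relW_scalar w hw
    rw [← g2] at hr
    simp only [List.mem_cons, List.not_mem_nil, or_false] at hr
    rcases hr with h | h | h
    · exact ⟨0, by norm_num, by rw [pow_zero, mul_one, h]⟩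
    · refine ⟨2, by norm_num, ?_⟩
      rw [F.mat_mul _ g1.1 _ (pow_mem F.p0_mem_cen _), h, pow_two,
        F.mat_mul _ F.p0_mem_cen _ F.p0_mem_cen, F.mat_p0]
      decide +kernel
    · refine ⟨1, by norm_num, ?_⟩
      rw [F.mat_mul _ g1.1 _ (pow_mem F.p0_mem_cen _), h, pow_one, F.mat_p0]
      decide +kernel
  have hp : F.p0 ^ j ∈ CP z P := pow_mem (F.P_le_CP F.p0_mem) j
  have hg := mul_mem g1 hp
  have hgz : (w.map F.lev).prod * F.p0 ^ j ∈ Cen z ⊓ centralizer (P : Set G) := hg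
  obtain ⟨v1, -, -⟩ := vC_spec D hc
  have key : (w.map F.lev).prod * vC D c * ((w.map F.lev).prod)⁻¹ = vC D c := by
    have hcomm : F.p0 ^ j * vC D c = vC D c * F.p0 ^ j := by
      have := F.mem_centP_iff.1 v1.2
      exact ((show Commute (vC D c) F.p0 from this).pow_right j).symm.eq
    have e : (w.map F.lev).prod * vC D c * ((w.map F.lev).prod)⁻¹ =
        (w.map F.lev).prod * F.p0 ^ j * vC D c * ((w.map F.lev).prod * F.p0 ^ j)⁻¹ := by
      rw [mul_assoc _ (F.p0 ^ j), hcomm, mul_inv_rev]; group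
    rw [e]
    rcases F.mem_rad_centP ((F.mat_eq_id _ hg.1).1 hj.2) hg.2 with h | h
    · rw [h, one_mul, inv_one, mul_one]
    · rw [h, ← F.z_comm (D.le_cen v1.1), mul_inv_cancel_right]
  rw [key] at e2
  have h2 : vE D (pack 0 false c) = vE D (pack 0 (evalW [0, aOf D 1, aOf D 2] w (c, false)).2
      (evalW [0, aOf D 1, aOf D 2] w (c, false)).1) := by
    rw [vE_vC D hc, vE_vC D e1, V_comm D (zp_mem_V D _) (vC_spec D e1).1.1, ← e2]
    simp [zp]
  have h3 := vE_injOn D (pack_parts 0 (by norm_num) _ c hc).1 (pack_parts 0 (by norm_num) _ _ e1).1 h2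
  obtain ⟨-, -, a3, a4⟩ := pack_parts 0 (by norm_num) false c hc
  obtain ⟨-, -, b3, b4⟩ := pack_parts 0 (by norm_num)
    (evalW [0, aOf D 1, aOf D 2] w (c, false)).2 _ e1
  exact Prod.ext (by rw [← b4, ← h3, a4]) (by rw [← b3, ← h3, a3])

variable (F) in
/-- The canonical lift of a basis vector of the lower plane. -/
noncomputable def radGen (j : ℕ) : G := F.eE (2 ^ (6 + j))

theorem radGen_mem {j : ℕ} (hj : j < 6) :
    F.radGen j ∈ Rad z ∧ F.radGen j ∈ normalizer (D.V : Set G) := by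
  have h := (F.eE_spec (show 2 ^ (6 + j) < 4096 from
    lt_of_lt_of_le (Nat.pow_lt_pow_right (by norm_num) (show 6 + j < 12 by omega)) (by norm_num))).1
  exact ⟨h, D.rad_le_norm h⟩

theorem rad_conj_plane {j : ℕ} (hj : j < 6) {w : ℕ} (hw : w < 64) :
    F.radGen j * F.eE w * (F.radGen j)⁻¹ = F.eE w * F.zp (bF w (2 ^ (6 + j))) := by
  have hb : (2 : ℕ) ^ (6 + j) < 4096 :=
    lt_of_lt_of_le (Nat.pow_lt_pow_right (by norm_num) (show 6 + j < 12 by omega)) (by norm_num)
  obtain ⟨r1, r2, -⟩ := F.eE_spec hb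
  obtain ⟨w1', w2', -⟩ := F.eE_spec (show w < 4096 by omega)
  have h := F.comm_rad r1 w1'
  rw [r2, w2'] at h
  have hs : bF (2 ^ (6 + j)) w = bF w (2 ^ (6 + j)) := by
    simp only [bF, Nat.xor_comm (2 ^ (6 + j)) w, Bool.xor_comm (qF (2 ^ (6 + j))) (qF w)]
  rw [hs] at h
  show F.eE (2 ^ (6 + j)) * F.eE w * (F.eE (2 ^ (6 + j)))⁻¹ = _
  rw [h]
  change F.eE w * F.eE (2 ^ (6 + j)) * F.zp (bF w (2 ^ (6 + j))) * _ = _
  rw [mul_assoc (F.eE w) _ (F.zp _), F.zp_comm (rad_le_Cen r1), ← mul_assoc,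
    mul_inv_cancel_right]

theorem rad_conj_vC {j : ℕ} (hj : j < 6) {c : ℕ} (hc : c < 16) :
    F.radGen j * vC D c * (F.radGen j)⁻¹ =
      F.eE (mv (upM c) (2 ^ (6 + j)) ^^^ 2 ^ (6 + j)) *
        F.zp (beta (mv (upM c) (2 ^ (6 + j))) (2 ^ (6 + j))) * vC D c := by
  have hb : (2 : ℕ) ^ (6 + j) < 4096 :=
    lt_of_lt_of_le (Nat.pow_lt_pow_right (by norm_num) (show 6 + j < 12 by omega)) (by norm_num)
  obtain ⟨v1, v2, -⟩ := vC_spec D hc
  obtain ⟨r1, r2, -⟩ := F.eE_spec hb
  have hy := F.conj_eE (V0_le_CP D v1) hb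
  rw [v2] at hy
  have hlt : mv (upM c) (2 ^ (6 + j)) < 4096 := by
    rw [← v2]; exact F.mv_lt (V0_le_CP D v1).1 hb
  have hm := F.eE_mul hlt hb
  have hs := (rad_parts j hj c hc).1
  have hR : F.eE (mv (upM c) (2 ^ (6 + j)) ^^^ 2 ^ (6 + j)) *
      F.zp (beta (mv (upM c) (2 ^ (6 + j))) (2 ^ (6 + j))) ∈ D.V :=
    mul_mem (plane_mem D hs) (zp_mem_V D _)
  rw [V_comm D hR v1.1, ← hm, ← hy]
  have hq : F.eE (2 ^ (6 + j)) * F.eE (2 ^ (6 + j)) = 1 := by
    have := F.sq _ r1
    rwa [r2, qF_lower j hj, if_neg (by simp)] at this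
  have hi : (F.eE (2 ^ (6 + j)))⁻¹ = F.eE (2 ^ (6 + j)) := inv_eq_of_mul_eq_one_right hq
  show F.eE (2 ^ (6 + j)) * vC D c * (F.eE (2 ^ (6 + j)))⁻¹ = _
  have hv : (vC D c)⁻¹ = vC D c := inv_eq_of_mul_eq_one_right (V_sq D v1.1)
  rw [hi, hv]
  simp only [← mul_assoc, V_sq D v1.1, one_mul]

variable (F) in
/-- The nine generators. -/
noncomputable def gen9 (k : ℕ) : G := if k < 3 then F.lev k else F.radGen (k - 3)

theorem gen9_mem {k : ℕ} (hk : k < 9) :
    F.gen9 k ∈ Cen z ∧ F.gen9 k ∈ normalizer (D.V : Set G) := by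
  unfold gen9
  split
  · exact ⟨(F.lev_spec (by omega)).1.1, lev_norm D (by omega)⟩
  · exact ⟨rad_le_Cen (radGen_mem D (by omega)).1, (radGen_mem D (by omega)).2⟩

theorem gen9_basis {k : ℕ} (hk : k < 9) {i : ℕ} (hi : i < 11) :
    F.gen9 k * vE D (2 ^ i) * (F.gen9 k)⁻¹ =
      vE D (if k < 3 then levBasis k (aOf D k) i else radBasis (k - 3) i) := by
  rw [basis_parts i hi]
  unfold gen9
  have c7 : 7 ≤ i → 2 ^ (i - 7) < 16 := fun h =>
    lt_of_lt_of_le (Nat.pow_lt_pow_right (by norm_num) (show i - 7 < 4 by omega)) (by norm_num)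
  have w6 : i < 6 → 2 ^ i < 64 := fun h =>
    lt_of_lt_of_le (Nat.pow_lt_pow_right (by norm_num) h) (by norm_num)
  have p64 : (64 : ℕ) = pack 0 true 0 := by decide
  have z6 : ∀ g ∈ Cen z, g * vE D (pack 0 true 0) * g⁻¹ = vE D (pack 0 true 0) := by
    intro g hg
    rw [vE_vC D (by norm_num), vC_zero D, mul_one, F.zp_comm hg, mul_inv_cancel_right]
  by_cases hk3 : k < 3
  · simp only [if_pos hk3, levBasis]
    obtain ⟨l1, l2⟩ := F.lev_spec hk3
    rcases Nat.lt_trichotomy i 6 with h | h | h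
    · simp only [if_pos h, show ¬ 7 ≤ i by omega, show i ≠ 6 by omega, decide_false, if_false]
      rw [vE_eE D (w6 h), show F.zp false = 1 from rfl, mul_one, F.conj_eE l1 (by
        have := w6 h; omega), l2]
      have hp := plane_invariant k hk3 i h
      have : pack (mv (levG.getD k idM) (2 ^ i)) false 0 = mv (levG.getD k idM) (2 ^ i) := by
        simp [pack]
      rw [← this, vE_eE D hp, show F.zp false = 1 from rfl, mul_one]
      rw [this]
    · subst h
      simp only [show ¬ (6 < 6) by omega, show ¬ (7 ≤ 6) by omega, decide_true, if_false, if_true]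
      rw [z6 _ l1.1, ← p64]
    · simp only [show ¬ i < 6 by omega, show 7 ≤ i by omega, show i ≠ 6 by omega, decide_false,
        if_false, if_true]
      have hc := c7 (by omega)
      have hl := (cjTab_ok k hk3 _ hc).1
      rw [vE_vC D hc, show F.zp false = 1 from rfl, one_mul, lev_conj D hk3 hc,
        (aOf_spec D hk3).2 _ hc, vE_vC D hl, V_comm D (zp_mem_V D _) (vC_spec D hl).1.1]
  · simp only [if_neg hk3, radBasis]
    have hj : k - 3 < 6 := by omega
    obtain ⟨r1, -⟩ := radGen_mem D hj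
    rcases Nat.lt_trichotomy i 6 with h | h | h
    · simp only [if_pos h, show ¬ 7 ≤ i by omega, show i ≠ 6 by omega, decide_false, if_false]
      rw [vE_eE D (w6 h), show F.zp false = 1 from rfl, mul_one, rad_conj_plane D hj (w6 h),
        vE_eE D (w6 h)]
    · subst h
      simp only [show ¬ (6 < 6) by omega, show ¬ (7 ≤ 6) by omega, decide_true, if_false, if_true]
      rw [z6 _ (rad_le_Cen r1), ← p64]
    · simp only [show ¬ i < 6 by omega, show 7 ≤ i by omega, show i ≠ 6 by omega, decide_false,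
        if_false, if_true]
      have hc := c7 (by omega)
      rw [vE_vC D hc, show F.zp false = 1 from rfl, one_mul, rad_conj_vC D hj hc,
        vE_pack D (rad_parts _ hj _ hc).1 hc]

/-- Conjugation by the generators follows one of the two models. -/
theorem exists_model : ∃ cover : Bool, ∀ k < 9, ∀ n < 2048,
    F.gen9 k * vE D n * (F.gen9 k)⁻¹ =
      vE D (mv ((bif cover then gensCover else gensSplit).getD k []) n) := by
  have hpin := relations_pin _ (aOf_spec D (k := 1) (by norm_num)).1 _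
    (aOf_spec D (k := 2) (by norm_num)).1 fun w hw c hc => word_trivial D hw hc
  obtain ⟨cv, hcv⟩ : ∃ cv : Bool, ∀ k < 3, aOf D k = (bif cv then [0, 6, 12] else [0, 0, 0]).getD k 0 := by
    rcases hpin with ⟨a1, a2⟩ | ⟨a1, a2⟩
    · exact ⟨false, fun k hk => by interval_cases k <;> simp [aOf_zero D, a1, a2]⟩
    · exact ⟨true, fun k hk => by interval_cases k <;> simp [aOf_zero D, a1, a2]⟩
  refine ⟨cv, fun k hk => conj_of_basis D ?_ fun i hi => ?_⟩
  · intro x hx
    cases cv <;> simp only [cond_true, cond_false] at hx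
    · have hlen : k < gensSplit.length := by rw [gensSplit_eq]; simpa using hk
      exact (gens_length _ (List.mem_append.2 (Or.inl (List.getElem_mem hlen)))).2 x (by
        rwa [← List.getD_eq_getElem gensSplit [] hlen])
    · have hlen : k < gensCover.length := by rw [gensCover_eq]; simpa using hk
      exact (gens_length _ (List.mem_append.2 (Or.inr (List.getElem_mem hlen)))).2 x (by
        rwa [← List.getD_eq_getElem gensCover [] hlen])
  · rw [gen9_basis D hk hi]
    congr 1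
    have hcmp : ∀ cv : Bool, ∀ k < 9, ∀ i < 11,
        (if k < 3 then levBasis k ((bif cv then [0, 6, 12] else [0, 0, 0]).getD k 0) i
          else radBasis (k - 3) i) =
          mv ((bif cv then gensCover else gensSplit).getD k []) (2 ^ i) := by
      decide +kernel
    rw [← hcmp cv k hk i hi]
    split
    · rename_i h3; rw [hcv k h3]
    · rfl

end Frame

end CfsgLib.J4Type
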