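import Cfsg.Agent.Lib.J4Type.NV.Basic
import Cfsg.Agent.Lib.J4Type.NV.Formulas

/-!
Canonical representatives in the radical: the elements whose three conjugates under the scalar
element multiply to one.
-/

set_option autoImplicit false
set_option linter.unusedSectionVars false

namespace CfsgLib.J4Type

open Cfsg Subgroup NV

variable {G : Type*} [Group G] {z : G} {P : Subgroup G}

namespace Frame

variable (F : Frame z P)
include F

/-- A power of the central involution. -/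
def zp (_F : Frame z P) (b : Bool) : G := if b then z else 1

theorem zp_mul (a b : Bool) : F.zp a * F.zp b = F.zp (a.xor b) := by
  cases a <;> cases b <;> simp [zp, F.z_mul_z]

theorem zp_comm {g : G} (hg : g ∈ Cen z) (b : Bool) : g * F.zp b = F.zp b * g := by
  cases b <;> simp [zp, F.z_comm hg]

theorem zp_mem (b : Bool) : F.zp b ∈ Rad z := by
  cases b <;> simp [zp, F.z_mem_rad]

theorem zp_mem_centP (b : Bool) : F.zp b ∈ centralizer (P : Set G) := by
  cases b <;> simp [zp, F.z_mem_centP]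

theorem co_zp (b : Bool) : F.co (F.zp b) = 0 := by
  cases b <;> simp [zp, F.co_one, F.co_z]

theorem zp_inj {a b : Bool} (h : F.zp a = F.zp b) : a = b := by
  cases a <;> cases b <;> simp_all [zp, F.z_ne, Ne.symm]

/-- The norm under the scalar element. -/
noncomputable def nm (x : G) : G := x * (F.p0 * x * F.p0⁻¹) * (F.p0 * (F.p0 * x * F.p0⁻¹) * F.p0⁻¹)

theorem co_p0 {x : G} (hx : x ∈ Rad z) : F.co (F.p0 * x * F.p0⁻¹) = w1 (F.co x) := by
  rw [F.conj_co F.p0_mem_cen hx, F.mat_p0, w1]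

theorem co_p0_two {x : G} (hx : x ∈ Rad z) :
    F.co (F.p0 * (F.p0 * x * F.p0⁻¹) * F.p0⁻¹) = w2 (F.co x) := by
  rw [F.co_p0 (F.rad_conj F.p0_mem_cen hx), F.co_p0 hx]; rfl

theorem nm_mem {x : G} (hx : x ∈ Rad z) : F.nm x ∈ Rad z :=
  mul_mem (mul_mem hx (F.rad_conj F.p0_mem_cen hx))
    (F.rad_conj F.p0_mem_cen (F.rad_conj F.p0_mem_cen hx))

theorem nm_mem_pair {x : G} (hx : x ∈ Rad z) : ∃ b, F.nm x = F.zp b := by
  have h1 := F.rad_conj F.p0_mem_cen hx
  have h2 := F.rad_conj F.p0_mem_cen h1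
  have hc : F.co (F.nm x) = 0 := by
    rw [nm, F.co_mul _ (mul_mem hx h1) _ h2, F.co_mul _ hx _ h1, F.co_p0 hx, F.co_p0_two hx,
      Nat.xor_assoc]
    exact Nat.eq_of_beq_eq_true (List.all_eq_true.1 scalar_sum _ (List.mem_range.2 (F.co_lt x hx)))
  rcases (F.co_eq_zero _ (F.nm_mem hx)).1 hc with e | e
  · exact ⟨false, e⟩
  · exact ⟨true, e⟩

theorem nm_mul_zp {x : G} (hx : x ∈ Rad z) (b : Bool) : F.nm (x * F.zp b) = F.nm x * F.zp b := by
  cases b
  · simp [zp]
  · have hp := F.z_comm F.p0_mem_cen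
    have e : F.p0 * (x * z) * F.p0⁻¹ = F.p0 * x * F.p0⁻¹ * z := by
      rw [← mul_assoc, mul_assoc _ z, ← F.z_comm (inv_mem F.p0_mem_cen), ← mul_assoc]
    have e' : ∀ y ∈ Cen z, F.p0 * (y * z) * F.p0⁻¹ = F.p0 * y * F.p0⁻¹ * z := fun y _ => by
      rw [← mul_assoc, mul_assoc _ z, ← F.z_comm (inv_mem F.p0_mem_cen), ← mul_assoc]
    have h1 := F.rad_conj F.p0_mem_cen hx
    have h2 := F.rad_conj F.p0_mem_cen h1
    simp only [nm, zp, if_true]
    rw [e, e' _ (rad_le_Cen h1)]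
    calc x * z * (F.p0 * x * F.p0⁻¹ * z) * (F.p0 * (F.p0 * x * F.p0⁻¹) * F.p0⁻¹ * z)
        = x * (z * (F.p0 * x * F.p0⁻¹)) * z *
          (F.p0 * (F.p0 * x * F.p0⁻¹) * F.p0⁻¹) * z := by simp only [mul_assoc]
      _ = x * ((F.p0 * x * F.p0⁻¹) * z) * z *
          (F.p0 * (F.p0 * x * F.p0⁻¹) * F.p0⁻¹) * z := by rw [F.z_comm_rad h1]
      _ = x * (F.p0 * x * F.p0⁻¹) * (F.p0 * (F.p0 * x * F.p0⁻¹) * F.p0⁻¹) * z := by
          simp only [mul_assoc, ← mul_assoc z z, F.z_mul_z, one_mul]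

theorem exists_canon (v : ℕ) (hv : v < 4096) : ∃ x ∈ Rad z, F.co x = v ∧ F.nm x = 1 := by
  obtain ⟨x, hx, rfl⟩ := F.co_surj v hv
  obtain ⟨b, hb⟩ := F.nm_mem_pair hx
  refine ⟨x * F.zp b, mul_mem hx (F.zp_mem b), ?_, ?_⟩
  · rw [F.co_mul _ hx _ (F.zp_mem b), F.co_zp, Nat.xor_zero]
  · rw [F.nm_mul_zp hx, hb, F.zp_mul, Bool.xor_self]; rfl

open Classical in
/-- The canonical element over a vector. -/
noncomputable def eE (v : ℕ) : G := if h : v < 4096 then (F.exists_canon v h).choose else 1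

theorem eE_spec {v : ℕ} (hv : v < 4096) : F.eE v ∈ Rad z ∧ F.co (F.eE v) = v ∧ F.nm (F.eE v) = 1 := by
  rw [eE, dif_pos hv]
  exact (F.exists_canon v hv).choose_spec

theorem eq_eE_mul {x : G} (hx : x ∈ Rad z) {b : Bool} (hb : F.nm x = F.zp b) :
    x = F.eE (F.co x) * F.zp b := by
  obtain ⟨h1, h2, h3⟩ := F.eE_spec (F.co_lt x hx)
  have key : ∀ c, x = F.eE (F.co x) * F.zp c → c = b := by
    intro c e
    rw [e, F.nm_mul_zp h1, h3, one_mul] at hb
    exact F.zp_inj hb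
  rcases F.eq_or_eq_mul_z hx h1 h2.symm with e | e
  · have := key false (by simpa [zp] using e)
    subst this; simpa [zp] using e
  · have := key true (by simpa [zp] using e)
    subst this; simpa [zp] using e

theorem eE_zero : F.eE 0 = 1 := by
  have h := F.eq_eE_mul (one_mem (Rad z)) (b := false) (by simp [nm, zp])
  rw [F.co_one] at h
  simpa [zp] using h.symm

theorem nm_conj {h x : G} (hp : h * F.p0 = F.p0 * h) :
    F.nm (h * x * h⁻¹) = h * F.nm x * h⁻¹ := by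
  have hc : ∀ y, F.p0 * (h * y * h⁻¹) * F.p0⁻¹ = h * (F.p0 * y * F.p0⁻¹) * h⁻¹ := fun y => by
    have hp' : h⁻¹ * F.p0⁻¹ = F.p0⁻¹ * h⁻¹ := by rw [← mul_inv_rev, ← mul_inv_rev, hp]
    rw [← mul_assoc, ← mul_assoc, ← hp, mul_assoc _ h⁻¹, hp']
    group
  simp only [nm, hc]
  group

theorem conj_eE {h : G} (hh : h ∈ CP z P) {v : ℕ} (hv : v < 4096) :
    h * F.eE v * h⁻¹ = F.eE (mv (F.mat h) v) := by
  obtain ⟨h1, h2, h3⟩ := F.eE_spec hv
  have hx := F.rad_conj hh.1 h1
  have := F.eq_eE_mul hx (b := false) (by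
    rw [F.nm_conj (F.mem_centP_iff.1 hh.2), h3]; simp [zp])
  rw [F.conj_co hh.1 h1, h2] at this
  simpa [zp] using this

theorem eE_mul {v w : ℕ} (hv : v < 4096) (hw : w < 4096) :
    F.eE v * F.eE w = F.eE (v ^^^ w) * F.zp (beta v w) := by
  obtain ⟨x0, cx, nx⟩ := F.eE_spec hv
  obtain ⟨y0, cy, ny⟩ := F.eE_spec hw
  have x1 := F.rad_conj F.p0_mem_cen x0
  have x2 := F.rad_conj F.p0_mem_cen x1
  have y1 := F.rad_conj F.p0_mem_cen y0
  have y2 := F.rad_conj F.p0_mem_cen y1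
  have cx1 := F.co_p0 x0
  have cx2 := F.co_p0_two x0
  have cy1 := F.co_p0 y0
  rw [cx] at cx1 cx2
  rw [cy] at cy1
  have hn : F.nm (F.eE v * F.eE w) = F.zp (beta v w) := by
    set x := F.eE v
    set y := F.eE w
    set a := F.p0 * x * F.p0⁻¹ with ha
    set b := F.p0 * y * F.p0⁻¹ with hb
    set a' := F.p0 * a * F.p0⁻¹ with ha'
    set b' := F.p0 * b * F.p0⁻¹ with hb'
    have e1 : F.p0 * (x * y) * F.p0⁻¹ = a * b := by rw [ha, hb]; group
    have e2 : F.p0 * (a * b) * F.p0⁻¹ = a' * b' := by rw [ha', hb']; group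
    have q1 : y * a = a * y * F.zp (bF w (w1 v)) := by
      have := F.comm_rad y0 x1
      rw [cy, cx1] at this; exact this
    have q2 : b * a' = a' * b * F.zp (bF (w1 w) (w2 v)) := by
      have := F.comm_rad y1 x2
      rw [cy1, cx2] at this; exact this
    have q3 : y * a' = a' * y * F.zp (bF w (w2 v)) := by
      have := F.comm_rad y0 x2
      rw [cy, cx2] at this; exact this
    have zc : ∀ g ∈ Rad z, ∀ c, F.zp c * g = g * F.zp c := fun g hg c =>
      (F.zp_comm (rad_le_Cen hg) c).symm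
    have nx' : x * a * a' = 1 := nx
    have ny' : y * b * b' = 1 := ny
    show x * y * (F.p0 * (x * y) * F.p0⁻¹) *
      (F.p0 * (F.p0 * (x * y) * F.p0⁻¹) * F.p0⁻¹) = _
    rw [e1, e2]
    calc x * y * (a * b) * (a' * b')
        = x * (y * a) * (b * a') * b' := by simp only [mul_assoc]
      _ = x * (a * y * F.zp (bF w (w1 v))) * (a' * b * F.zp (bF (w1 w) (w2 v))) * b' := by
          rw [q1, q2]
      _ = x * a * (y * a') * b * b' * F.zp ((bF w (w1 v)).xor (bF (w1 w) (w2 v))) := by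
          simp only [← F.zp_mul, mul_assoc, zc _ x2, zc _ y1, zc _ y2,
            ← mul_assoc (F.zp _) a', ← mul_assoc (F.zp _) b, ← mul_assoc (F.zp _) b']
      _ = x * a * a' * (y * b * b') *
          (F.zp (bF w (w2 v)) * F.zp ((bF w (w1 v)).xor (bF (w1 w) (w2 v)))) := by
          rw [q3]
          simp only [mul_assoc, zc _ y1, zc _ y2,
            ← mul_assoc (F.zp _) b, ← mul_assoc (F.zp _) b']
      _ = F.zp (beta v w) := by
          rw [nx', ny', F.zp_mul, one_mul, one_mul]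
          congr 1
          simp only [beta]
          cases bF w (w1 v) <;> cases bF w (w2 v) <;> cases bF (w1 w) (w2 v) <;> rfl
  have := F.eq_eE_mul (mul_mem x0 y0) hn
  rwa [F.co_mul _ x0 _ y0, cx, cy] at this

end Frame

end CfsgLib.J4Type
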