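import Cfsg.Agent.Lib.J4Type.NV.Canon
import Mathlib.GroupTheory.Sylow

/-!
Coordinates on the elementary abelian subgroup of order `2 ^ 11`: eleven bits, namely the plane,
the central involution and the part centralised by `P`.
-/

set_option autoImplicit false
set_option linter.unusedSectionVars false
set_option maxRecDepth 100000

namespace CfsgLib.J4Type

open Cfsg Subgroup NV

theorem mm_assoc (a b c : List ℕ) : mm (mm a b) c = mm a (mm b c) := by
  simp only [mm, List.map_map]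
  exact List.map_congr_left fun v _ => mv_mm a b v

theorem mm_idM {m : List ℕ} (hm : m.length = 12) : mm m idM = m := by
  refine list_ext_mv (by simp [mm, idM]) hm fun i hi => ?_
  rw [mv_mm, mv_idM (lt_of_lt_of_le (Nat.pow_lt_pow_right (by norm_num) hi) (by norm_num))]

theorem bF_basis_check : (List.range 6).all (fun i => (List.range 4096).all fun u =>
    bF (2 ^ i) u == u.testBit (6 + (i ^^^ 1))) = true := by decide +kernel

theorem bF_basis {i u : ℕ} (hi : i < 6) (hu : u < 4096) :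
    bF (2 ^ i) u = u.testBit (6 + (i ^^^ 1)) :=
  eq_of_beq (List.all_eq_true.1 (List.all_eq_true.1 bF_basis_check i (List.mem_range.2 hi)) u
    (List.mem_range.2 hu))

namespace Frame

theorem levG_inL {k : ℕ} (hk : k < 3) : InL (levG.getD k idM) := by
  have h : ∀ k < 3, levG.getD k idM ∈ gensL ∧ mm (levG.getD k idM) idM = levG.getD k idM := by
    decide +kernel
  rw [← (h k hk).2]
  exact InL.mul _ (h k hk).1 InL.one

theorem upM_length (c : ℕ) (hc : c < 16) : (upM c).length = 12 := by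
  revert c; decide +kernel

end Frame

variable {G : Type*} [Group G] {z : G} {P : Subgroup G}

namespace Frame

variable (F : Frame z P)
include F

theorem mat_inv_cancel {g : G} (hg : g ∈ Cen z) {M N : List ℕ} (hM : M.length = 12)
    (hN : N.length = 12) (h : mm M (F.mat g) = mm N (F.mat g)) : M = N := by
  have e : mm (F.mat g) (F.mat g⁻¹) = idM := by
    rw [← F.mat_mul g hg g⁻¹ (inv_mem hg), mul_inv_cancel, F.mat_one]
  have := congrArg (mm · (F.mat g⁻¹)) h
  simpa [mm_assoc, e, mm_idM hM, mm_idM hN] using this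

theorem mv_lt {h : G} (hh : h ∈ Cen z) {v : ℕ} (hv : v < 4096) : mv (F.mat h) v < 4096 := by
  obtain ⟨x, hx, rfl⟩ := F.co_surj v hv
  rw [← F.conj_co hh hx]
  exact F.co_lt _ (F.rad_conj hh hx)

theorem qF_inv {h : G} (hh : h ∈ Cen z) {v : ℕ} (hv : v < 4096) : qF (mv (F.mat h) v) = qF v := by
  obtain ⟨x, hx, rfl⟩ := F.co_surj v hv
  have s := F.sq _ (F.rad_conj hh hx)
  rw [F.conj_co hh hx, show h * x * h⁻¹ * (h * x * h⁻¹) = h * (x * x) * h⁻¹ by group, F.sq x hx] at s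
  have hz : h * z * h⁻¹ = z := by rw [F.z_comm hh, mul_inv_cancel_right]
  cases hb : qF (F.co x) <;> cases ha : qF (mv (F.mat h) (F.co x)) <;>
    simp_all [F.z_ne, Ne.symm]

theorem bF_inv {h : G} (hh : h ∈ Cen z) {v w : ℕ} (hv : v < 4096) (hw : w < 4096) :
    bF (mv (F.mat h) v) (mv (F.mat h) w) = bF v w := by
  simp only [bF]
  rw [← mv_xor, F.qF_inv hh hv, F.qF_inv hh hw,
    F.qF_inv hh (Nat.xor_lt_two_pow (n := 12) hv hw)]

variable {F} (D : VData F)

theorem V_comm {a b : G} (ha : a ∈ D.V) (hb : b ∈ D.V) : a * b = b * a := by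
  haveI := D.elem.1
  exact congrArg Subtype.val (mul_comm' (⟨a, ha⟩ : D.V) ⟨b, hb⟩)

theorem V_sq {a : G} (ha : a ∈ D.V) : a * a = 1 := by simpa [pow_two] using D.elem.2 a ha

theorem plane_mem {v : ℕ} (hv : v < 64) : F.eE v ∈ D.V := by
  obtain ⟨h1, h2, -⟩ := F.eE_spec (show v < 4096 by omega)
  exact (D.rad _ h1).2 (by rw [h2]; exact hv)

theorem zp_mem_V (b : Bool) : F.zp b ∈ D.V := by
  cases b <;> simp [zp, D.z_mem]

/-- Elements of the centraliser of the central involution fixing the plane form a two-group. -/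
theorem isPGroup_plane [Finite G] :
    IsPGroup 2 ↥(Cen z ⊓ centralizer ((D.V ⊓ Rad z : Subgroup G) : Set G)) := by
  intro ⟨k, hk, hkW⟩
  refine ⟨3, ?_⟩
  have fixW : ∀ v < 64, mv (F.mat k) v = v := fun v hv => by
    have hm := plane_mem D hv
    obtain ⟨h1, h2, -⟩ := F.eE_spec (show v < 4096 by omega)
    have := F.conj_co hk h1
    rw [← mem_centralizer_iff.1 hkW _ ⟨hm, h1⟩, mul_inv_cancel_right, h2] at this
    exact this.symm
  have shift : ∀ v < 4096, mv (F.mat k) v ^^^ v < 64 := fun v hv => by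
    have hg := F.mv_lt hk hv
    refine Nat.lt_pow_two_of_testBit (n := 6) _ fun i hi => ?_
    by_cases h12 : i < 12
    · have h2 : 6 + ((i - 6) ^^^ 1 ^^^ 1) = i := by
        rw [Nat.xor_assoc, Nat.xor_self, Nat.xor_zero]; omega
      have hj : (i - 6) ^^^ 1 < 6 := by
        have h3 : i - 6 < 6 := by omega
        generalize i - 6 = j at h3
        interval_cases j <;> decide
      have hb := F.bF_inv hk (show (2 : ℕ) ^ ((i - 6) ^^^ 1) < 4096 from
        lt_of_lt_of_le (Nat.pow_lt_pow_right (by norm_num) hj) (by norm_num)) hv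
      rw [fixW _ (lt_of_lt_of_le (Nat.pow_lt_pow_right (by norm_num) hj) (by norm_num)),
        bF_basis hj hg, bF_basis hj hv, h2] at hb
      rw [Nat.testBit_xor, hb, Bool.xor_self]
    · exact Nat.testBit_lt_two_pow (lt_of_lt_of_le
        (Nat.xor_lt_two_pow (n := 12) hg hv) (Nat.pow_le_pow_right (by norm_num) (by omega)))
  have h2 : k * k ∈ Rad z := by
    refine (F.mat_eq_id _ (mul_mem hk hk)).1 (list_ext_mv (F.mat_length (mul_mem hk hk))
      (by simp [idM]) fun i hi => ?_)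
    have hv : 2 ^ i < 4096 := lt_of_lt_of_le (Nat.pow_lt_pow_right (by norm_num) hi) (by norm_num)
    rw [F.mat_mul k hk k hk, mv_mm, mv_idM hv]
    have hd := shift _ hv
    generalize hd' : mv (F.mat k) (2 ^ i) ^^^ 2 ^ i = d at hd
    have e : mv (F.mat k) (2 ^ i) = 2 ^ i ^^^ d := by
      rw [← hd', Nat.xor_comm (mv _ _), ← Nat.xor_assoc, Nat.xor_self, Nat.zero_xor]
    rw [e, mv_xor, fixW d hd, e, Nat.xor_assoc, Nat.xor_self, Nat.xor_zero]
  have h4 := F.sq _ h2
  apply Subtype.ext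
  show k ^ (2 ^ 3) = 1
  rw [show k ^ (2 ^ 3) = (k * k * (k * k)) * (k * k * (k * k)) by norm_num [pow_succ, mul_assoc], h4]
  split <;> simp [F.z_mul_z]

/-- An element stabilising the plane normalises the group. -/
theorem mem_norm_of_plane [Finite G] {h : G} (hh : h ∈ Cen z)
    (hp : ∀ i < 6, mv (F.mat h) (2 ^ i) < 64) : h ∈ normalizer (D.V : Set G) := by
  haveI : Fact (Nat.Prime 2) := ⟨Nat.prime_two⟩
  have hpl : ∀ v < 64, mv (F.mat h) v < 64 := by
    suffices ∀ k ≤ 6, ∀ v < 2 ^ k, mv (F.mat h) v < 64 from this 6 le_rfl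
    intro k
    induction k with
    | zero => intro _ v hv; rw [show v = 0 by simpa using hv, mv_zero]; norm_num
    | succ k ih =>
      intro hk v hv
      by_cases hvk : v < 2 ^ k
      · exact ih (by omega) v hvk
      · have hw : v ^^^ 2 ^ k < 2 ^ k := by
          refine Nat.lt_pow_two_of_testBit _ fun i hi => ?_
          rcases eq_or_lt_of_le hi with e | e
          · subst e
            have : v.testBit k = true := by
              obtain ⟨r, hr⟩ : ∃ r, v = 2 ^ k + r := ⟨v - 2 ^ k, by omega⟩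
              rw [hr, Nat.testBit_two_pow_add_eq, Nat.testBit_lt_two_pow (by rw [pow_succ] at hv; omega)]
              rfl
            rw [Nat.testBit_xor, this, Nat.testBit_two_pow_self]; rfl
          · rw [Nat.testBit_xor, Nat.testBit_lt_two_pow (lt_of_lt_of_le hv
              (Nat.pow_le_pow_right (by norm_num) e)),
              Nat.testBit_two_pow_of_ne (by omega)]; rfl
        have e : v = (v ^^^ 2 ^ k) ^^^ 2 ^ k := by
          rw [Nat.xor_assoc, Nat.xor_self, Nat.xor_zero]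
        rw [e, mv_xor]
        exact Nat.xor_lt_two_pow (n := 6) (ih (by omega) _ hw) (hp k (by omega))
  have hK : D.V ≤ Cen z ⊓ centralizer ((D.V ⊓ Rad z : Subgroup G) : Set G) := fun v hv =>
    ⟨D.le_cen hv, mem_centralizer_iff.2 fun w hw => V_comm D hw.1 hv⟩
  have hW : ∀ w ∈ D.V ⊓ Rad z, h * w * h⁻¹ ∈ D.V ⊓ Rad z := fun w hw => by
    refine ⟨(D.rad _ (F.rad_conj hh hw.2)).2 ?_, F.rad_conj hh hw.2⟩
    rw [F.conj_co hh hw.2]
    exact hpl _ ((D.rad _ hw.2).1 hw.1)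
  have hW' : ∀ w ∈ D.V ⊓ Rad z, h⁻¹ * w * h ∈ D.V ⊓ Rad z := by
    let f : ↥(D.V ⊓ Rad z) → ↥(D.V ⊓ Rad z) := fun w => ⟨h * w * h⁻¹, hW w w.2⟩
    have hinj : Function.Injective f := fun a b e => Subtype.ext (by
      simpa [f] using congrArg Subtype.val e)
    intro w hw
    obtain ⟨u, hu⟩ := Finite.surjective_of_injective hinj ⟨w, hw⟩
    have e : h * u * h⁻¹ = w := congrArg Subtype.val hu
    rw [← e, show h⁻¹ * (h * u * h⁻¹) * h = u by group]
    exact u.2
  have hK' : D.V.map (MulAut.conj h).toMonoidHom ≤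
      Cen z ⊓ centralizer ((D.V ⊓ Rad z : Subgroup G) : Set G) := by
    rintro _ ⟨v, hv, rfl⟩
    show h * v * h⁻¹ ∈ _
    refine ⟨(Cen z).mul_mem ((Cen z).mul_mem hh (D.le_cen hv)) ((Cen z).inv_mem hh), mem_centralizer_iff.2 fun w hw => ?_⟩
    have := V_comm D (hW' w hw).1 hv
    calc w * (h * v * h⁻¹) = h * (h⁻¹ * w * h * v) * h⁻¹ := by group
      _ = h * (v * (h⁻¹ * w * h)) * h⁻¹ := by rw [this]
      _ = h * v * h⁻¹ * w := by group
  obtain ⟨T, hT⟩ := (isPGroup_plane D).exists_le_sylow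
  have helem : IsElementaryAbelian 2 (D.V.map (MulAut.conj h).toMonoidHom) := by
    refine ⟨⟨⟨?_⟩⟩, ?_⟩
    · rintro ⟨_, a, ha, rfl⟩ ⟨_, b, hb, rfl⟩
      exact Subtype.ext (by
        show (MulAut.conj h) a * (MulAut.conj h) b = (MulAut.conj h) b * (MulAut.conj h) a
        rw [← map_mul, ← map_mul, V_comm D ha hb])
    · rintro _ ⟨a, ha, rfl⟩
      rw [← map_pow, D.elem.2 a ha, map_one]
  have hcard : Nat.card ↥(D.V.map (MulAut.conj h).toMonoidHom) = 2 ^ 11 := by
    rw [← Nat.card_congr (Subgroup.equivMapOfInjective D.V _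
      (MulAut.conj h).injective).toEquiv, D.card]
  have heq := D.unique T _ _ (hK'.trans hT) (hK.trans hT) helem hcard D.elem D.card
  rw [mem_normalizer_iff]
  intro v
  constructor
  · intro hv
    exact heq.le ⟨v, hv, rfl⟩
  · intro hv
    obtain ⟨u, hu, e⟩ := heq.ge hv
    have : u = v := by simpa using e
    exact this ▸ hu

/-- The part of the group centralised by `P`. -/
def V0 : Subgroup G := D.V ⊓ centralizer (P : Set G)

theorem zp_mem_V0 (b : Bool) : F.zp b ∈ V0 D := ⟨zp_mem_V D b, F.zp_mem_centP b⟩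

theorem V0_le_CP : V0 D ≤ CP z P := fun _ h => ⟨D.le_cen h.1, h.2⟩

variable (F) in
/-- A lift of a Levi generator, of order three for the first. -/
noncomputable def lev (k : ℕ) : G :=
  if hk : k < 3 then
    bif k == 0 then (F.exists_lift (levG_inL hk) (lev_comm_scalar k hk)).choose ^ 4
    else (F.exists_lift (levG_inL hk) (lev_comm_scalar k hk)).choose
  else 1

variable (F) in
theorem lev_spec {k : ℕ} (hk : k < 3) :
    F.lev k ∈ CP z P ∧ F.mat (F.lev k) = levG.getD k idM := by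
  have h := (F.exists_lift (levG_inL hk) (lev_comm_scalar k hk)).choose_spec
  rw [lev, dif_pos hk]
  by_cases h0 : k = 0
  · subst h0
    simp only [beq_self_eq_true, cond_true]
    refine ⟨pow_mem h.1 4, ?_⟩
    rw [F.mat_pow h.1.1 3, h.2]
    decide +kernel
  · simp only [show (k == 0) = false by simpa using h0, cond_false]
    exact h

variable (F) in
theorem levX_cube : F.lev 0 ^ 3 = 1 := by
  have hk : (0 : ℕ) < 3 := by norm_num
  have h := (F.exists_lift (levG_inL hk) (lev_comm_scalar 0 hk)).choose_spec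
  rw [lev, dif_pos hk]
  simp only [beq_self_eq_true, cond_true]
  generalize (F.exists_lift (levG_inL hk) (lev_comm_scalar 0 hk)).choose = g at h
  have hm : F.mat (g ^ 3) = idM := by
    rw [F.mat_pow h.1.1 2, h.2]
    decide +kernel
  have hr := (F.mat_eq_id _ (pow_mem h.1.1 3)).1 hm
  rw [← pow_mul, mul_comm 4 3, pow_mul]
  rcases F.mem_rad_centP hr (pow_mem h.1.2 3) with e | e <;>
    simp [e, pow_succ, F.z_mul_z]

variable [Finite G]

theorem lev_norm {k : ℕ} (hk : k < 3) : F.lev k ∈ normalizer (D.V : Set G) := by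
  refine mem_norm_of_plane D (F.lev_spec hk).1.1 fun i hi => ?_
  rw [(F.lev_spec hk).2]
  exact plane_invariant k hk i hi

theorem conj_mem_V0 {h v : G} (hh : h ∈ CP z P) (hn : h ∈ normalizer (D.V : Set G))
    (hv : v ∈ V0 D) : h * v * h⁻¹ ∈ V0 D :=
  ⟨(mem_normalizer_iff.1 hn v).1 hv.1,
    (centralizer (P : Set G)).mul_mem ((centralizer (P : Set G)).mul_mem hh.2 hv.2)
      ((centralizer (P : Set G)).inv_mem hh.2)⟩

theorem exists_upper {c : ℕ} (hc : c < 16) : ∃ u ∈ V0 D, F.mat u = upM c := by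
  let S : ℕ → Prop := fun c => ∃ u ∈ V0 D, F.mat u = upM c
  have hcj : ∀ k < 3, ∀ c < 16, S c → S ((cjTab.getD k []).getD c 0) := by
    rintro k hk c hc ⟨u, hu, hm⟩
    obtain ⟨h1, h2⟩ := F.lev_spec hk
    obtain ⟨hlt, e⟩ := cjTab_ok k hk c hc
    have hu' := conj_mem_V0 D h1 (lev_norm D hk) hu
    refine ⟨_, hu', F.mat_inv_cancel h1.1 (F.mat_length (V0_le_CP D hu').1) (upM_length _ hlt) ?_⟩
    rw [← F.mat_mul _ (V0_le_CP D hu').1 _ h1.1, inv_mul_cancel_right,
      F.mat_mul _ h1.1 _ (V0_le_CP D hu).1, hm, h2, e]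
  have hadd : ∀ a < 16, ∀ b < 16, S a → S b → S (a ^^^ b) := by
    rintro a ha b hb ⟨u, hu, hm⟩ ⟨v, hv, hn⟩
    exact ⟨_, mul_mem hu hv, by
      rw [F.mat_mul _ (V0_le_CP D hu).1 _ (V0_le_CP D hv).1, hm, hn, upM_mul a ha b hb]⟩
  have h0 : S 0 := ⟨1, one_mem _, by rw [F.mat_one, upM_one.1]⟩
  have h1 : S 1 := by
    obtain ⟨u, hu, hm⟩ := D.upper
    exact ⟨u, hu, by rw [hm, upM_one.2.2]⟩
  obtain ⟨t1, t2, t3⟩ := cjTab_generate
  have h2 : S 2 := t1 ▸ hcj 1 (by norm_num) 1 (by norm_num) h1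
  have h4 : S 4 := t2 ▸ hcj 2 (by norm_num) 1 (by norm_num) h1
  have h8 : S 8 := t3 ▸ hcj 0 (by norm_num) 2 (by norm_num) h2
  have h3 := hadd 1 (by norm_num) 2 (by norm_num) h1 h2
  have h12 := hadd 4 (by norm_num) 8 (by norm_num) h4 h8
  change S c
  interval_cases c
  exacts [h0, h1, h2, h3, h4, hadd 1 (by norm_num) 4 (by norm_num) h1 h4,
    hadd 2 (by norm_num) 4 (by norm_num) h2 h4, hadd 3 (by norm_num) 4 (by norm_num) h3 h4, h8,
    hadd 1 (by norm_num) 8 (by norm_num) h1 h8, hadd 2 (by norm_num) 8 (by norm_num) h2 h8,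
    hadd 3 (by norm_num) 8 (by norm_num) h3 h8, h12,
    hadd 1 (by norm_num) 12 (by norm_num) h1 h12, hadd 2 (by norm_num) 12 (by norm_num) h2 h12,
    hadd 3 (by norm_num) 12 (by norm_num) h3 h12]

theorem V0_cases {u : G} (hu : u ∈ V0 D) : ∃ c < 16, F.mat u = upM c := by
  choose r hr hm using fun c : Fin 16 => exists_upper D c.2
  let f : Fin 16 × Bool → ↥(V0 D) := fun p => ⟨r p.1 * F.zp p.2, mul_mem (hr p.1) (zp_mem_V0 D p.2)⟩
  have matz : ∀ b, F.mat (F.zp b) = idM := fun b =>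
    (F.mat_eq_id _ (rad_le_Cen (F.zp_mem b))).2 (F.zp_mem b)
  have matf : ∀ p, F.mat (f p) = upM p.1 := fun p => by
    show F.mat (r p.1 * F.zp p.2) = _
    rw [F.mat_mul _ (V0_le_CP D (hr p.1)).1 _ (rad_le_Cen (F.zp_mem _)), hm, matz,
      mm_idM (upM_length _ p.1.2)]
  have hinj : Function.Injective f := by
    rintro ⟨a, b⟩ ⟨a', b'⟩ e
    have h1 := congrArg (fun x : ↥(V0 D) => F.mat x) e
    simp only [matf] at h1
    have h2 : upM ((a : ℕ) ^^^ a') = idM := by
      rw [← upM_mul _ a.2 _ a'.2, ← h1, upM_mul _ a.2 _ a.2, Nat.xor_self, upM_one.1]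
    have : (a : ℕ) = a' := Nat.xor_eq_zero_iff.1
      (upM_inj _ (Nat.xor_lt_two_pow (n := 4) a.2 a'.2) h2)
    obtain rfl : a = a' := Fin.ext this
    exact Prod.ext rfl (F.zp_inj (mul_left_cancel (congrArg Subtype.val e)))
  have hc : Nat.card (Fin 16 × Bool) = Nat.card ↥(V0 D) := by
    rw [V0, D.card_fixed]; simp
  obtain ⟨p, hp⟩ := (hinj.bijective_of_nat_card_le hc.ge).2 ⟨u, hu⟩
  exact ⟨p.1, p.1.2, by rw [← matf p, hp]⟩

variable (F) in
/-- The norm under the first Levi generator. -/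
noncomputable def nmX (u : G) : G :=
  u * (F.lev 0 * u * (F.lev 0)⁻¹) *
    (F.lev 0 * (F.lev 0 * u * (F.lev 0)⁻¹) * (F.lev 0)⁻¹)

theorem mat_conj_lev {k : ℕ} (hk : k < 3) {u : G} (hu : u ∈ V0 D) {c : ℕ} (hc : c < 16)
    (hm : F.mat u = upM c) :
    F.mat (F.lev k * u * (F.lev k)⁻¹) = upM ((cjTab.getD k []).getD c 0) := by
  obtain ⟨h1, h2⟩ := F.lev_spec hk
  obtain ⟨hlt, e⟩ := cjTab_ok k hk c hc
  have hu' := conj_mem_V0 D h1 (lev_norm D hk) hu
  refine F.mat_inv_cancel h1.1 (F.mat_length (V0_le_CP D hu').1) (upM_length _ hlt) ?_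
  rw [← F.mat_mul _ (V0_le_CP D hu').1 _ h1.1, inv_mul_cancel_right,
    F.mat_mul _ h1.1 _ (V0_le_CP D hu).1, hm, h2, e]

theorem nmX_pair {u : G} (hu : u ∈ V0 D) : ∃ b, F.nmX u = F.zp b := by
  obtain ⟨c, hc, hm⟩ := V0_cases D hu
  obtain ⟨h1, -⟩ := F.lev_spec (k := 0) (by norm_num)
  have hn := lev_norm D (k := 0) (by norm_num)
  have u1 := conj_mem_V0 D h1 hn hu
  have u2 := conj_mem_V0 D h1 hn u1
  have m1 := mat_conj_lev D (k := 0) (by norm_num) hu hc hm
  have l1 := (cjTab_ok 0 (by norm_num) c hc).1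
  have m2 := mat_conj_lev D (k := 0) (by norm_num) u1 l1 m1
  have l2 := (cjTab_ok 0 (by norm_num) _ l1).1
  have hall : F.nmX u ∈ V0 D := mul_mem (mul_mem hu u1) u2
  have hid : F.mat (F.nmX u) = idM := by
    rw [nmX, F.mat_mul _ (mul_mem (V0_le_CP D hu).1 (V0_le_CP D u1).1) _ (V0_le_CP D u2).1,
      F.mat_mul _ (V0_le_CP D hu).1 _ (V0_le_CP D u1).1, hm, m1, m2, upM_mul _ hc _ l1,
      upM_mul _ (Nat.xor_lt_two_pow (n := 4) hc l1) _ l2, Nat.xor_assoc, kX_fpf c hc, upM_one.1]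
  rcases F.mem_rad_centP ((F.mat_eq_id _ (V0_le_CP D hall).1).1 hid) hall.2 with e | e
  · exact ⟨false, e⟩
  · exact ⟨true, e⟩

theorem nmX_mul {u v : G} (hu : u ∈ V0 D) (hv : v ∈ V0 D) :
    F.nmX (u * v) = F.nmX u * F.nmX v := by
  obtain ⟨h1, -⟩ := F.lev_spec (k := 0) (by norm_num)
  have hn := lev_norm D (k := 0) (by norm_num)
  have u1 := conj_mem_V0 D h1 hn hu
  have u2 := conj_mem_V0 D h1 hn u1
  have v1 := conj_mem_V0 D h1 hn hv
  unfold nmX
  set X := F.lev 0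
  rw [show X * (u * v) * X⁻¹ = X * u * X⁻¹ * (X * v * X⁻¹) by group,
    show X * (X * u * X⁻¹ * (X * v * X⁻¹)) * X⁻¹ =
      X * (X * u * X⁻¹) * X⁻¹ * (X * (X * v * X⁻¹) * X⁻¹) by group]
  set a := X * u * X⁻¹
  set b := X * v * X⁻¹
  set a' := X * a * X⁻¹
  calc u * v * (a * b) * (a' * (X * b * X⁻¹))
      = u * (v * a) * (b * a') * (X * b * X⁻¹) := by simp only [mul_assoc]
    _ = u * (a * v) * (a' * b) * (X * b * X⁻¹) := by
        rw [V_comm D hv.1 u1.1, V_comm D v1.1 u2.1]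
    _ = u * a * (v * a') * b * (X * b * X⁻¹) := by simp only [mul_assoc]
    _ = u * a * a' * (v * b * (X * b * X⁻¹)) := by
        rw [V_comm D hv.1 u2.1]; simp only [mul_assoc]

theorem nmX_zp (b : Bool) : F.nmX (F.zp b) = F.zp b := by
  obtain ⟨h1, -⟩ := F.lev_spec (k := 0) (by norm_num)
  have e : F.lev 0 * F.zp b * (F.lev 0)⁻¹ = F.zp b := by
    rw [F.zp_comm h1.1, mul_inv_cancel_right]
  rw [nmX, e, e, F.zp_mul, Bool.xor_self]
  cases b <;> simp [zp]

theorem exists_vC {c : ℕ} (hc : c < 16) :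
    ∃ u ∈ V0 D, F.mat u = upM c ∧ F.nmX u = 1 := by
  obtain ⟨u, hu, hm⟩ := exists_upper D hc
  obtain ⟨b, hb⟩ := nmX_pair D hu
  refine ⟨u * F.zp b, mul_mem hu (zp_mem_V0 D b), ?_, ?_⟩
  · rw [F.mat_mul _ (V0_le_CP D hu).1 _ (rad_le_Cen (F.zp_mem b)), hm,
      (F.mat_eq_id _ (rad_le_Cen (F.zp_mem b))).2 (F.zp_mem b), mm_idM (upM_length c hc)]
  · rw [nmX_mul D hu (zp_mem_V0 D b), hb, F.nmX_zp, F.zp_mul, Bool.xor_self]; rfl

open Classical in
/-- The canonical element of the centralised part over an element of the upper radical. -/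
noncomputable def vC (c : ℕ) : G := if h : c < 16 then (exists_vC D h).choose else 1

theorem vC_spec {c : ℕ} (hc : c < 16) :
    vC D c ∈ V0 D ∧ F.mat (vC D c) = upM c ∧ F.nmX (vC D c) = 1 := by
  rw [vC, dif_pos hc]
  exact (exists_vC D hc).choose_spec

theorem eq_vC_mul {u : G} (hu : u ∈ V0 D) {c : ℕ} (hc : c < 16) (hm : F.mat u = upM c) {b : Bool}
    (hb : F.nmX u = F.zp b) : u = vC D c * F.zp b := by
  obtain ⟨h1, h2, h3⟩ := vC_spec D hc
  have hq : u * vC D c ∈ V0 D := mul_mem hu h1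
  have hid : F.mat (u * vC D c) = idM := by
    rw [F.mat_mul _ (V0_le_CP D hu).1 _ (V0_le_CP D h1).1, hm, h2, upM_mul c hc c hc, Nat.xor_self,
      upM_one.1]
  obtain ⟨d, hd⟩ : ∃ d, u * vC D c = F.zp d := by
    rcases F.mem_rad_centP ((F.mat_eq_id _ (V0_le_CP D hq).1).1 hid) hq.2 with e | e
    · exact ⟨false, e⟩
    · exact ⟨true, e⟩
  have he := congrArg (F.nmX) hd
  rw [nmX_mul D hu h1, hb, h3, mul_one, F.nmX_zp] at he
  rw [F.zp_inj he, V_comm D h1.1 (zp_mem_V D d), ← hd, mul_assoc, V_sq D h1.1, mul_one]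

theorem vC_zero : vC D 0 = 1 := by
  have h := eq_vC_mul D (one_mem (V0 D)) (show 0 < 16 by norm_num) (b := false)
    (by rw [F.mat_one, upM_one.1]) (by simp [nmX, zp])
  simpa [zp] using h.symm

theorem vC_mul {a b : ℕ} (ha : a < 16) (hb : b < 16) : vC D a * vC D b = vC D (a ^^^ b) := by
  obtain ⟨a1, a2, a3⟩ := vC_spec D ha
  obtain ⟨b1, b2, b3⟩ := vC_spec D hb
  have := eq_vC_mul D (mul_mem a1 b1) (Nat.xor_lt_two_pow (n := 4) ha hb) (b := false)
    (by rw [F.mat_mul _ (V0_le_CP D a1).1 _ (V0_le_CP D b1).1, a2, b2, upM_mul a ha b hb])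
    (by rw [nmX_mul D a1 b1, a3, b3, one_mul]; rfl)
  simpa [zp] using this

/-- The element with given coordinates. -/
noncomputable def vE (n : ℕ) : G := F.eE (n % 64) * F.zp (n.testBit 6) * vC D (n / 128)

theorem vE_mem {n : ℕ} (hn : n < 2048) : vE D n ∈ D.V :=
  mul_mem (mul_mem (plane_mem D (Nat.mod_lt _ (by norm_num))) (zp_mem_V D _))
    (vC_spec D (show n / 128 < 16 by omega)).1.1

theorem eE_mul_plane {v w : ℕ} (hv : v < 64) (hw : w < 64) :
    F.eE v * F.eE w = F.eE (v ^^^ w) := by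
  rw [F.eE_mul (by omega) (by omega), (plane_beta v hv w hw).1]
  simp [zp]

theorem vE_xor {a b : ℕ} (ha : a < 2048) (hb : b < 2048) :
    vE D (a ^^^ b) = vE D a * vE D b := by
  have e1 : (a ^^^ b) % 64 = (a % 64) ^^^ (b % 64) := Nat.xor_mod_two_pow (n := 6)
  have e2 : (a ^^^ b) / 128 = (a / 128) ^^^ (b / 128) := Nat.xor_div_two_pow (n := 7)
  have ha1 : a % 64 < 64 := Nat.mod_lt _ (by norm_num)
  have hb1 : b % 64 < 64 := Nat.mod_lt _ (by norm_num)
  have ha2 : a / 128 < 16 := by omega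
  have hb2 : b / 128 < 16 := by omega
  unfold vE
  rw [e1, e2, Nat.testBit_xor, ← F.eE_mul_plane ha1 hb1, ← vC_mul D ha2 hb2, ← F.zp_mul]
  have c1 := V_comm D (plane_mem D hb1) (zp_mem_V D (a.testBit 6))
  have c2 := V_comm D (plane_mem D hb1) (vC_spec D ha2).1.1
  have c3 := V_comm D (zp_mem_V D (b.testBit 6)) (vC_spec D ha2).1.1
  simp only [mul_assoc]
  rw [← mul_assoc (F.eE (b % 64)) (F.zp (a.testBit 6)), c1, mul_assoc,
    ← mul_assoc (F.zp (b.testBit 6)) (vC D (a / 128)), c3, mul_assoc,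
    ← mul_assoc (F.eE (b % 64)) (vC D (a / 128)), c2, mul_assoc]

theorem vE_inj {a : ℕ} (ha : a < 2048) (h : vE D a = 1) : a = 0 := by
  have h1 : a % 64 < 64 := Nat.mod_lt _ (by norm_num)
  have h2 : a / 128 < 16 := by omega
  obtain ⟨v1, v2, -⟩ := vC_spec D h2
  obtain ⟨p1, p2, -⟩ := F.eE_spec (show a % 64 < 4096 by omega)
  have hr := mul_mem p1 (F.zp_mem (a.testBit 6))
  have hm := congrArg F.mat h
  rw [vE, F.mat_mul _ (rad_le_Cen hr) _ (V0_le_CP D v1).1,
    (F.mat_eq_id _ (rad_le_Cen hr)).2 hr, v2, F.mat_one] at hm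
  have hc : a / 128 = 0 := upM_inj _ h2 (by
    have : ∀ c < 16, mm idM (upM c) = upM c := by decide +kernel
    rw [← this _ h2, hm])
  rw [vE, hc, vC_zero D, mul_one] at h
  have hco := congrArg F.co h
  rw [F.co_mul _ p1 _ (F.zp_mem _), p2, F.co_zp, Nat.xor_zero, F.co_one] at hco
  rw [hco, F.eE_zero, one_mul] at h
  have hb : a.testBit 6 = false := F.zp_inj (a := a.testBit 6) (b := false) h
  rw [Nat.testBit_eq_decide_div_mod_eq, decide_eq_false_iff_not] at hb
  omega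

theorem vE_injOn {a b : ℕ} (ha : a < 2048) (hb : b < 2048) (h : vE D a = vE D b) : a = b := by
  have := vE_xor D ha hb
  rw [h, V_sq D (vE_mem D hb)] at this
  exact Nat.xor_eq_zero_iff.1 (vE_inj D (Nat.xor_lt_two_pow (n := 11) ha hb) this)

theorem exists_vE {u : G} (hu : u ∈ D.V) : ∃ n < 2048, vE D n = u := by
  let f : Fin 2048 → ↥D.V := fun n => ⟨vE D n, vE_mem D n.2⟩
  have hinj : Function.Injective f := fun a b e =>
    Fin.ext (vE_injOn D a.2 b.2 (congrArg Subtype.val e))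
  have hc : Nat.card (Fin 2048) = Nat.card ↥D.V := by rw [D.card]; simp
  obtain ⟨n, hn⟩ := (hinj.bijective_of_nat_card_le hc.ge).2 ⟨u, hu⟩
  exact ⟨n, n.2, congrArg Subtype.val hn⟩

end Frame

end CfsgLib.J4Type
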