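import Cfsg.Agent.Lib.J4Type.Cert.Decomp
import Cfsg.Agent.Lib.J4Type.NV.Coord
import Cfsg.Agent.Lib.J4Type.NV.Graph

/-!
The centraliser of an involution of `V` outside the radical, or over an oval vector of the plane,
normalises `V` inside the centraliser of the central involution.
-/

set_option autoImplicit false
set_option maxRecDepth 100000

namespace CfsgLib.J4Type

open Cfsg Subgroup

namespace NV

/-- Whether the image of the plane under `m` has the vector `v`. -/
def inImage (m : List ℕ) (v : ℕ) : Bool := (List.range 64).any fun w => Nat.beq (mv m w) v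

theorem oval_check : ((List.range 77).all fun p => Nat.beq p 0 || (List.range 64).all fun w =>
    !(inB w || inB (w ^^^ 64)) || !inImage (Cert.rM p) w) = true := by
  decide +kernel

theorem line_check : ((List.range 77).all fun p => Nat.beq p 0 || (List.range 16).all fun c =>
    Nat.beq c 0 || (List.range 12).any fun i =>
      !inImage (Cert.rM p) (mv (upM c) (2 ^ i) ^^^ 2 ^ i)) = true := by
  decide +kernel

theorem line_low : ((List.range 16).all fun c => (List.range 4096).all fun v =>
    Nat.blt (mv (upM c) v ^^^ v) 64) = true := by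
  decide +kernel

/-- An element of `InL` maps the plane to one of the 77 images. -/
theorem exists_image {m : List ℕ} (h : InL m) :
    ∃ p < 77, ∀ v < 64, ∃ w < 64, mv m v = mv (Cert.rM p) w := by
  rcases h.cases_sig with hx | ⟨x, hx, rfl⟩
  · obtain ⟨p, hp, a, ha, k, hk, rfl⟩ := hx.decomp
    exact ⟨p, hp, fun v hv => ⟨_, Cert.mv_lt_plane (Cert.stabF_stab ha hk) v hv, mv_mm _ _ v⟩⟩
  · obtain ⟨p, hp, a, ha, k, hk, rfl⟩ := hx.decomp
    exact ⟨p, hp, fun v hv => ⟨_, Cert.mv_lt_plane (Cert.stabF_stab ha hk) _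
      (Cert.mv_lt_plane Cert.stabF_sig v hv), by rw [mv_mm, mv_mm]⟩⟩

theorem image_zero {m : List ℕ} {p : ℕ} (hp : p = 0)
    (h : ∀ v < 64, ∃ w < 64, mv m v = mv (Cert.rM p) w) : ∀ v < 64, mv m v < 64 := by
  intro v hv
  obtain ⟨w, hw, e⟩ := h v hv
  rw [e, hp, Cert.rM_zero, mv_idM (by omega)]
  exact hw

/-- An element fixing a vector of the plane over the orbit of length 36 stabilises the plane. -/
theorem plane_of_oval {m : List ℕ} (h : InL m) {x : ℕ} (hx : x < 64)
    (hB : inB x = true ∨ inB (x ^^^ 64) = true) (h1 : mv m x = x) :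
    ∀ v < 64, mv m v < 64 := by
  obtain ⟨p, hp, hI⟩ := exists_image h
  refine image_zero ?_ hI
  by_contra hne
  have hc := List.all_eq_true.1 oval_check p (List.mem_range.2 hp)
  simp only [Bool.or_eq_true, List.all_eq_true, List.mem_range, Bool.not_eq_true',
    Bool.or_eq_false_iff] at hc
  rcases hc with e | e
  · exact hne (Nat.eq_of_beq_eq_true e)
  rcases e x hx with ⟨e1, e2⟩ | e
  · rcases hB with hB | hB
    · rw [e1] at hB; exact Bool.noConfusion hB
    · rw [e2] at hB; exact Bool.noConfusion hB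
  obtain ⟨w, hw, ew⟩ := hI x hx
  have : inImage (Cert.rM p) x = true :=
    List.any_eq_true.2 ⟨w, List.mem_range.2 hw, by rw [← ew, h1]; exact Nat.beq_refl x⟩
  rw [this] at e
  exact Bool.noConfusion e

/-- An element commuting with a non-trivial element of the upper radical stabilises the plane. -/
theorem plane_of_upper {m : List ℕ} (h : InL m) {c : ℕ} (hc : c < 16) (hc0 : c ≠ 0)
    (hcomm : mm m (upM c) = mm (upM c) m) : ∀ v < 64, mv m v < 64 := by
  obtain ⟨p, hp, hI⟩ := exists_image h
  refine image_zero ?_ hI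
  by_contra hne
  have hcheck := List.all_eq_true.1 line_check p (List.mem_range.2 hp)
  simp only [Bool.or_eq_true, List.all_eq_true, List.mem_range, List.any_eq_true,
    Bool.not_eq_true'] at hcheck
  rcases hcheck with e | e
  · exact hne (Nat.eq_of_beq_eq_true e)
  rcases e c hc with e | ⟨i, hi, e⟩
  · exact hc0 (Nat.eq_of_beq_eq_true e)
  let a : Cert.LGrp := ⟨m, h⟩
  have h2 : 2 ^ i < 4096 :=
    lt_of_lt_of_le (Nat.pow_lt_pow_right (by norm_num) hi) (by norm_num)
  let v := a⁻¹.act (2 ^ i)
  have hv : mv m v = 2 ^ i := a.act_inv' h2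
  have hvlt : v < 4096 := (a⁻¹).2.mv_lt _
  have hl := List.all_eq_true.1 (List.all_eq_true.1 line_low c (List.mem_range.2 hc)) v
    (List.mem_range.2 hvlt)
  obtain ⟨w, hw, ew⟩ := hI _ (Nat.le_of_ble_eq_true hl)
  have hd : mv m (mv (upM c) v ^^^ v) = mv (upM c) (2 ^ i) ^^^ 2 ^ i := by
    rw [mv_xor, ← mv_mm, hcomm, mv_mm, hv]
  have : inImage (Cert.rM p) (mv (upM c) (2 ^ i) ^^^ 2 ^ i) = true :=
    List.any_eq_true.2 ⟨w, List.mem_range.2 hw, by rw [← ew, hd]; exact Nat.beq_refl _⟩
  rw [this] at e
  exact Bool.noConfusion e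

end NV

namespace Frame

variable {G : Type*} [Group G] [Finite G] {z : G} {P : Subgroup G} {F : Frame z P}
  (D : VData F)

/-- An element of the centraliser fixing an element over an oval vector of the plane normalises
`V`. -/
theorem mem_norm_of_oval {h t : G} (hh : h ∈ Cen z) (ht : t ∈ Rad z) {x : ℕ} (hx : x < 64)
    (hco : F.co t = x) (hB : NV.inB x = true ∨ NV.inB (x ^^^ 64) = true) (hht : h * t = t * h) :
    h ∈ normalizer (D.V : Set G) := by
  refine mem_norm_of_plane D hh fun i hi => NV.plane_of_oval (F.mat_inL h hh) hx hB ?_ _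
    (Nat.pow_lt_pow_right (by norm_num) hi : 2 ^ i < 2 ^ 6)
  have e := F.conj h hh t ht
  rw [hht, mul_assoc, mul_inv_cancel, mul_one, hco] at e
  exact e.symm

/-- An element of the centraliser centralising an element over a non-trivial element of the upper
radical normalises `V`. -/
theorem mem_norm_of_upper {h t : G} (hh : h ∈ Cen z) (ht : t ∈ Cen z) {c : ℕ} (hc : c < 16)
    (hc0 : c ≠ 0) (hmat : F.mat t = NV.upM c) (hht : h * t = t * h) :
    h ∈ normalizer (D.V : Set G) := by
  refine mem_norm_of_plane D hh fun i hi => NV.plane_of_upper (F.mat_inL h hh) hc hc0 ?_ _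
    (Nat.pow_lt_pow_right (by norm_num) hi : 2 ^ i < 2 ^ 6)
  rw [← hmat, ← F.mat_mul h hh t ht, hht, F.mat_mul t ht h hh]

/-- An element of the centraliser of the central involution commuting with an involution of pair
type of `V` normalises `V`. -/
theorem mem_norm_of_vE {h : G} (hh : h ∈ Cen z) {n : ℕ} (hn : n < 2048) (hB : NV.inB n = true)
    (hc : h * vE D n = vE D n * h) : h ∈ normalizer (D.V : Set G) := by
  have hw : n % 64 < 64 := Nat.mod_lt _ (by norm_num)
  have hc16 : n / 128 < 16 := by omega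
  obtain ⟨p1, p2, -⟩ := F.eE_spec (show n % 64 < 4096 by omega)
  obtain ⟨v1, v2, -⟩ := vC_spec D hc16
  have hr := mul_mem p1 (F.zp_mem (n.testBit 6))
  by_cases h0 : n / 128 = 0
  · have e : vE D n = F.eE (n % 64) * F.zp (n.testBit 6) := by
      rw [vE, h0, vC_zero D, mul_one]
    rw [e] at hc
    refine mem_norm_of_oval D hh hr hw ?_ ?_ hc
    · rw [F.co_mul _ p1 _ (F.zp_mem _), p2, F.co_zp, Nat.xor_zero]
    · have hcases : ∀ m < 128, NV.inB m = true →
          NV.inB (m % 64) = true ∨ NV.inB (m % 64 ^^^ 64) = true := by decide +kernel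
      exact hcases n (by omega) hB
  · refine mem_norm_of_upper D hh (mul_mem (rad_le_Cen hr) (V0_le_CP D v1).1) hc16 h0 ?_ hc
    have hid : ∀ c < 16, mm idM (NV.upM c) = NV.upM c := by decide +kernel
    rw [F.mat_mul _ (rad_le_Cen hr) _ (V0_le_CP D v1).1, (F.mat_eq_id _ (rad_le_Cen hr)).2 hr, v2,
      hid _ hc16]

end Frame

end CfsgLib.J4Type
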