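import Cfsg.Agent.Lib.J4Type.NV.Graph
import Cfsg.Agent.Lib.Golay.OctadAction

/-!
An element of `Cfsg.M24` moving the pairs fixed by an involution only by the difference of a
given pair is trivial or equal to that involution.
-/

set_option autoImplicit false

namespace CfsgLib.J4Type.NV

open Cfsg CfsgLib.Golay
open scoped Pointwise

/-- An element of `M24` with twelve fixed points is trivial. -/
theorem eq_one_of_twelve {σ : Equiv.Perm GolayPt} (hσ : σ ∈ M24) {F : Finset GolayPt}
    (hF : 12 ≤ F.card) (hfix : ∀ p ∈ F, σ p = p) : σ = 1 := by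
  classical
  obtain ⟨F', hF'sub, hF'card⟩ := Finset.exists_subset_card_eq hF
  have hex : ∃ o ∈ octads, 6 ≤ (o ∩ F').card := by
    by_contra hno
    push Not at hno
    choose o ho huniq using fun s : F'.powersetCard 5 =>
      octad_exists_unique (s := (s : Finset GolayPt)) (Finset.mem_powersetCard.1 s.2).2
    have hinter : ∀ s : F'.powersetCard 5, o s ∩ F' = (s : Finset GolayPt) := by
      intro s
      obtain ⟨hs1, hs2⟩ := Finset.mem_powersetCard.1 s.2
      refine (Finset.eq_of_subset_of_card_le (fun x hx =>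
        Finset.mem_inter.2 ⟨(ho s).2 hx, hs1 hx⟩) ?_).symm
      have := hno (o s) (ho s).1
      omega
    have hinj : Function.Injective fun s => (⟨o s, (ho s).1⟩ : octads) := by
      intro s t e
      have e' : o s = o t := congrArg Subtype.val e
      apply Subtype.ext
      rw [← hinter s, ← hinter t, e']
    have h1 := Nat.card_le_card_of_injective _ hinj
    rw [Nat.card_coe_set_eq, octads_ncard, Nat.card_eq_fintype_card, Fintype.card_coe,
      Finset.card_powersetCard, hF'card] at h1
    exact absurd h1 (by decide)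
  obtain ⟨o, ho, ho6⟩ := hex
  have hfix' : ∀ p ∈ o ∩ F', σ p = p := fun p hp => hfix p (hF'sub (Finset.mem_inter.1 hp).2)
  have hstab : σ • o = o := by
    refine octads_eq_of_five (M24_smul_octad hσ ho) ho (le_trans (by omega)
      (le_trans ho6 (Finset.card_le_card fun p hp => Finset.mem_inter.2 ⟨?_, ?_⟩)))
    · rw [← hfix' p hp]
      exact Finset.smul_mem_smul_finset (Finset.mem_inter.1 hp).1
    · exact (Finset.mem_inter.1 hp).1
  have hmem : σ ∈ octStab o := ⟨hσ, MulAction.mem_stabilizer_iff.2 hstab⟩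
  let τ := octRes o ⟨σ, hmem⟩
  have hsign : τ.sign = 1 := by
    have : τ ∈ alternatingGroup o := octRes_range ho ▸ ⟨⟨σ, hmem⟩, rfl⟩
    exact Equiv.Perm.mem_alternatingGroup.1 this
  have hsupp : τ.support.card ≤ 2 := by
    have hsub : τ.support.map (Function.Embedding.subtype _) ⊆ o \ (o ∩ F') := by
      intro x hx
      obtain ⟨⟨y, hy⟩, hys, rfl⟩ := Finset.mem_map.1 hx
      refine Finset.mem_sdiff.2 ⟨hy, fun hc => Equiv.Perm.mem_support.1 hys ?_⟩
      exact Subtype.ext (hfix' y hc)
    have := Finset.card_le_card hsub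
    rw [Finset.card_map, Finset.card_sdiff, Finset.inter_assoc, Finset.inter_comm F',
      ← Finset.inter_assoc, Finset.inter_self, ho.2] at this
    omega
  have hτ1 : τ = 1 := by
    rw [← Equiv.Perm.card_support_eq_zero]
    have h1 := Equiv.Perm.card_support_ne_one τ
    have h2 : τ.support.card ≠ 2 := fun e => by
      rw [(Equiv.Perm.card_support_eq_two.1 e).sign_eq] at hsign
      exact absurd hsign (by decide)
    omega
  obtain ⟨p, hp, hpo⟩ : ∃ p ∈ F', p ∉ o := Finset.exists_mem_notMem_of_card_lt_card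
    (by rw [hF'card, ho.2]; norm_num)
  refine (octPtw_point ho hpo).2 σ (octPtw_fix.2 ⟨hσ, fun q hq => ?_⟩) (hfix p (hF'sub hp))
  exact congrArg Subtype.val (Equiv.congr_fun hτ1 ⟨q, hq⟩)

/-- The number of fixed points of an involution is even. -/
theorem even_fixed {σ : Equiv.Perm GolayPt} (h : σ * σ = 1) :
    (Finset.univ.filter fun p => σ p = p).card % 2 = 0 := by
  classical
  have h1 : 2 ∣ σ.support.card := by
    by_cases e : σ = 1
    · simp [e]
    exact Equiv.Perm.two_dvd_card_support (by rw [pow_two, h])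
  have h2 : (Finset.univ.filter fun p => σ p = p) = σ.supportᶜ := by
    ext p; simp [Equiv.Perm.mem_support]
  rw [h2, Finset.card_compl, show Fintype.card GolayPt = 24 from rfl]
  have := Finset.card_le_univ σ.support
  rw [show Fintype.card GolayPt = 24 from rfl] at this
  omega

/-- Moving a pair by the difference of another pair. -/
theorem pair_moved {σ : Equiv.Perm GolayPt} {x y p q : GolayPt} (hxy : x ≠ y) (hpq : p ≠ q)
    (hx : σ x = x ∨ σ x = y) (hy : σ y = x ∨ σ y = y)
    (h : pv (σ p) (σ q) = pv p q ^^^ pv x y) :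
    σ x = y ∧ (((p = x ∨ p = y) ∧ σ q = q) ∨ ((q = x ∨ q = y) ∧ σ p = p)) := by
  have hne : σ p ≠ σ q := fun e => hpq (σ.injective e)
  have key : ∀ x y p q : GolayPt, x ≠ y → (σ x = x ∨ σ x = y) → (σ y = x ∨ σ y = y) → p = x →
      p ≠ q → pv (σ p) (σ q) = pv p q ^^^ pv x y → σ x = y ∧ σ y = x ∧ σ q = q := by
    intro x y p q hxy hx hy hp hpq h
    subst hp
    rw [pv_xor] at h
    have hqy : q ≠ y := fun e => by
      subst e
      rw [pv_self] at h
      exact hpq (σ.injective (by
        by_contra hc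
        have := pv_inB hc
        rw [h] at this
        exact absurd this (by decide +kernel)))
    have hne : σ p ≠ σ q := fun e => hpq (σ.injective e)
    have e1 : Ends (pv q y) (σ p) := h ▸ ends_left hne
    have e2 : Ends (pv q y) (σ q) := h ▸ ends_right hne
    have hxp : σ p = y := by
      rcases hx with e | e
      · rcases e1.eq_or hqy with e' | e'
        · exact absurd (e.symm.trans e') hpq
        · exact absurd (e.symm.trans e') hxy
      · exact e
    have hyx : σ y = p := hy.resolve_right fun e => hxy (σ.injective (hxp.trans e.symm))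
    rcases e2.eq_or hqy with e' | e'
    · exact ⟨hxp, hyx, e'⟩
    · exact absurd (hxp.trans e'.symm) hne
  by_cases h1 : p = x
  · obtain ⟨a, -, b⟩ := key x y p q hxy hx hy h1 hpq h
    exact ⟨a, Or.inl ⟨Or.inl h1, b⟩⟩
  by_cases h2 : p = y
  · rw [pv_comm x y] at h
    obtain ⟨-, a, b⟩ := key y x p q (Ne.symm hxy) hy.symm hx.symm h2 hpq h
    exact ⟨a, Or.inl ⟨Or.inr h2, b⟩⟩
  rw [pv_comm p q, pv_comm (σ p)] at h
  by_cases h3 : q = x
  · obtain ⟨a, -, b⟩ := key x y q p hxy hx hy h3 (Ne.symm hpq) h
    exact ⟨a, Or.inr ⟨Or.inl h3, b⟩⟩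
  by_cases h4 : q = y
  · rw [pv_comm x y] at h
    obtain ⟨-, a, b⟩ := key y x q p (Ne.symm hxy) hy.symm hx.symm h4 (Ne.symm hpq) h
    exact ⟨a, Or.inr ⟨Or.inr h4, b⟩⟩
  have hbad := (quad (a := q) (b := p) (c := x) (d := y) (Ne.symm hpq) h3 h4 h1 h2 hxy).1
  rw [← h, pv_inB (Ne.symm hne)] at hbad
  exact Bool.noConfusion hbad

/-- If every pair fixed by the involution `π` is moved by `σ` either not at all or by the
difference of the pair `a b`, then `σ` is trivial or `π`. -/
theorem eq_one_or_eq {π σ : Equiv.Perm GolayPt} (hπ : π ∈ M24) (hσ : σ ∈ M24) (hπ2 : π * π = 1)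
    (hσ2 : σ * σ = 1) (hcomm : σ * π = π * σ) {a b : GolayPt} (hab : a ≠ b)
    (hσab : σ a = a ∨ σ a = b) (hσba : σ b = a ∨ σ b = b)
    (h : ∀ p q, p ≠ q → pv (π p) (π q) = pv p q →
      pv (σ p) (σ q) = pv p q ∨ pv (σ p) (σ q) = pv p q ^^^ pv a b) :
    σ = 1 ∨ σ = π := by
  classical
  have hπi : ∀ p, π (π p) = p := fun p => Equiv.Perm.congr_fun hπ2 p
  have hσi : ∀ p, σ (σ p) = p := fun p => Equiv.Perm.congr_fun hσ2 p
  have same : ∀ p q, p ≠ q → pv (σ p) (σ q) = pv p q → σ p = p ∨ σ p = q := by
    intro p q hpq e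
    have hend : Ends (pv p q) (σ p) := e ▸ ends_left fun e' => hpq (σ.injective e')
    exact hend.eq_or hpq
  have hmoved : ∀ p, π p ≠ p → σ p = p ∨ (σ * π) p = p := by
    intro p hp
    rcases h p (π p) (Ne.symm hp) (by rw [hπi, pv_comm]) with e | e
    · rcases same p (π p) (Ne.symm hp) e with e' | e'
      · exact Or.inl e'
      · refine Or.inr ?_
        rw [Equiv.Perm.mul_apply, ← e', hσi]
    · obtain ⟨-, hh⟩ := pair_moved hab (Ne.symm hp) hσab hσba e
      rcases hh with ⟨-, e'⟩ | ⟨-, e'⟩
      · refine Or.inl (σ.injective ?_)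
        have := Equiv.Perm.congr_fun hcomm p
        simp only [Equiv.Perm.mul_apply] at this
        rw [e'] at this
        rw [hσi]
        exact π.injective this
      · exact Or.inl e'
  let F := Finset.univ.filter fun p => π p = p
  have hF : ∀ p, p ∈ F ↔ π p = p := fun p => by simp [F]
  let A := Finset.univ.filter fun p => σ p = p
  let B := Finset.univ.filter fun p => (σ * π) p = p
  have hA : ∀ p, p ∈ A ↔ σ p = p := fun p => by simp [A]
  have hB : ∀ p, p ∈ B ↔ σ (π p) = p := fun p =>
    ⟨fun h => (Finset.mem_filter.1 h).2, fun h => Finset.mem_filter.2 ⟨Finset.mem_univ _, h⟩⟩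
  have hAB : Fᶜ ⊆ A ∪ B := fun p hp => by
    rw [Finset.mem_compl, hF] at hp
    rcases hmoved p hp with e | e
    · exact Finset.mem_union_left _ ((hA p).2 e)
    · exact Finset.mem_union_right _ ((hB p).2 e)
  -- the fixed points of `π` other than `a`, `b` are fixed by `σ`, up to two of them
  have hrest : F.card ≤ 2 ∨ ∀ k ∈ F, k ≠ a → k ≠ b → σ k = k := by
    refine or_iff_not_imp_left.2 fun hc k hk hka hkb => ?_
    rw [hF] at hk
    have step : ∀ x, π x = x → x ≠ k → σ k = k ∨ σ k = x := by
      intro x hx hxk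
      rcases h k x (Ne.symm hxk) (by rw [hk, hx]) with e | e
      · exact same k x (Ne.symm hxk) e
      · rcases (pair_moved hab (Ne.symm hxk) hσab hσba e).2 with ⟨e1 | e1, -⟩ | ⟨-, e1⟩
        · exact absurd e1 hka
        · exact absurd e1 hkb
        · exact Or.inl e1
    obtain ⟨x, hx, hxk⟩ : ∃ x ∈ F, x ∉ ({k} : Finset GolayPt) :=
      Finset.exists_mem_notMem_of_card_lt_card (by rw [Finset.card_singleton]; omega)
    obtain ⟨y, hy, hyk⟩ : ∃ y ∈ F, y ∉ ({k, x} : Finset GolayPt) :=
      Finset.exists_mem_notMem_of_card_lt_card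
        (lt_of_le_of_lt Finset.card_le_two (by omega))
    simp only [Finset.mem_singleton, Finset.mem_insert, not_or] at hxk hyk
    rcases step x ((hF x).1 hx) hxk with e | e
    · exact e
    rcases step y ((hF y).1 hy) hyk.1 with e' | e'
    · exact e'
    exact absurd (e.symm.trans e').symm hyk.2
  have hcount : 21 ≤ A.card + B.card := by
    have h1 := Finset.card_le_card hAB
    have h2 := Finset.card_union_add_card_inter A B
    have h3 : Fᶜ.card = 24 - F.card := Finset.card_compl F
    have h5 : F.card ≤ 24 := Finset.card_le_univ F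
    rcases hrest with h4 | h4
    · omega
    · have hd : Disjoint Fᶜ (F \ {a, b}) :=
        disjoint_compl_left.mono_right Finset.sdiff_subset
      have hs : F \ {a, b} ⊆ A ∩ B := fun k hk => by
        simp only [Finset.mem_sdiff, Finset.mem_insert, Finset.mem_singleton, not_or] at hk
        have := h4 k hk.1 hk.2.1 hk.2.2
        refine Finset.mem_inter.2 ⟨(hA k).2 this, (hB k).2 ?_⟩
        rw [(hF k).1 hk.1, this]
      have h6 := Finset.card_le_card hs
      have h7 : F.card - 2 ≤ (F \ {a, b}).card :=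
        le_trans (Nat.sub_le_sub_left Finset.card_le_two _) (Finset.le_card_sdiff _ _)
      have h8 : 24 - F.card + (F \ {a, b}).card ≤ (A ∪ B).card := by
        rw [← h3, ← Finset.card_union_of_disjoint hd]
        refine Finset.card_le_card (Finset.union_subset hAB fun k hk => ?_)
        exact Finset.mem_union_left _ (Finset.mem_inter.1 (hs hk)).1
      omega
  have hσπ2 : (σ * π) * (σ * π) = 1 := by
    calc (σ * π) * (σ * π) = σ * (π * σ) * π := by group
      _ = σ * (σ * π) * π := by rw [hcomm]
      _ = (σ * σ) * (π * π) := by group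
      _ = 1 := by rw [hσ2, hπ2, one_mul]
  have eA : A.card % 2 = 0 := even_fixed hσ2
  have eB : B.card % 2 = 0 := even_fixed hσπ2
  rcases (show 12 ≤ A.card ∨ 12 ≤ B.card by omega) with hc | hc
  · exact Or.inl (eq_one_of_twelve hσ hc fun p hp => (hA p).1 hp)
  · refine Or.inr ?_
    have e := eq_one_of_twelve (Subgroup.mul_mem _ hσ hπ) hc fun p hp => (hB p).1 hp
    calc σ = σ * (π * π) := by rw [hπ2, mul_one]
      _ = π := by rw [← mul_assoc, e, one_mul]

end CfsgLib.J4Type.NV
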