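import Cfsg.Agent.Lib.J4Type.NV.InnerCert

/-!
An involution of an inner coset of `V` in its normaliser is conjugate into the radical.
-/

set_option autoImplicit false
set_option maxRecDepth 100000

namespace CfsgLib.J4Type

open Cfsg Subgroup

namespace Frame

variable {G : Type*} [Group G] {z : G} {P : Subgroup G} {F : Frame z P} (D : VData F) [Finite G]

/-- Conjugation by `g` acts on the coordinates by `M`. -/
def Acts (g : G) (M : List ℕ) : Prop :=
  (∀ x ∈ M, x < 2048) ∧ ∀ n < 2048, g * vE D n * g⁻¹ = vE D (mv M n)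

theorem Acts.mul {a b : G} {A B : List ℕ} (ha : Acts D a A) (hb : Acts D b B) :
    Acts D (a * b) (mm A B) := by
  refine ⟨fun x hx => ?_, fun n hn => ?_⟩
  · obtain ⟨y, -, rfl⟩ := List.mem_map.1 hx
    exact NV.mv_lt_2048 A y ha.1
  · rw [mv_mm, ← ha.2 _ (NV.mv_lt_2048 B n hb.1), ← hb.2 n hn]
    group

theorem Acts.congr {g : G} {A B : List ℕ} (ha : Acts D g A) (hB : ∀ x ∈ B, x < 2048)
    (h : ∀ v < 2048, mv A v = mv B v) : Acts D g B :=
  ⟨hB, fun n hn => by rw [ha.2 n hn, h n hn]⟩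

theorem acts_one : Acts D (1 : G) NV.idE :=
  ⟨NV.bound_of_mem (by simp), fun n hn => by rw [one_mul, inv_one, mul_one, NV.idE_spec n hn]⟩

theorem mem_of_acts_id {g : G} {A : List ℕ} (h : Acts D g A) (hA : ∀ v < 2048, mv A v = v) :
    g ∈ D.V := by
  refine D.cent_le (mem_centralizer_iff.2 fun v hv => ?_)
  obtain ⟨n, hn, rfl⟩ := exists_vE D hv
  have e := h.2 n hn
  rw [hA n hn] at e
  exact (mul_inv_eq_iff_eq_mul.1 e).symm

theorem same_coset {a b : G} {A B : List ℕ} (ha : Acts D a A) (hb : Acts D b B)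
    (h : ∀ v < 2048, mv A v = mv B v) : a⁻¹ * b ∈ D.V := by
  refine D.cent_le (mem_centralizer_iff.2 fun v hv => ?_)
  obtain ⟨n, hn, rfl⟩ := exists_vE D hv
  have e : a * vE D n * a⁻¹ = b * vE D n * b⁻¹ := by rw [ha.2 n hn, hb.2 n hn, h n hn]
  calc vE D n * (a⁻¹ * b) = a⁻¹ * (a * vE D n * a⁻¹) * b := by group
    _ = a⁻¹ * (b * vE D n * b⁻¹) * b := by rw [e]
    _ = a⁻¹ * b * vE D n := by group

theorem acts_p0 : Acts D F.p0 NV.pMat := by
  have hl := NV.bound_of_mem (l := NV.pMat) (by simp)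
  refine ⟨hl, conj_of_basis D hl fun i hi => ?_⟩
  obtain ⟨e1, e2⟩ := NV.pMat_basis i hi
  rw [e1]
  rw [NV.basis_parts i hi]
  have c7 : 7 ≤ i → 2 ^ (i - 7) < 16 := fun h =>
    lt_of_lt_of_le (Nat.pow_lt_pow_right (by norm_num) (show i - 7 < 4 by omega)) (by norm_num)
  rcases Nat.lt_trichotomy i 6 with h | h | h
  · have hw : 2 ^ i < 64 := (Nat.pow_lt_pow_right (by norm_num) h : 2 ^ i < 2 ^ 6)
    simp only [if_pos h, show ¬ 7 ≤ i by omega, show i ≠ 6 by omega, decide_false, if_false]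
    rw [vE_eE D hw, show F.zp false = 1 from rfl, mul_one,
      F.conj_eE (F.P_le_CP F.p0_mem) (by omega), F.mat_p0]
    have hp1 : NV.pack (2 ^ i) false 0 = 2 ^ i := by simp [NV.pack]
    have hp2 : NV.pack (mv pOm (2 ^ i)) false 0 = mv pOm (2 ^ i) := by simp [NV.pack]
    have h3 := vE_eE D (e2 h) false
    rw [hp2] at h3
    rw [hp1, h3, show F.zp false = 1 from rfl, mul_one]
  · subst h
    simp only [show ¬ (6 < 6) by omega, show ¬ (7 ≤ 6) by omega, decide_true, if_false]
    rw [vE_vC D (by norm_num), vC_zero D, mul_one, F.zp_comm F.p0_mem_cen, mul_inv_cancel_right]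
  · simp only [show ¬ i < 6 by omega, show 7 ≤ i by omega, show i ≠ 6 by omega, decide_false,
      if_false, if_true]
    have hc := c7 (by omega)
    rw [vE_vC D hc, show F.zp false = 1 from rfl, one_mul]
    have := F.mem_centP_iff.1 (vC_spec D hc).1.2
    rw [← this, mul_inv_cancel_right]

theorem vE_low {n : ℕ} (hn : n < 128) : vE D n ∈ Rad z := by
  rw [vE, show n / 128 = 0 by omega, vC_zero D, mul_one]
  exact mul_mem (F.eE_spec (by omega)).1 (F.zp_mem _)

/-- An involution of the inner cosets of `V` in its normaliser is conjugate into the radical. -/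
theorem inner_to_rad (M : NV.PairModel D.V (fun x => IsConj z x))
    (hco : ∀ v ∈ D.V, M.co v = coV D v) {K : Subgroup G}
    (hKN : K ≤ normalizer (D.V : Set G)) (hKV : ∀ k ∈ K, k ∈ D.V → k = 1)
    (hKs : ∀ σ ∈ M24, ∃ k ∈ K, M.perm k = σ) (hp : F.p0 ∈ K)
    (hmodel : ∀ k < 9, ∀ n < 2048,
      F.gen9 k * vE D n * (F.gen9 k)⁻¹ = vE D (mv (NV.gensCover.getD k []) n))
    {v e : G} (hv : v ∈ D.V) (he : e ∈ Rad z) (hinv : v * e * (v * e) = 1) :
    v * e ∈ D.V ∨ ∃ n : G, n * (v * e) * n⁻¹ ∈ Rad z := by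
  classical
  have hrad : ∀ j < 6, Acts D (F.radGen j) (NV.gensCover.getD (3 + j) []) := by
    intro j hj
    have hmem : NV.gensCover.getD (3 + j) [] ∈ NV.gensCover := by
      have : ∀ j < 6, NV.gensCover.getD (3 + j) [] ∈ NV.gensCover := by decide +kernel
      exact this j hj
    refine ⟨NV.bound_of_mem (by simp only [List.mem_cons, List.mem_append]; tauto), fun n hn => ?_⟩
    have := hmodel (3 + j) (by omega) n hn
    simpa [gen9] using this
  have hK1 : ∀ {a b : G}, a ∈ K → b ∈ K → a⁻¹ * b ∈ D.V → a = b := fun ha hb h =>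
    inv_mul_eq_one.1 (hKV _ (mul_mem (inv_mem ha) hb) h)
  -- the commutators of the scalar element with lifts of the radical generators
  have hc : ∀ j < 6, ∃ k ∈ K, k ∈ Rad z ∧ Acts D k (NV.cMat.getD j []) := by
    intro j hj
    obtain ⟨r1, r2⟩ := radGen_mem D hj
    obtain ⟨x, hxK, hx⟩ := hKs _ (M.perm_mem _ r2)
    have hxv : x * (F.radGen j)⁻¹ ∈ D.V := by
      refine (M.perm_eq_one _ (mul_mem (hKN hxK) (inv_mem r2))).1 ?_
      have h1 := M.perm_mul _ (mul_mem (hKN hxK) (inv_mem r2)) _ r2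
      rw [inv_mul_cancel_right, hx] at h1
      exact mul_eq_right.1 h1.symm
    obtain ⟨n, hn, hvn⟩ := exists_vE D hxv
    have hxC : x ∈ Cen z := by
      have := (Cen z).mul_mem (D.le_cen hxv) (rad_le_Cen r1)
      rwa [inv_mul_cancel_right] at this
    have hn16 : n / 128 < 16 := by omega
    obtain ⟨v1, v2, -⟩ := vC_spec D hn16
    have hid : ∀ c < 16, mm idM (NV.upM c) = NV.upM c ∧ mm (NV.upM c) idM = NV.upM c := by
      decide +kernel
    have hxmat : F.mat x = NV.upM (n / 128) := by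
      have hr := mul_mem (F.eE_spec (show n % 64 < 4096 by omega)).1 (F.zp_mem (n.testBit 6))
      rw [show x = vE D n * F.radGen j by rw [hvn, inv_mul_cancel_right],
        F.mat_mul _ (by rw [hvn]; exact D.le_cen hxv) _ (rad_le_Cen r1),
        (F.mat_eq_id _ (rad_le_Cen r1)).2 r1, vE,
        F.mat_mul _ (rad_le_Cen hr) _ (V0_le_CP D v1).1, (F.mat_eq_id _ (rad_le_Cen hr)).2 hr,
        v2, (hid _ hn16).1, (hid _ hn16).2]
    have hpC := F.p0_mem_cen
    have hpx : F.mat (F.p0 * x) = F.mat (x * F.p0) := by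
      rw [F.mat_mul _ hpC _ hxC, F.mat_mul _ hxC _ hpC, F.mat_p0, hxmat,
        NV.upM_scalar _ hn16]
    set y := F.p0 * x * (x * F.p0)⁻¹ with hy
    have hyK : y ∈ K := mul_mem (mul_mem hp hxK) (inv_mem (mul_mem hxK hp))
    have hyR : y ∈ Rad z := by
      have hxp := (Cen z).mul_mem hxC hpC
      have hC : y ∈ Cen z := (Cen z).mul_mem ((Cen z).mul_mem hpC hxC) ((Cen z).inv_mem hxp)
      refine (F.mat_eq_id _ hC).1 ?_
      rw [hy, F.mat_mul _ ((Cen z).mul_mem hpC hxC) _ ((Cen z).inv_mem hxp), hpx,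
        ← F.mat_mul _ hxp _ ((Cen z).inv_mem hxp), mul_inv_cancel, F.mat_one]
    refine ⟨y, hyK, hyR, NV.bound_of_mem ?_, fun m hm => ?_⟩
    · have : ∀ j < 6, NV.cMat.getD j [] ∈ NV.cMat := by decide +kernel
      have := this j hj
      simp only [List.mem_cons, List.mem_append]; tauto
    have hxa : Acts D x (NV.gensCover.getD (3 + j) []) := by
      refine ⟨(hrad j hj).1, fun k hk => ?_⟩
      have hk' := vE_mem D (NV.mv_lt_2048 _ k (hrad j hj).1)
      rw [show x * vE D k * x⁻¹ = (x * (F.radGen j)⁻¹) * (F.radGen j * vE D k * (F.radGen j)⁻¹) *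
        (x * (F.radGen j)⁻¹)⁻¹ by group, (hrad j hj).2 k hk, V_comm D hxv hk',
        mul_inv_cancel_right]
    have hR := Acts.mul D hxa (acts_p0 D)
    have hL := Acts.mul D (acts_p0 D) hxa
    have hyN : x * F.p0 ∈ normalizer (D.V : Set G) := mul_mem (hKN hxK) (hKN hp)
    obtain ⟨k, hk, hkv⟩ := exists_vE D ((Subgroup.mem_normalizer_iff.1 (inv_mem hyN) (vE D m)).1
      (vE_mem D hm))
    have e1 := hR.2 k hk
    rw [hkv] at e1
    have e2 : vE D m = vE D (mv (mm (NV.gensCover.getD (3 + j) []) NV.pMat) k) := by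
      rw [← e1]; group
    have hm' := vE_injOn D hm (NV.mv_lt_2048 _ k hR.1) e2
    have e3 := NV.sameMap_spec (List.all_eq_true.1 NV.c_check j (List.mem_range.2 hj)) k hk
    rw [mv_mm, ← hm'] at e3
    rw [e3, ← hL.2 k hk, hy, hkv]
    group
  have hq : ∀ q, ∀ n ≤ 6, ∃ k ∈ K, k ∈ Rad z ∧ Acts D k (NV.bitsProd NV.cMat q n) := by
    intro q n
    induction n with
    | zero => exact fun _ => ⟨1, one_mem K, one_mem _, acts_one D⟩
    | succ n ih =>
      intro hn
      obtain ⟨k, hk, hkR, hka⟩ := ih (by omega)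
      cases hb : q.testBit n
      · exact ⟨k, hk, hkR, by rw [NV.bitsProd, hb]; exact hka⟩
      · obtain ⟨y, hy, hyR, hya⟩ := hc n (by omega)
        exact ⟨k * y, mul_mem hk hy, mul_mem hkR hyR, by
          rw [NV.bitsProd, hb]; exact Acts.mul D hka hya⟩
  have hqk : ∀ q < 64, ∃ k ∈ K, k ∈ Rad z ∧ Acts D k (NV.qMat.getD q []) := by
    intro q hq'
    obtain ⟨k, hk, hkR, hka⟩ := hq q 6 le_rfl
    refine ⟨k, hk, hkR, Acts.congr D hka (NV.bound_of_mem ?_)
      (NV.sameMap_spec (List.all_eq_true.1 NV.q_check q (List.mem_range.2 hq')))⟩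
    have : ∀ q < 64, NV.qMat.getD q [] ∈ NV.qMat := by decide +kernel
    have := this q hq'
    simp only [List.mem_cons, List.mem_append]; tauto
  -- the radical element as a product of generators and an element of `V`
  have hb : F.co e / 64 < 64 := by have := F.co_lt e he; omega
  have hr : ∀ n ≤ 6, ∃ r ∈ Rad z, Acts D r (NV.bitsProd (NV.gensCover.drop 3) (F.co e / 64) n) ∧
      F.co r = 64 * (F.co e / 64 % 2 ^ n) := by
    intro n
    induction n with
    | zero => exact fun _ => ⟨1, one_mem _, acts_one D, by rw [F.co_one]; simp [Nat.mod_one]⟩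
    | succ n ih =>
      intro hn
      obtain ⟨r, hr, hra, hrc⟩ := ih (by omega)
      obtain ⟨h1, h2⟩ := NV.high_bits _ hb n (by omega)
      cases hbit : (F.co e / 64).testBit n
      · exact ⟨r, hr, by rw [NV.bitsProd, hbit]; exact hra, by rw [hrc, h1 hbit]⟩
      · obtain ⟨g1, -⟩ := radGen_mem D (j := n) (by omega)
        refine ⟨r * F.radGen n, mul_mem hr g1, ?_, ?_⟩
        · rw [NV.bitsProd, hbit]
          refine Acts.mul D hra ?_
          have : ∀ j < 6, (NV.gensCover.drop 3).getD j [] = NV.gensCover.getD (3 + j) [] := by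
            decide +kernel
          rw [this n (by omega)]
          exact hrad n (by omega)
        · have hlt : (2 : ℕ) ^ (6 + n) < 4096 :=
            lt_of_lt_of_le (Nat.pow_lt_pow_right (by norm_num) (show 6 + n < 12 by omega))
              (by norm_num)
          rw [F.co_mul _ hr _ g1, hrc, h2 hbit]
          exact congrArg _ (F.eE_spec hlt).2.1
  obtain ⟨r, hrR, hra, hrc⟩ := hr 6 le_rfl
  have her : e * r⁻¹ ∈ D.V := by
    have hm := mul_mem he (inv_mem hrR)
    refine (D.rad _ hm).2 ?_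
    have hri : F.co r⁻¹ = F.co r := by
      have := F.co_mul _ hrR _ (inv_mem hrR)
      rw [mul_inv_cancel, F.co_one] at this
      exact (Nat.xor_eq_zero_iff.1 this.symm).symm
    rw [F.co_mul _ he _ (inv_mem hrR), hri, hrc, Nat.mod_eq_of_lt (show F.co e / 64 < 2 ^ 6 from hb)]
    refine (Nat.div_eq_zero_iff_lt (by norm_num : 0 < 64)).1 ?_
    rw [show (64 : ℕ) = 2 ^ 6 from rfl, Nat.xor_div_two_pow, Nat.mul_div_cancel_left _ (by norm_num)]
    exact Nat.xor_self _
  have hqo := List.all_eq_true.1 NV.qOf_check _ (List.mem_range.2 hb)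
  simp only [Bool.and_eq_true] at hqo
  set q := NV.qOf.getD (F.co e / 64) 0 with hqdef
  have hq64 : q < 64 := Nat.le_of_ble_eq_true hqo.1
  obtain ⟨k, hkK, hkR, hka⟩ := hqk q hq64
  have hrk : r * k⁻¹ ∈ D.V := by
    have h1 := same_coset D hra hka (NV.sameMap_spec hqo.2)
    have h2 := (Subgroup.mem_normalizer_iff.1 (D.rad_le_norm hrR) _).1 (inv_mem h1)
    rwa [show r * (r⁻¹ * k)⁻¹ * r⁻¹ = r * k⁻¹ by group] at h2
  set v' := v * e * k⁻¹ with hv'def
  have hv' : v' ∈ D.V := by
    rw [show v' = v * (e * r⁻¹) * (r * k⁻¹) by rw [hv'def]; group]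
    exact mul_mem (mul_mem hv her) hrk
  have hte : v * e = v' * k := by rw [hv'def]; group
  obtain ⟨n, hn, hnv⟩ := exists_vE D hv'
  have hk2 : k * k = 1 := hKV _ (mul_mem hkK hkK) (mem_of_acts_id D (Acts.mul D hka hka) fun w hw => by
    rw [NV.sameMap_spec (List.all_eq_true.1 NV.q_sq_check q (List.mem_range.2 hq64)) w hw,
      NV.idE_spec w hw])
  have hki : k⁻¹ = k := inv_eq_of_mul_eq_one_right hk2
  have hfix : k * v' * k⁻¹ = v' := by
    have h1 : v' * k * (v' * k) = 1 := hte ▸ hinv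
    have h2 : v' * (k * v' * k⁻¹) = 1 := by
      rw [hki, ← h1]; group
    rw [← inv_eq_of_mul_eq_one_right h2]
    exact (inv_eq_of_mul_eq_one_right (V_sq D hv'))
  have hfixn : mv (NV.qMat.getD q []) n = n := by
    refine vE_injOn D (NV.mv_lt_2048 _ n hka.1) hn ?_
    rw [← hka.2 n hn, hnv, hfix]
  by_cases hlow : n < 128
  · refine Or.inr ⟨1, ?_⟩
    rw [one_mul, inv_one, mul_one, hte, ← hnv]
    exact mul_mem (vE_low D hlow) hkR
  by_cases hq0 : q = 0
  · refine Or.inl ?_
    rw [hte, hKV k hkK (mem_of_acts_id D hka fun w hw => by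
      rw [hq0, NV.sameMap_spec NV.q_zero_check w hw, NV.idE_spec w hw]), mul_one]
    exact hv'
  have hcov := List.all_eq_true.1 NV.cover_check q (List.mem_range.2 hq64)
  simp only [Bool.or_eq_true, List.all_eq_true, List.mem_range, List.any_eq_true,
    Bool.and_eq_true, Bool.not_eq_true'] at hcov
  rcases hcov with h0 | h0
  · exact absurd (Nat.eq_of_beq_eq_true h0) hq0
  rcases h0 n hn with (h1 | h1) | ⟨i, hi, h1, h2⟩
  · exact absurd (Nat.le_of_ble_eq_true h1) hlow
  · rw [hfixn, Nat.beq_refl] at h1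
    exact Bool.noConfusion h1
  have hmv := List.all_eq_true.1 NV.move_check i (List.mem_range.2 hi)
  simp only [Bool.and_eq_true, List.all_eq_true, List.mem_range, Bool.or_eq_true] at hmv
  obtain ⟨⟨hin, hpts⟩, htab⟩ := hmv
  obtain ⟨g, hgK, hgσ⟩ := hKs _ (Golay.inM24_mem hin)
  have hga : Acts D g (NV.moveMat.getD i []) := by
    have hmem : ∀ i < 36, NV.moveMat.getD i [] ∈ NV.moveMat := by decide +kernel
    have hl := NV.bound_of_mem (l := NV.moveMat.getD i []) (by
      have := hmem i hi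
      simp only [List.mem_cons, List.mem_append]; tauto)
    have hconj : ∀ m < 2048, g * vE D m * g⁻¹ ∈ D.V := fun m hm =>
      (Subgroup.mem_normalizer_iff.1 (hKN hgK) _).1 (vE_mem D hm)
    refine ⟨hl, fun m hm => ?_⟩
    have hag : ∀ m < 2048, coV D (g * vE D m * g⁻¹) = mv (NV.moveMat.getD i []) m := by
      refine NV.agree_of_points ?_ (fun a _ b _ => mv_xor _ a b) fun j hj => ?_
      · intro a ha b hb'
        rw [← coV_mul D (hconj a ha) (hconj b hb'), vE_xor D ha hb']
        congr 1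
        group
      · have h0 : NV.wv (Golay.idx (Golay.pt 0)) = 0 := by decide +kernel
        have hpv : NV.wv j = NV.pv (Golay.pt 0) (Golay.pt j) := by
          rw [NV.pv, h0, Nat.zero_xor, Golay.idx_pt hj]
        have hv0 := (NV.tab_facts hj hj).2.1
        have e0 := M.co_conj g (hKN hgK) _ (vE_mem D hv0) (Golay.pt 0) (Golay.pt j)
          (by rw [hco _ (vE_mem D hv0), coV_vE D hv0, hpv])
        rw [hco _ (hconj _ hv0), hgσ] at e0
        have hval := Golay.inM24_valid hin
        rw [e0, Nat.eq_of_beq_eq_true (hpts j hj), NV.pv, Golay.permOf_pt hval (by norm_num),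
          Golay.permOf_pt hval hj, Golay.idx_pt (Golay.valid_lt hval (by norm_num)),
          Golay.idx_pt (Golay.valid_lt hval hj), Nat.xor_comm]
    rw [← (coV_spec D (hconj m hm)).2, hag m hm]
  set q' := (NV.moveTab.getD i []).getD q 64 with hq'def
  have hq' : q' < 64 := Nat.le_of_ble_eq_true h1
  obtain ⟨k', hk'K, hk'R, hk'a⟩ := hqk q' hq'
  have hkk : g * k = k' * g := by
    rcases htab q hq64 with e0 | e0
    · exact absurd (Nat.eq_of_beq_eq_true e0) (by omega)
    · exact (hK1 (mul_mem hk'K hgK) (mul_mem hgK hkK)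
        (same_coset D (Acts.mul D hk'a hga) (Acts.mul D hga hka)
          (fun w hw => (NV.sameMap_spec e0 w hw).symm))).symm
  refine Or.inr ⟨g, ?_⟩
  have e0 : g * (v * e) * g⁻¹ = g * vE D n * g⁻¹ * k' := by
    rw [hte, hnv, show g * (v' * k) * g⁻¹ = g * v' * g⁻¹ * (g * k * g⁻¹) by group, hkk]
    group
  rw [e0, hga.2 n hn]
  exact mul_mem (vE_low D (Nat.le_of_ble_eq_true h2)) hk'R

end Frame

end CfsgLib.J4Type
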