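import Cfsg.Agent.Lib.J4Type.NV.SecondModel
import Cfsg.Agent.Lib.J4Type.NV.Action
import Cfsg.Agent.Lib.J4Type.NV.InnerData
import Cfsg.Agent.Lib.J4Type.Cert.Orbits

/-!
Finite checks for the involutions of the centraliser of the central involution inducing linear
maps.
-/

set_option autoImplicit false
set_option maxRecDepth 100000
set_option Elab.async false

namespace CfsgLib.J4Type

open Cfsg Subgroup

namespace NV

open CfsgLib.Golay

/-- The identity on eleven bits. -/
def idE : List ℕ := (List.range 11).map fun i => 2 ^ i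

/-- A product of some of the first `n` maps. -/
def bitsProd (T : List (List ℕ)) (b : ℕ) : ℕ → List ℕ
  | 0 => idE
  | n + 1 => bif b.testBit n then mm (bitsProd T b n) (T.getD n []) else bitsProd T b n

/-- A vector is the same under two maps on every basis vector. -/
def sameMap (a b : List ℕ) : Bool :=
  (List.range 11).all fun i => Nat.beq (mv a (2 ^ i)) (mv b (2 ^ i))

theorem sameMap_spec {a b : List ℕ} (h : sameMap a b = true) :
    ∀ v < 2048, mv a v = mv b v :=
  lin_ext (n := 11) (fun x y _ _ => mv_xor a x y) (fun x y _ _ => mv_xor b x y) fun i hi =>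
    Nat.eq_of_beq_eq_true (List.all_eq_true.1 h i (List.mem_range.2 hi))

theorem idE_spec : ∀ v < 2048, mv idE v = v :=
  lin_ext (n := 11) (fun x y _ _ => mv_xor idE x y) (fun _ _ _ _ => rfl) (by decide +kernel)

theorem data_bound : ((pMat :: (cMat ++ qMat ++ moveMat ++ gensCover ++ [idE])).all fun l =>
    l.all fun x => Nat.blt x 2048) = true := by decide +kernel

theorem bound_of_mem {l : List ℕ} (h : l ∈ pMat :: (cMat ++ qMat ++ moveMat ++ gensCover ++ [idE])) :
    ∀ x ∈ l, x < 2048 := fun x hx =>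
  Nat.le_of_ble_eq_true (List.all_eq_true.1 (List.all_eq_true.1 data_bound l h) x hx)

theorem c_check : ((List.range 6).all fun j =>
    sameMap (mm (cMat.getD j []) (mm (gensCover.getD (3 + j) []) pMat))
      (mm pMat (gensCover.getD (3 + j) []))) = true := by decide +kernel

theorem q_check : ((List.range 64).all fun q =>
    sameMap (bitsProd cMat q 6) (qMat.getD q [])) = true := by decide +kernel

theorem qOf_check : ((List.range 64).all fun b => Nat.blt (qOf.getD b 0) 64 &&
    sameMap (bitsProd (gensCover.drop 3) b 6) (qMat.getD (qOf.getD b 0) [])) = true := by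
  decide +kernel

theorem q_sq_check : ((List.range 64).all fun q =>
    sameMap (mm (qMat.getD q []) (qMat.getD q [])) idE) = true := by decide +kernel

theorem q_zero_check : sameMap (qMat.getD 0 []) idE = true := by decide +kernel

theorem move_check : ((List.range 36).all fun k =>
    inM24 (moveCode.getD k 0) &&
      ((List.range 24).all fun i =>
        Nat.beq (mv (moveMat.getD k []) (wv i))
          (wv (img (moveCode.getD k 0) i) ^^^ wv (img (moveCode.getD k 0) 0))) &&
      (List.range 64).all fun q =>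
        Nat.beq ((moveTab.getD k []).getD q 64) 64 ||
          sameMap (mm (moveMat.getD k []) (qMat.getD q []))
            (mm (qMat.getD ((moveTab.getD k []).getD q 64) []) (moveMat.getD k []))) = true := by
  decide +kernel

theorem cover_check : ((List.range 64).all fun q => Nat.beq q 0 || (List.range 2048).all fun v =>
    Nat.blt v 128 || !Nat.beq (mv (qMat.getD q []) v) v || (List.range 36).any fun k =>
      Nat.blt ((moveTab.getD k []).getD q 64) 64 && Nat.blt (mv (moveMat.getD k []) v) 128) = true := by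
  decide +kernel

theorem pMat_basis : ∀ i < 11, mv pMat (2 ^ i) =
    (if i < 6 then mv pOm (2 ^ i) else 2 ^ i) ∧ (i < 6 → mv pOm (2 ^ i) < 64) := by decide +kernel

theorem upM_scalar : ∀ c < 16, mm (upM c) pOm = mm pOm (upM c) := by decide +kernel

theorem upM_stab : ∀ c < 16, ∀ i < 6, mv (upM c) (2 ^ i) < 64 := by decide +kernel

theorem high_bits : ∀ b < 64, ∀ n < 6,
    (b.testBit n = false → 64 * (b % 2 ^ (n + 1)) = 64 * (b % 2 ^ n)) ∧
    (b.testBit n = true → 64 * (b % 2 ^ (n + 1)) = 64 * (b % 2 ^ n) ^^^ 2 ^ (6 + n)) := by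
  decide +kernel

/-- Two additive maps agreeing on the vectors of the points agree. -/
theorem agree_of_points {f g : ℕ → ℕ}
    (hf : ∀ a < 2048, ∀ b < 2048, f (a ^^^ b) = f a ^^^ f b)
    (hg : ∀ a < 2048, ∀ b < 2048, g (a ^^^ b) = g a ^^^ g b)
    (h : ∀ i < 24, f (wv i) = g (wv i)) : ∀ v < 2048, f v = g v := by
  have z : ∀ u : ℕ → ℕ, (∀ a < 2048, ∀ b < 2048, u (a ^^^ b) = u a ^^^ u b) → u 0 = 0 := by
    intro u hu
    have e := hu 0 (by norm_num) 0 (by norm_num)
    rw [Nat.xor_self, Nat.xor_self] at e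
    exact e
  have hs : ∀ l : List ℕ, (∀ i ∈ l, i < 24) → wSum l < 2048 ∧ f (wSum l) = g (wSum l) := by
    intro l
    induction l with
    | nil => exact fun _ => ⟨by norm_num [wSum], by rw [wSum, z f hf, z g hg]⟩
    | cons i l ih =>
      intro hl
      obtain ⟨h1, h2⟩ := ih fun j hj => hl j (List.mem_cons_of_mem _ hj)
      have hi : i < 24 := hl i List.mem_cons_self
      have hi' : wv i < 2048 := (tab_facts hi hi).2.1
      refine ⟨Nat.xor_lt_two_pow (n := 11) hi' h1, ?_⟩
      show f (wv i ^^^ wSum l) = g (wv i ^^^ wSum l)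
      rw [hf _ hi' _ h1, hg _ hi' _ h1, h i hi, h2]
  refine lin_ext (n := 11) (fun a b ha hb => hf a ha b hb) (fun a b ha hb => hg a ha b hb) ?_
  intro j hj
  have hc := List.all_eq_true.1 spanTab_check j (List.mem_range.2 hj)
  simp only [Bool.and_eq_true, List.all_eq_true, decide_eq_true_eq] at hc
  rw [← Nat.eq_of_beq_eq_true hc.1]
  exact (hs _ hc.2).2

/-! ### Involutions of the linear part -/

theorem image_distinct : ((List.range 77).all fun p => (List.range 77).all fun p' =>
    Nat.beq p p' || (List.range 6).any fun i =>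
      !inImage (Cert.rM p) (mv (Cert.rM p') (2 ^ i))) = true := by decide +kernel

theorem stab_invol : ((List.range 16).all fun a => (List.range 1080).all fun k =>
    !((mm (mm (Cert.qM a) (Cert.kM k)) (mm (Cert.qM a) (Cert.kM k))) == idM) ||
      (List.range 77).any fun p => (List.range 6).all fun i =>
        Nat.beq (mv (mm (Cert.qM a) (Cert.kM k)) (mv (Cert.rM p) (2 ^ i)))
          (mv (Cert.rM p) (2 ^ i))) = true := by decide +kernel

theorem qM_upM : ((List.range 16).all fun a => (List.range 16).any fun c =>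
    Cert.qM a == upM c) = true := by decide +kernel

/-- An involution of the linear part is conjugate in it into the upper radical. -/
theorem exists_conj_upper {m : List ℕ} (hm : InX m) (h2 : mm m m = idM) :
    ∃ g g', InX g ∧ InX g' ∧ mm g g' = idM ∧ ∃ c < 16, mm g' (mm m g) = upM c := by
  classical
  let a : Cert.LGrp := ⟨m, hm.inL⟩
  let r : Fin 77 → Cert.LGrp := fun p => ⟨Cert.rM p, (Cert.inX_rM p p.2).inL⟩
  have hstab : ∀ p : Fin 77, ∃ p' : Fin 77, ∀ v < 64, ((r p')⁻¹ * (a * r p)).act v < 64 := by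
    intro p
    have hx : InX (a * r p).1 := hm.comp (Cert.inX_rM p p.2)
    obtain ⟨p', hp', c, hc, k, hk, e⟩ := hx.decomp
    refine ⟨⟨p', hp'⟩, fun v hv => ?_⟩
    have h1 : (a * r p).act v = (r ⟨p', hp'⟩).act (mv (mm (Cert.qM c) (Cert.kM k)) v) := by
      show mv (a * r p).1 v = _
      rw [e, mv_mm]; rfl
    have hlt := Cert.mv_lt_plane (Cert.stabF_stab hc hk) v hv
    rw [Cert.LGrp.act_mul, h1, Cert.LGrp.act_inv _ (by omega)]
    exact hlt
  choose φ hφ using hstab
  have huniq : ∀ (p q : Fin 77) (x : Cert.LGrp),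
      (∀ v < 64, ((r p)⁻¹ * x).act v < 64) → (∀ v < 64, ((r q)⁻¹ * x).act v < 64) →
      InX x.1 → p = q := by
    intro p q x h1 h2 _
    by_contra hne
    have hd := List.all_eq_true.1 (List.all_eq_true.1 image_distinct p (List.mem_range.2 p.2)) q
      (List.mem_range.2 q.2)
    simp only [Bool.or_eq_true, List.any_eq_true, List.mem_range, Bool.not_eq_true'] at hd
    rcases hd with e | ⟨i, hi, e⟩
    · exact hne (Fin.ext (Nat.eq_of_beq_eq_true e))
    have hi64 : 2 ^ i < 64 := (Nat.pow_lt_pow_right (by norm_num) hi : 2 ^ i < 2 ^ 6)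
    obtain ⟨v, hv, ev⟩ := Cert.plane_surj ((r q)⁻¹ * x).2 h2 (2 ^ i) hi64
    have hxv : (r q).act (2 ^ i) = x.act v := by
      show (r q).act _ = _
      rw [← ev]
      show (r q).act (((r q)⁻¹ * x).act v) = _
      rw [← Cert.LGrp.act_mul, mul_inv_cancel_left]
    have hw := h1 v hv
    have hin : inImage (Cert.rM p) (mv (Cert.rM q) (2 ^ i)) = true := by
      refine List.any_eq_true.2 ⟨_, List.mem_range.2 hw, ?_⟩
      have h3 : (r p).act (((r p)⁻¹ * x).act v) = (r q).act (2 ^ i) := by
        rw [← Cert.LGrp.act_mul, mul_inv_cancel_left, hxv]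
      exact (congrArg (fun z => Nat.beq z _) h3).trans (Nat.beq_refl _)
    rw [hin] at e
    exact Bool.noConfusion e
  have ha2 : a * a = 1 := Cert.LGrp.ext h2
  have hinv : ∀ p, φ (φ p) = p := by
    intro p
    refine huniq _ _ (a * r (φ p)) (hφ (φ p)) ?_ (hm.comp (Cert.inX_rM _ (φ p).2))
    intro v hv
    obtain ⟨w, hw, ew⟩ := Cert.plane_surj ((r (φ p))⁻¹ * (a * r p)).2 (hφ p) v hv
    have h3 : (a * r (φ p)).act v = (r p).act w := by
      rw [← ew]
      show (a * r (φ p)).act (((r (φ p))⁻¹ * (a * r p)).act w) = _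
      rw [← Cert.LGrp.act_mul, mul_assoc a, mul_inv_cancel_left, ← mul_assoc, ha2, one_mul]
    rw [Cert.LGrp.act_mul, h3, Cert.LGrp.act_inv _ (by omega)]
    exact hw
  obtain ⟨p, hp⟩ : ∃ p, φ p = p := by
    by_contra hno
    push Not at hno
    let σ : Equiv.Perm (Fin 77) := ⟨φ, φ, hinv, hinv⟩
    have hs : σ.support = Finset.univ := by
      ext p
      simp only [Equiv.Perm.mem_support, Finset.mem_univ, iff_true]
      exact hno p
    have h2 : 2 ∣ σ.support.card :=
      Equiv.Perm.two_dvd_card_support (Equiv.ext fun p => by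
        rw [pow_two, Equiv.Perm.mul_apply]; exact hinv p)
    rw [hs, Finset.card_univ, Fintype.card_fin] at h2
    omega
  let b : Cert.LGrp := (r p)⁻¹ * (a * r p)
  have hrX : InX (r p).1 := Cert.inX_rM p p.2
  have hbX : InX b.1 := (Cert.LGrp.xGrp.inv_mem (x := r p) hrX : InX ((r p)⁻¹).1).comp (hm.comp hrX)
  have hbF : ∀ v < 64, mv b.1 v < 64 := fun v hv => by
    have := hφ p v hv
    rwa [hp] at this
  obtain ⟨c, hc, k, hk, e⟩ := hbX.plane_stab hbF
  have hbb : b * b = 1 := by
    show (r p)⁻¹ * (a * r p) * ((r p)⁻¹ * (a * r p)) = 1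
    rw [show (r p)⁻¹ * (a * r p) * ((r p)⁻¹ * (a * r p)) = (r p)⁻¹ * (a * a) * r p by group, ha2]
    group
  have hcert := List.all_eq_true.1 (List.all_eq_true.1 stab_invol c (List.mem_range.2 hc)) k
    (List.mem_range.2 hk)
  simp only [Bool.or_eq_true, Bool.not_eq_true', beq_eq_false_iff_ne, List.any_eq_true,
    List.all_eq_true, List.mem_range] at hcert
  rcases hcert with e' | ⟨q, hq, e'⟩
  · exact absurd (by rw [← e]; exact congrArg Subtype.val hbb) e'
  let d : Cert.LGrp := (r ⟨q, hq⟩)⁻¹ * (b * r ⟨q, hq⟩)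
  have hqX : InX (r ⟨q, hq⟩).1 := Cert.inX_rM q hq
  have hdX : InX d.1 :=
    (Cert.LGrp.xGrp.inv_mem (x := r ⟨q, hq⟩) hqX : InX ((r ⟨q, hq⟩)⁻¹).1).comp (hbX.comp hqX)
  have hdfix : ∀ v < 64, mv d.1 v = v := by
    refine lin_ext (n := 6) (fun x y _ _ => mv_xor d.1 x y) (fun _ _ _ _ => rfl) fun i hi => ?_
    have h3 := Nat.eq_of_beq_eq_true (e' i hi)
    rw [← e] at h3
    show d.act (2 ^ i) = 2 ^ i
    rw [Cert.LGrp.act_mul, Cert.LGrp.act_mul]
    show ((r ⟨q, hq⟩)⁻¹).act (mv b.1 (mv (Cert.rM q) (2 ^ i))) = _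
    rw [h3]
    exact (r ⟨q, hq⟩).act_inv (lt_of_lt_of_le (Nat.pow_lt_pow_right (by norm_num) hi) (by norm_num))
  obtain ⟨u, hu, eu⟩ := hdX.plane_fix hdfix
  obtain ⟨c', hc', ec⟩ : ∃ c < 16, Cert.qM u = upM c := by
    have h3 := List.all_eq_true.1 qM_upM u (List.mem_range.2 hu)
    simpa using h3
  let g : Cert.LGrp := r p * r ⟨q, hq⟩
  refine ⟨g.1, (g⁻¹).1, hrX.comp hqX, Cert.LGrp.xGrp.inv_mem (x := g) (hrX.comp hqX),
    congrArg Subtype.val (mul_inv_cancel g), c', hc', ?_⟩
  have hg : g⁻¹ * (a * g) = d := by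
    show (r p * r ⟨q, hq⟩)⁻¹ * (a * (r p * r ⟨q, hq⟩)) = _
    show _ = (r ⟨q, hq⟩)⁻¹ * ((r p)⁻¹ * (a * r p) * r ⟨q, hq⟩)
    group
  rw [← ec, ← eu, ← hg]
  rfl

end NV

end CfsgLib.J4Type
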