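import Cfsg.Agent.Lib.J4Type.NV.Fix
import Cfsg.Prelude.Def_Transfer

/-!
The centraliser of an involution of the orbit of length 276 of an elementary abelian group `V` of
order `2 ^ 11` lies in the normaliser of `V`.
-/

set_option autoImplicit false

namespace CfsgLib.J4Type.NV

open Cfsg CfsgLib.Golay Subgroup

variable {G : Type*} [Group G]

/-- Coordinates on `V`, the action of its normaliser and the two classes of involutions met by
`V`; `Z` is the class of the central involution. -/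
structure PairModel (V : Subgroup G) (Z : G → Prop) where
  elem : IsElementaryAbelian 2 V
  card : Nat.card V = 2 ^ 11
  /-- The coordinate. -/
  co : G → ℕ
  co_lt : ∀ v ∈ V, co v < 2048
  co_mul : ∀ v ∈ V, ∀ w ∈ V, co (v * w) = co v ^^^ co w
  co_inj : ∀ v ∈ V, ∀ w ∈ V, co v = co w → v = w
  /-- The permutation of the 24 points induced by an element of the normaliser. -/
  perm : G → Equiv.Perm GolayPt
  perm_mem : ∀ n ∈ normalizer (V : Set G), perm n ∈ M24
  perm_mul : ∀ m ∈ normalizer (V : Set G), ∀ n ∈ normalizer (V : Set G),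
    perm (m * n) = perm m * perm n
  perm_eq_one : ∀ n ∈ normalizer (V : Set G), perm n = 1 ↔ n ∈ V
  co_conj : ∀ n ∈ normalizer (V : Set G), ∀ v ∈ V, ∀ p q, co v = pv p q →
    co (n * v * n⁻¹) = pv (perm n p) (perm n q)
  co_Z : ∀ v ∈ V, v ≠ 1 → (Z v ↔ inB (co v) = false)
  Z_conj : ∀ g x, Z x → Z (g * x * g⁻¹)
  Z_ne : ¬ Z 1
  control : ∀ t ∈ V, inB (co t) = true → ∀ u ∈ V, Z u →
    centralizer ({t} : Set G) ⊓ centralizer ({u} : Set G) ≤ normalizer (V : Set G)
  unique : ∀ (g : G) (T : Subgroup G), IsPGroup 2 T → V ≤ T →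
    V.map (MulAut.conj g).toMonoidHom ≤ T → V.map (MulAut.conj g).toMonoidHom = V

theorem mem_cen {t x : G} : x ∈ centralizer ({t} : Set G) ↔ t * x = x * t :=
  ⟨fun h => Subgroup.mem_centralizer_iff.1 h t rfl,
    fun h => Subgroup.mem_centralizer_iff.2 fun y hy => by rw [Set.mem_singleton_iff.1 hy]; exact h⟩

theorem mem_map_conj {V : Subgroup G} {g y : G} :
    y ∈ V.map (MulAut.conj g).toMonoidHom ↔ g⁻¹ * y * g ∈ V := by
  rw [Subgroup.mem_map]
  constructor
  · rintro ⟨v, hv, rfl⟩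
    simpa [mul_assoc] using hv
  · intro h
    exact ⟨_, h, by simp [mul_assoc]⟩

theorem mem_normalizer_of_map {V : Subgroup G} {g : G}
    (h : V.map (MulAut.conj g).toMonoidHom = V) : g ∈ normalizer (V : Set G) := by
  rw [Subgroup.mem_normalizer_iff]
  intro y
  constructor
  · intro hy
    rw [← h, mem_map_conj]
    simpa [mul_assoc] using hy
  · intro hy
    rw [← h, mem_map_conj] at hy
    simpa [mul_assoc] using hy

theorem elem_comm {U : Subgroup G} (hU : IsElementaryAbelian 2 U) {a b : G} (ha : a ∈ U)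
    (hb : b ∈ U) : a * b = b * a :=
  congrArg Subtype.val (hU.1.is_comm.comm ⟨a, ha⟩ ⟨b, hb⟩)

theorem elem_sq {U : Subgroup G} (hU : IsElementaryAbelian 2 U) {a : G} (ha : a ∈ U) :
    a * a = 1 := by
  rw [← pow_two]; exact hU.2 a ha

theorem elem_inv {U : Subgroup G} (hU : IsElementaryAbelian 2 U) {a : G} (ha : a ∈ U) :
    a⁻¹ = a := inv_eq_of_mul_eq_one_right (elem_sq hU ha)

theorem elem_isPGroup {U : Subgroup G} (hU : IsElementaryAbelian 2 U) : IsPGroup 2 U := fun x =>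
  ⟨1, Subtype.ext (by simpa using hU.2 x x.2)⟩

theorem le_centralizer_of_mem {U : Subgroup G} (hU : IsElementaryAbelian 2 U) {a : G}
    (ha : a ∈ U) : U ≤ centralizer ({a} : Set G) := fun _ hb => mem_cen.2 (elem_comm hU ha hb)

/-- An involution normalising an elementary abelian group of order `2 ^ 11` centralises at least
`2 ^ 6` of its elements. -/
theorem card_fixed_ge [Finite G] {U : Subgroup G} (hU : IsElementaryAbelian 2 U)
    (hcard : Nat.card U = 2 ^ 11) {x : G} (hx : x ∈ normalizer (U : Set G)) (hx2 : x * x = 1) :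
    2 ^ 6 ≤ Nat.card ↥(U ⊓ centralizer ({x} : Set G)) := by
  have hxi : x⁻¹ = x := inv_eq_of_mul_eq_one_right hx2
  have hconj : ∀ v ∈ U, x * v * x ∈ U := fun v hv => by
    have := (Subgroup.mem_normalizer_iff.1 hx v).1 hv
    rwa [hxi] at this
  let ψ : U →* U := MonoidHom.mk' (fun v => ⟨v.1 * (x * v.1 * x), U.mul_mem v.2 (hconj _ v.2)⟩) <| by
    rintro ⟨a, ha⟩ ⟨b, hb⟩
    apply Subtype.ext
    show a * b * (x * (a * b) * x) = a * (x * a * x) * (b * (x * b * x))
    have e : x * (a * b) * x = x * a * x * (x * b * x) := by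
      rw [show x * a * x * (x * b * x) = x * a * (x * x) * b * x by group, hx2]; group
    rw [e, mul_assoc a b, ← mul_assoc b, elem_comm hU hb (hconj a ha)]
    group
  let C := U ⊓ centralizer ({x} : Set G)
  have hk : ∀ v : U, v ∈ ψ.ker ↔ (v : G) ∈ C := by
    intro v
    rw [MonoidHom.mem_ker, Subgroup.mem_inf, mem_cen]
    constructor
    · intro h
      refine ⟨v.2, ?_⟩
      have h' : (v : G) * (x * v * x) = 1 := congrArg Subtype.val h
      have h'' : x * v * x = (v : G) :=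
        (inv_eq_of_mul_eq_one_right h').symm.trans (elem_inv hU v.2)
      calc x * v = x * v * (x * x) := by rw [hx2, mul_one]
        _ = (x * v * x) * x := by group
        _ = v * x := by rw [h'']
    · rintro ⟨-, h⟩
      apply Subtype.ext
      show (v : G) * (x * v * x) = 1
      rw [h, mul_assoc (v : G) x x, hx2, mul_one, elem_sq hU v.2]
  have hrange : ∀ v : U, ((ψ v : U) : G) ∈ C := by
    intro v
    refine Subgroup.mem_inf.2 ⟨(ψ v).2, mem_cen.2 ?_⟩
    show x * ((v : G) * (x * v * x)) = (v : G) * (x * v * x) * x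
    have e1 : (v : G) * (x * v * x) * x = (v : G) * (x * v) := by
      rw [mul_assoc _ _ x, mul_assoc (x * (v : G)) x x, hx2, mul_one]
    have e2 : x * ((v : G) * (x * v * x)) = x * (v : G) * x * (v : G) * x := by group
    have e3 : x * (v : G) * x * (v : G) = (v : G) * (x * v * x) :=
      elem_comm hU (hconj _ v.2) v.2
    rw [e2, e3, e1]
  have h1 : Nat.card ψ.range ≤ Nat.card C :=
    Nat.card_le_card_of_injective (fun y : ψ.range => (⟨((y : U) : G), by
      obtain ⟨v, hv⟩ := y.2; rw [← hv]; exact hrange v⟩ : C)) fun a b e => by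
      have e' : ((a : U) : G) = ((b : U) : G) := congrArg (fun z : C => (z : G)) e
      exact Subtype.ext (Subtype.ext e')
  have h2 : Nat.card ψ.ker ≤ Nat.card C :=
    Nat.card_le_card_of_injective (fun y : ψ.ker => (⟨((y : U) : G), (hk y).1 y.2⟩ : C))
      fun a b e => by
        have e' : ((a : U) : G) = ((b : U) : G) := congrArg (fun z : C => (z : G)) e
        exact Subtype.ext (Subtype.ext e')
  have h3 := Subgroup.card_mul_index ψ.ker
  rw [Subgroup.index_ker, hcard] at h3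
  have h4 : 2 ^ 11 ≤ Nat.card C * Nat.card C := h3 ▸ Nat.mul_le_mul h2 h1
  have : Fact (Nat.Prime 2) := ⟨Nat.prime_two⟩
  obtain ⟨k, hk'⟩ := IsPGroup.iff_card.1 ((elem_isPGroup hU).to_le (inf_le_left : C ≤ U))
  rw [hk', ← pow_add] at h4
  have := (Nat.pow_le_pow_iff_right (by norm_num : 1 < 2)).1 h4
  show 2 ^ 6 ≤ Nat.card C
  rw [hk']
  exact Nat.pow_le_pow_right (by norm_num) (by omega)

/-- The dihedral argument: two involutions which are not conjugate. -/
theorem dihedral {Q : Type*} [Group Q] [Finite Q] {a b : Q} (ha : a * a = 1) (hb : b * b = 1)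
    (hne : ∀ g : Q, g * a * g⁻¹ ≠ b) :
    ∃ w : Q, w ≠ 1 ∧ a * w = w * a ∧ b * w = w * b ∧
      ∃ h : Q, h * a * h⁻¹ = a * w ∨ h * b * h⁻¹ = a * w := by
  have hai : a⁻¹ = a := inv_eq_of_mul_eq_one_right ha
  have hbi : b⁻¹ = b := inv_eq_of_mul_eq_one_right hb
  set r := a * b with hr
  have har : a * r = b := by rw [hr, ← mul_assoc, ha, one_mul]
  have hconj : ∀ k : ℕ, a * r ^ k * a = (r ^ k)⁻¹ := by
    intro k
    have e : a * r * a⁻¹ = r⁻¹ := by rw [har, hai, hr, mul_inv_rev, hai, hbi]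
    calc a * r ^ k * a = (a * r * a⁻¹) ^ k := by rw [conj_pow, hai]
      _ = (r ^ k)⁻¹ := by rw [e, inv_pow]
  have hshift : ∀ k : ℕ, (r ^ k)⁻¹ * a * r ^ k = a * r ^ (2 * k) := by
    intro k
    rw [← hconj k, two_mul, pow_add]
    calc a * r ^ k * a * a * r ^ k = a * r ^ k * (a * a) * r ^ k := by group
      _ = a * (r ^ k * r ^ k) := by rw [ha]; group
  obtain ⟨m, hm⟩ : ∃ m, orderOf r = m := ⟨_, rfl⟩
  have hm0 : 0 < m := hm ▸ orderOf_pos r
  rcases Nat.even_or_odd m with ⟨j, hj⟩ | ⟨j, hj⟩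
  swap
  · exfalso
    refine hne (r ^ (j + 1))⁻¹ ?_
    rw [inv_inv, hshift, show 2 * (j + 1) = m + 1 by omega, pow_succ, ← hm, pow_orderOf_eq_one,
      one_mul, har]
  have hjm : r ^ j * r ^ j = 1 := by rw [← pow_add, ← hj, ← hm, pow_orderOf_eq_one]
  have hwi : (r ^ j)⁻¹ = r ^ j := inv_eq_of_mul_eq_one_right hjm
  have hwa : a * r ^ j = r ^ j * a := by
    have := hconj j
    rw [hwi] at this
    calc a * r ^ j = a * r ^ j * (a * a) := by rw [ha, mul_one]
      _ = (a * r ^ j * a) * a := by group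
      _ = r ^ j * a := by rw [this]
  refine ⟨r ^ j, fun e => ?_, hwa, ?_, ?_⟩
  · have := orderOf_dvd_of_pow_eq_one e
    rw [hm] at this
    have := Nat.le_of_dvd (by omega) this
    omega
  · rw [← har, mul_assoc, (Commute.self_pow r j).eq, ← mul_assoc, hwa, mul_assoc]
  · rcases Nat.even_or_odd j with ⟨i, hi⟩ | ⟨i, hi⟩
    · refine ⟨(r ^ i)⁻¹, Or.inl ?_⟩
      rw [inv_inv, hshift, two_mul, hi]
    · refine ⟨(r ^ i)⁻¹, Or.inr ?_⟩
      rw [inv_inv, ← har, ← mul_assoc, mul_assoc _ r, ← pow_succ', pow_succ, ← mul_assoc, hshift,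
        mul_assoc, ← pow_succ, ← hi]

namespace PairModel

variable {V : Subgroup G} {Z : G → Prop}

theorem co_one (M : PairModel V Z) : M.co 1 = 0 := by
  have h := M.co_mul 1 V.one_mem 1 V.one_mem
  rwa [one_mul, Nat.xor_self] at h

theorem exists_co [Finite G] (M : PairModel V Z) {n : ℕ} (hn : n < 2048) :
    ∃ v ∈ V, M.co v = n := by
  let φ : V → Fin 2048 := fun v => ⟨M.co v, M.co_lt v v.2⟩
  have hinj : Function.Injective φ := fun a b e =>
    Subtype.ext (M.co_inj a a.2 b b.2 (congrArg Fin.val e))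
  have hb := (Nat.bijective_iff_injective_and_card φ).2 ⟨hinj, by rw [M.card, Nat.card_fin]; norm_num⟩
  obtain ⟨v, hv⟩ := hb.2 ⟨n, hn⟩
  exact ⟨v, v.2, congrArg Fin.val hv⟩

theorem inB_zero : inB 0 = false := by decide +kernel

theorem inB_of_not (M : PairModel V Z) {v : G} (hv : v ∈ V) (h1 : v ≠ 1) (hZ : ¬ Z v) :
    inB (M.co v) = true := by
  cases h : inB (M.co v)
  · exact absurd ((M.co_Z v hv h1).2 h) hZ
  · rfl

theorem ne_one_of_inB (M : PairModel V Z) {v : G} (h : inB (M.co v) = true) : v ≠ 1 := by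
  rintro rfl
  rw [M.co_one, inB_zero] at h
  exact Bool.noConfusion h

theorem Z_of_quad (M : PairModel V Z) {v : G} (hv : v ∈ V) {a b c d : GolayPt} (hab : a ≠ b)
    (hac : a ≠ c) (had : a ≠ d) (hbc : b ≠ c) (hbd : b ≠ d) (hcd : c ≠ d)
    (h : M.co v = pv a b ^^^ pv c d) : Z v := by
  obtain ⟨h1, h2⟩ := quad hab hac had hbc hbd hcd
  refine (M.co_Z v hv ?_).2 (by rw [h]; exact h1)
  rintro rfl
  rw [M.co_one] at h
  exact h2 (Nat.eq_of_xor_eq_zero h.symm)

theorem not_Z_of_pair (M : PairModel V Z) {v : G} (hv : v ∈ V) {a b : GolayPt} (hab : a ≠ b)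
    (h : M.co v = pv a b) : ¬ Z v := by
  intro hZ
  have hne : v ≠ 1 := fun e => M.Z_ne (e ▸ hZ)
  have := (M.co_Z v hv hne).1 hZ
  rw [h, pv_inB hab] at this
  exact Bool.noConfusion this

/-- A set of non-central-type elements closed under products through `t` is a triangle. -/
theorem triangle (M : PairModel V Z) {I : Subgroup G} (hI : I ≤ V) (hZ : ∀ w ∈ I, ¬ Z w) {t : G}
    (ht : t ∈ I) {a b : GolayPt} (hab : a ≠ b) (hco : M.co t = pv a b) :
    ∃ c, c ≠ a ∧ c ≠ b ∧ ∀ w ∈ I, M.co w = 0 ∨ M.co w = pv a b ∨ M.co w = pv a c ∨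
      M.co w = pv b c := by
  have hshare : ∀ v ∈ I, ∀ w ∈ I, inB (M.co v) = true → inB (M.co w) = true →
      M.co v ≠ M.co w → ∃ x, Ends (M.co v) x ∧ Ends (M.co w) x := by
    intro v hv w hw h1 h2 h3
    refine share (M.co_lt v (hI hv)) (M.co_lt w (hI hw)) h1 h2 ?_
    rw [← M.co_mul v (hI hv) w (hI hw)]
    refine M.inB_of_not (hI (I.mul_mem hv hw)) (fun e => h3 ?_) (hZ _ (I.mul_mem hv hw))
    have := M.co_mul v (hI hv) w (hI hw)
    rw [e, M.co_one] at this
    exact Nat.eq_of_xor_eq_zero this.symm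
  by_cases hall : ∀ w ∈ I, M.co w = 0 ∨ M.co w = pv a b
  · obtain ⟨c, hc, hcb, -, -⟩ := exists_fresh a b a a
    exact ⟨c, hc, hcb, fun w hw => (hall w hw).imp_right Or.inl⟩
  push Not at hall
  obtain ⟨w, hw, hw0, hwt⟩ := hall
  have hwB : inB (M.co w) = true :=
    M.inB_of_not (hI hw) (fun e => hw0 (by rw [e, M.co_one])) (hZ w hw)
  have htB : inB (M.co t) = true := by rw [hco]; exact pv_inB hab
  obtain ⟨x, hx1, hx2⟩ := hshare t ht w hw htB hwB (fun e => hwt (e.symm.trans hco))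
  obtain ⟨c, hc, hwc⟩ := id hx2
  rw [hco] at hx1
  have hca : c ≠ a ∧ c ≠ b := by
    rcases hx1.eq_or hab with rfl | rfl
    · exact ⟨hc, fun e => hwt (by rw [hwc, e])⟩
    · exact ⟨fun e => hwt (by rw [hwc, e, pv_comm]), hc⟩
  refine ⟨c, hca.1, hca.2, fun v hv => ?_⟩
  by_cases h0 : M.co v = 0
  · exact Or.inl h0
  by_cases h1 : M.co v = pv a b
  · exact Or.inr (Or.inl h1)
  by_cases h2 : M.co v = pv a c
  · exact Or.inr (Or.inr (Or.inl h2))
  by_cases h3 : M.co v = pv b c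
  · exact Or.inr (Or.inr (Or.inr h3))
  exfalso
  have hvB : inB (M.co v) = true :=
    M.inB_of_not (hI hv) (fun e => h0 (by rw [e, M.co_one])) (hZ v hv)
  have hwt' : M.co (w * t) = pv a c ∨ M.co (w * t) = pv b c := by
    rw [M.co_mul w (hI hw) t (hI ht), hwc, hco]
    rcases hx1.eq_or hab with rfl | rfl
    · exact Or.inr (by rw [pv_xor, pv_comm])
    · exact Or.inl (by rw [pv_comm a, pv_xor, pv_comm])
  have hw' : M.co w = pv a c ∨ M.co w = pv b c := by
    rcases hx1.eq_or hab with rfl | rfl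
    · exact Or.inl hwc
    · exact Or.inr hwc
  have hac' : ∃ y ∈ I, M.co y = pv a c := by
    rcases hw' with e | e
    · exact ⟨w, hw, e⟩
    rcases hwt' with e' | e'
    · exact ⟨w * t, I.mul_mem hw ht, e'⟩
    · rw [M.co_mul w (hI hw) t (hI ht), e] at e'
      exact absurd e' (fun e'' => by
        have := congrArg (pv b c ^^^ ·) e''
        simp only [← Nat.xor_assoc, Nat.xor_self, Nat.zero_xor] at this
        rw [this, inB_zero] at htB
        exact Bool.noConfusion htB)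
  have hbc' : ∃ y ∈ I, M.co y = pv b c := by
    obtain ⟨y, hy, e⟩ := hac'
    refine ⟨y * t, I.mul_mem hy ht, ?_⟩
    rw [M.co_mul y (hI hy) t (hI ht), e, hco, pv_xor, pv_comm]
  obtain ⟨y, hy, ey⟩ := hac'
  obtain ⟨y', hy', ey'⟩ := hbc'
  have hcc : a ≠ c ∧ b ≠ c := ⟨Ne.symm hca.1, Ne.symm hca.2⟩
  obtain ⟨p, hp1, hp2⟩ := hshare t ht v hv htB hvB (fun e => h1 (e.symm.trans hco))
  obtain ⟨q, hq1, hq2⟩ := hshare y hy v hv (by rw [ey]; exact pv_inB hcc.1) hvB
    (fun e => h2 (e.symm.trans ey))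
  obtain ⟨r, hr1, hr2⟩ := hshare y' hy' v hv (by rw [ey']; exact pv_inB hcc.2) hvB
    (fun e => h3 (e.symm.trans ey'))
  rw [hco] at hp1
  rw [ey] at hq1
  rw [ey'] at hr1
  rcases hp1.eq_or hab with hp | hp
  · rw [hp] at hp2
    rcases hr1.eq_or hcc.2 with hr' | hr' <;> rw [hr'] at hr2
    · exact h1 (hp2.pair hr2 hab)
    · exact h2 (hp2.pair hr2 hcc.1)
  · rw [hp] at hp2
    rcases hq1.eq_or hcc.1 with hq' | hq' <;> rw [hq'] at hq2
    · exact h1 (hq2.pair hp2 hab)
    · exact h3 (hp2.pair hq2 hcc.2)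

theorem card_le_four [Finite G] (M : PairModel V Z) {I : Subgroup G} (hI : I ≤ V)
    (hZ : ∀ w ∈ I, ¬ Z w) {t : G} (ht : t ∈ I) {a b : GolayPt} (hab : a ≠ b)
    (hco : M.co t = pv a b) : Nat.card I ≤ 4 := by
  classical
  obtain ⟨c, -, -, hc⟩ := M.triangle hI hZ ht hab hco
  let S : Finset ℕ := {0, pv a b, pv a c, pv b c}
  have h : Nat.card I ≤ Nat.card S :=
    Nat.card_le_card_of_injective (fun w : I => (⟨M.co w, by
      simp only [S, Finset.mem_insert, Finset.mem_singleton]; exact hc w w.2⟩ : S))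
      fun v w e => Subtype.ext (M.co_inj v (hI v.2) w (hI w.2) (congrArg Subtype.val e))
  refine le_trans h ?_
  rw [Nat.card_eq_fintype_card, Fintype.card_coe]
  exact Finset.card_le_four

theorem conj_le_cen (M : PairModel V Z) {g x : G} (hx : g⁻¹ * x * g ∈ V) :
    V.map (MulAut.conj g).toMonoidHom ≤ centralizer ({x} : Set G) := by
  intro y hy
  rw [mem_map_conj] at hy
  refine mem_cen.2 ?_
  have e := congrArg (fun z => g * z * g⁻¹) (elem_comm M.elem hx hy)
  calc x * y = g * (g⁻¹ * x * g * (g⁻¹ * y * g)) * g⁻¹ := by group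
    _ = g * (g⁻¹ * y * g * (g⁻¹ * x * g)) * g⁻¹ := e
    _ = y * x := by group

theorem conj_eq_of_le (M : PairModel V Z) {g : G}
    (h : V.map (MulAut.conj g).toMonoidHom ≤ normalizer (V : Set G)) :
    V.map (MulAut.conj g).toMonoidHom = V := by
  have : Fact (Nat.Prime 2) := ⟨Nat.prime_two⟩
  exact M.unique g _ (IsPGroup.to_sup_of_normal_right'
    ((elem_isPGroup M.elem).map _) (elem_isPGroup M.elem) h) le_sup_right le_sup_left

theorem V_le_normalizer : V ≤ normalizer (V : Set G) := Subgroup.le_normalizer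

theorem conj_fix {g x : G} (h : g ∈ centralizer ({x} : Set G)) : g⁻¹ * x * g = x := by
  rw [mul_assoc, mem_cen.1 h, ← mul_assoc, inv_mul_cancel, one_mul]

/-- An element of the centraliser of `t` mapping an element of central type into `V` normalises
`V`. -/
theorem mem_normalizer (M : PairModel V Z) {t u g : G} (ht : t ∈ V) (htB : inB (M.co t) = true)
    (hu : u ∈ V) (hZ : Z u) (hg : g ∈ centralizer ({t} : Set G)) (hgu : g * u * g⁻¹ ∈ V) :
    g ∈ normalizer (V : Set G) := by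
  refine mem_normalizer_of_map (M.conj_eq_of_le (le_trans (le_inf ?_ ?_)
    (M.control t ht htB _ hgu (M.Z_conj g u hZ))))
  · exact M.conj_le_cen (by rw [conj_fix hg]; exact ht)
  · exact M.conj_le_cen (by simpa [mul_assoc] using hu)

theorem perm_one (M : PairModel V Z) : M.perm 1 = 1 :=
  (M.perm_eq_one 1 (Subgroup.one_mem _)).2 V.one_mem

theorem perm_keeps (M : PairModel V Z) {t y : G} (ht : t ∈ V) {a b : GolayPt} (hab : a ≠ b)
    (hco : M.co t = pv a b) (hy : y ∈ normalizer (V : Set G)) (hyt : y * t = t * y) :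
    (M.perm y a = a ∨ M.perm y a = b) ∧ (M.perm y b = a ∨ M.perm y b = b) := by
  have e := M.co_conj y hy t ht a b hco
  rw [hyt, mul_assoc, mul_inv_cancel, mul_one, hco] at e
  have hne : M.perm y a ≠ M.perm y b := fun h => hab ((M.perm y).injective h)
  constructor
  · have h : Ends (pv a b) (M.perm y a) := e ▸ ends_left hne
    exact h.eq_or hab
  · have h : Ends (pv a b) (M.perm y b) := e ▸ ends_right hne
    exact h.eq_or hab

/-- An element of central type of `V` has no conjugate under the centraliser of `t` which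
normalises `V` without lying in it. -/
theorem closed [Finite G] (M : PairModel V Z) {t u g : G} (ht : t ∈ V)
    (htB : inB (M.co t) = true) (hu : u ∈ V) (hZ : Z u) (hg : g ∈ centralizer ({t} : Set G))
    (hx : g * u * g⁻¹ ∈ normalizer (V : Set G)) : g * u * g⁻¹ ∈ V := by
  obtain ⟨a, b, hab, hco⟩ := decode (M.co_lt t ht) htB
  set x := g * u * g⁻¹ with hxdef
  by_contra hxV
  let V2 := V.map (MulAut.conj g).toMonoidHom
  have hgx : g⁻¹ * x * g ∈ V := by rw [hxdef]; simpa [mul_assoc] using hu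
  have hxV2 : x ∈ V2 := mem_map_conj.2 hgx
  have htV2 : t ∈ V2 := mem_map_conj.2 (by rw [conj_fix hg]; exact ht)
  have hV2t : V2 ≤ centralizer ({t} : Set G) := M.conj_le_cen (by rw [conj_fix hg]; exact ht)
  have hV2comm : ∀ p ∈ V2, ∀ q ∈ V2, p * q = q * p := fun p hp q hq =>
    mem_cen.1 (M.conj_le_cen (mem_map_conj.1 hp) hq)
  have hx2 : x * x = 1 := by
    calc x * x = g * (u * u) * g⁻¹ := by rw [hxdef]; group
      _ = 1 := by rw [elem_sq M.elem hu]; group
  have hV2elem : IsElementaryAbelian 2 V2 :=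
    ⟨⟨⟨fun p q => Subtype.ext (hV2comm p p.2 q q.2)⟩⟩, by
      rintro _ ⟨v, hv, rfl⟩
      rw [← map_pow, M.elem.2 v hv, map_one]⟩
  have hV2card : Nat.card V2 = 2 ^ 11 := by
    rw [← M.card]
    exact (Nat.card_congr (V.equivMapOfInjective _ (MulAut.conj g).injective).toEquiv).symm
  have hN2 : ∀ m ∈ centralizer ({t} : Set G), m * x = x * m → m ∈ normalizer (V2 : Set G) := by
    intro m hm hmx
    have hm' : g⁻¹ * m * g ∈ normalizer (V : Set G) := by
      refine M.control t ht htB u hu hZ (Subgroup.mem_inf.2 ⟨Subgroup.mul_mem _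
        (Subgroup.mul_mem _ (Subgroup.inv_mem _ hg) hm) hg, mem_cen.2 ?_⟩)
      calc u * (g⁻¹ * m * g) = g⁻¹ * (x * m) * g := by rw [hxdef]; group
        _ = g⁻¹ * (m * x) * g := by rw [hmx]
        _ = g⁻¹ * m * g * u := by rw [hxdef]; group
    rw [Subgroup.mem_normalizer_iff]
    intro y
    show y ∈ V2 ↔ m * y * m⁻¹ ∈ V2
    rw [mem_map_conj, mem_map_conj, Subgroup.mem_normalizer_iff.1 hm']
    rw [show g⁻¹ * m * g * (g⁻¹ * y * g) * (g⁻¹ * m * g)⁻¹ = g⁻¹ * (m * y * m⁻¹) * g by group]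
  have hnot : ¬ V2 ≤ normalizer (V : Set G) := fun h => hxV (M.conj_eq_of_le h ▸ hxV2)
  let I := V ⊓ V2
  have hIZ : ∀ w ∈ I, ¬ Z w := fun w hw hZw =>
    hnot (le_trans (le_inf hV2t (M.conj_le_cen (mem_map_conj.1 hw.2)))
      (M.control t ht htB w hw.1 hZw))
  have htI : t ∈ I := ⟨ht, htV2⟩
  have hI4 := M.card_le_four inf_le_left hIZ htI hab hco
  let A := V ⊓ centralizer ({x} : Set G)
  have hA : 2 ^ 6 ≤ Nat.card A := card_fixed_ge M.elem M.card hx hx2
  obtain ⟨u0, hu0, hu0Z⟩ : ∃ u0 ∈ A, Z u0 := by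
    by_contra hno
    push Not at hno
    have := M.card_le_four (I := A) inf_le_left hno
      ⟨ht, mem_cen.2 (hV2comm x hxV2 t htV2)⟩ hab hco
    omega
  have hu0t : u0 ∈ centralizer ({t} : Set G) := le_centralizer_of_mem M.elem ht hu0.1
  have hu0N : u0 ∈ normalizer (V2 : Set G) := hN2 u0 hu0t (mem_cen.1 hu0.2).symm
  let X := V2 ⊓ normalizer (V : Set G)
  have hX : 2 ^ 6 ≤ Nat.card X := by
    refine le_trans (card_fixed_ge hV2elem hV2card hu0N (elem_sq M.elem hu0.1))
      (Subgroup.card_le_of_le (le_inf inf_le_left ?_))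
    exact fun y hy => M.control t ht htB u0 hu0.1 hu0Z (Subgroup.mem_inf.2 ⟨hV2t hy.1, hy.2⟩)
  have hpx : x ∈ X := ⟨hxV2, hx⟩
  have hdich : ∀ y ∈ X, M.perm y = 1 ∨ M.perm y = M.perm x := by
    intro y hy
    have hyt : y * t = t * y := hV2comm y hy.1 t htV2
    have hyx : y * x = x * y := hV2comm y hy.1 x hxV2
    obtain ⟨hσa, hσb⟩ := M.perm_keeps ht hab hco hy.2 hyt
    have hy2 : y * y = 1 := elem_sq hV2elem hy.1
    refine eq_one_or_eq (M.perm_mem x hx) (M.perm_mem y hy.2) ?_ ?_ ?_ hab hσa hσb ?_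
    · rw [← M.perm_mul x hx x hx, hx2, M.perm_one]
    · rw [← M.perm_mul y hy.2 y hy.2, hy2, M.perm_one]
    · rw [← M.perm_mul y hy.2 x hx, hyx, M.perm_mul x hx y hy.2]
    intro p q hpq hfixed
    obtain ⟨v, hv, hvco⟩ := M.exists_co (pv_lt p q)
    have hvx : x * v * x⁻¹ = v := by
      refine M.co_inj _ ((Subgroup.mem_normalizer_iff.1 hx v).1 hv) v hv ?_
      rw [M.co_conj x hx v hv p q hvco, hfixed, hvco]
    have hvN : v ∈ normalizer (V2 : Set G) := by
      refine hN2 v (le_centralizer_of_mem M.elem ht hv) ?_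
      conv_lhs => rw [← hvx]
      group
    have hyv : y * v * y⁻¹ ∈ V := (Subgroup.mem_normalizer_iff.1 hy.2 v).1 hv
    have hdI : v * (y * v * y⁻¹) ∈ I := by
      refine ⟨V.mul_mem hv hyv, ?_⟩
      have h1 : v * y * v⁻¹ ∈ V2 := (Subgroup.mem_normalizer_iff.1 hvN y).1 hy.1
      have h2 := V2.mul_mem h1 (V2.inv_mem hy.1)
      have e : v * (y * v * y⁻¹) = v * y * v⁻¹ * y⁻¹ := by
        rw [elem_inv M.elem hv]; group
      rw [e]; exact h2
    have hcd : M.co (v * (y * v * y⁻¹)) = pv p q ^^^ pv (M.perm y p) (M.perm y q) := by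
      rw [M.co_mul v hv _ hyv, hvco, M.co_conj y hy.2 v hv p q hvco]
    obtain ⟨c, hca, hcb, htri⟩ := M.triangle inf_le_left hIZ htI hab hco
    have hfixc : ∀ e ∈ I, M.co e = pv a c ∨ M.co e = pv b c →
        M.perm y a = a ∧ M.perm y b = b ∧ M.perm y c = c := by
      intro e he hec
      have hye : y * e = e * y := hV2comm y hy.1 e he.2
      rcases hec with hec | hec
      · obtain ⟨k1, k2⟩ := M.perm_keeps he.1 (Ne.symm hca) hec hy.2 hye
        have ea : M.perm y a = a := by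
          rcases hσa with h | h
          · exact h
          rcases k1 with h' | h'
          · exact h'
          · exact absurd (h'.symm.trans h) hcb
        refine ⟨ea, hσb.resolve_left fun h => hab ((M.perm y).injective (ea.trans h.symm)),
          k2.resolve_left fun h => hca ((M.perm y).injective (h.trans ea.symm))⟩
      · obtain ⟨k1, k2⟩ := M.perm_keeps he.1 (Ne.symm hcb) hec hy.2 hye
        have eb : M.perm y b = b := by
          rcases hσb with h | h
          · rcases k1 with h' | h'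
            · exact h'
            · exact absurd (h'.symm.trans h) hca
          · exact h
        refine ⟨hσa.resolve_right fun h => hab ((M.perm y).injective (h.trans eb.symm)), eb,
          k2.resolve_left fun h => hcb ((M.perm y).injective (h.trans eb.symm))⟩
    have hcases := htri _ hdI
    rw [hcd] at hcases
    rcases hcases with h | h | h | h
    · exact Or.inl (Nat.eq_of_xor_eq_zero h).symm
    · refine Or.inr ?_
      rw [← h, ← Nat.xor_assoc, Nat.xor_self, Nat.zero_xor]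
    · exfalso
      obtain ⟨ea, -, ec⟩ := hfixc _ hdI (Or.inl (hcd.trans h))
      have h' : pv (M.perm y p) (M.perm y q) = pv p q ^^^ pv a c := by
        rw [← h, ← Nat.xor_assoc, Nat.xor_self, Nat.zero_xor]
      exact hca ((pair_moved (Ne.symm hca) hpq (Or.inl ea) (Or.inr ec) h').1.symm.trans ea)
    · exfalso
      obtain ⟨-, eb, ec⟩ := hfixc _ hdI (Or.inr (hcd.trans h))
      have h' : pv (M.perm y p) (M.perm y q) = pv p q ^^^ pv b c := by
        rw [← h, ← Nat.xor_assoc, Nat.xor_self, Nat.zero_xor]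
      exact hcb ((pair_moved (Ne.symm hcb) hpq (Or.inl eb) (Or.inr ec) h').1.symm.trans eb)
  classical
  have hmemI : ∀ y ∈ X, M.perm y = 1 → y ∈ I := fun y hy e =>
    ⟨(M.perm_eq_one y hy.2).1 e, hy.1⟩
  have hle : Nat.card X ≤ Nat.card (Bool × I) := by
    refine Nat.card_le_card_of_injective (fun y : X =>
      if h : M.perm y = 1 then (false, ⟨y, hmemI y y.2 h⟩)
      else (true, ⟨x * y, hmemI (x * y) (X.mul_mem hpx y.2) (by
        rw [M.perm_mul x hx y y.2.2, (hdich y y.2).resolve_left h, ← M.perm_mul x hx x hx, hx2,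
          M.perm_one])⟩)) ?_
    intro y y' e
    simp only at e
    split_ifs at e with h h'
    · exact Subtype.ext (congrArg (fun z : Bool × I => (z.2 : G)) e)
    · exact absurd (congrArg Prod.fst e) Bool.false_ne_true
    · exact absurd (congrArg Prod.fst e).symm Bool.false_ne_true
    · exact Subtype.ext (mul_left_cancel (congrArg (fun z : Bool × I => (z.2 : G)) e))
  rw [Nat.card_prod, Nat.card_eq_fintype_card (α := Bool), Fintype.card_bool] at hle
  have hI4' : Nat.card ↥I ≤ 4 := hI4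
  omega

/-- The dihedral argument in the centraliser of a subgroup `D` of `V`. -/
theorem centralizer_le [Finite G] (M : PairModel V Z) {t : G} (ht : t ∈ V)
    (htB : inB (M.co t) = true) {D : Subgroup G} (hD : D ≤ V) (htD : t ∈ D) {u1 u2 : G}
    (hu1 : u1 ∈ V) (hZ1 : Z u1) (hu2 : u2 ∈ V) (hZ2 : Z u2)
    (huniq : ∀ d ∈ D, Z (u1 * d) → d = 1) (htwo : ∃ d ∈ D, d ≠ 1 ∧ Z (u2 * d))
    (hrest : ∀ w ∈ V, w ∉ D → (∀ d ∈ D, ¬ Z (w * d)) →
      ∀ g ∈ centralizer (D : Set G), g * w * g⁻¹ * w⁻¹ ∈ D → g ∈ normalizer (V : Set G)) :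
    centralizer (D : Set G) ≤ normalizer (V : Set G) := by
  classical
  let L := centralizer (D : Set G)
  have hcd : ∀ {g d : G}, g ∈ L → d ∈ D → g * d = d * g := fun hg hd =>
    (Subgroup.mem_centralizer_iff.1 hg _ hd).symm
  have hVL : V ≤ L := fun v hv =>
    Subgroup.mem_centralizer_iff.2 fun d hd => elem_comm M.elem (hD hd) hv
  have hLt : L ≤ centralizer ({t} : Set G) := fun g hg => mem_cen.2 (hcd hg htD).symm
  let D' := D.subgroupOf L
  have : D'.Normal := ⟨fun n hn g => by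
    have hn' : (n : G) ∈ D := hn
    show (g : G) * n * (g : G)⁻¹ ∈ D
    rw [hcd g.2 hn', mul_assoc, mul_inv_cancel, mul_one]
    exact hn'⟩
  intro g hg
  let a : L := ⟨u1, hVL hu1⟩
  let v : L := ⟨g * u2 * g⁻¹, L.mul_mem (L.mul_mem hg (hVL hu2)) (L.inv_mem hg)⟩
  have hmk : ∀ p q : L, (p : L ⧸ D') = (q : L ⧸ D') ↔ (p : G)⁻¹ * q ∈ D := fun p q => by
    rw [QuotientGroup.eq, Subgroup.mem_subgroupOf]
    push_cast
    rfl
  obtain ⟨w', hw1, hwa, hwb, h', hh⟩ := dihedral (Q := L ⧸ D') (a := (a : L ⧸ D'))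
    (b := (v : L ⧸ D'))
    (by rw [← QuotientGroup.mk_mul, show a * a = 1 from Subtype.ext (elem_sq M.elem hu1)]; rfl)
    (by
      rw [← QuotientGroup.mk_mul, show v * v = 1 from Subtype.ext (by
        show g * u2 * g⁻¹ * (g * u2 * g⁻¹) = 1
        rw [show g * u2 * g⁻¹ * (g * u2 * g⁻¹) = g * (u2 * u2) * g⁻¹ by group,
          elem_sq M.elem hu2]; group)]
      rfl)
    (by
      intro q
      obtain ⟨⟨q, hq⟩, rfl⟩ := QuotientGroup.mk_surjective q
      intro e
      rw [← QuotientGroup.mk_inv, ← QuotientGroup.mk_mul, ← QuotientGroup.mk_mul, hmk] at e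
      obtain ⟨d0, hd0, hd01, hZd0⟩ := htwo
      set d := (q * u1 * q⁻¹)⁻¹ * (g * u2 * g⁻¹) with hd
      have hdD : d ∈ D := e
      set k := g⁻¹ * q with hk
      have hkL : k ∈ L := L.mul_mem (L.inv_mem hg) hq
      have h1 : u2 = k * (u1 * d) * k⁻¹ := by
        have e1 : g * u2 * g⁻¹ = q * u1 * q⁻¹ * d := by rw [hd]; group
        have e2 : q⁻¹ * d = d * q⁻¹ := hcd (L.inv_mem hq) hdD
        calc u2 = g⁻¹ * (g * u2 * g⁻¹) * g := by group
          _ = g⁻¹ * (q * u1 * (q⁻¹ * d)) * g := by rw [e1]; group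
          _ = g⁻¹ * (q * u1 * (d * q⁻¹)) * g := by rw [e2]
          _ = k * (u1 * d) * k⁻¹ := by rw [hk]; group
      have hZ' : ∀ {p : G}, Z (k * p * k⁻¹) → Z p := fun {p} hp => by
        have := M.Z_conj k⁻¹ _ hp
        rwa [show k⁻¹ * (k * p * k⁻¹) * k⁻¹⁻¹ = p by group] at this
      have hd1 : d = 1 := huniq d hdD (hZ' (h1 ▸ hZ2))
      refine hd01 (huniq d0 hd0 (hZ' (p := u1 * d0) ?_))
      have e2 : k⁻¹ * d0 = d0 * k⁻¹ := hcd (L.inv_mem hkL) hd0
      rw [h1, hd1, mul_one, mul_assoc, e2] at hZd0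
      rwa [show k * (u1 * d0) * k⁻¹ = k * u1 * (d0 * k⁻¹) by group])
  obtain ⟨⟨w, hwL⟩, rfl⟩ := QuotientGroup.mk_surjective w'
  obtain ⟨⟨h, hhL⟩, rfl⟩ := QuotientGroup.mk_surjective h'
  have hwN : w ∈ normalizer (V : Set G) := by
    simp only [← QuotientGroup.mk_mul, hmk] at hwa
    set d := (u1 * w)⁻¹ * (w * u1) with hd
    have hdD : d ∈ D := hwa
    have e1 : w * u1 * w⁻¹ = u1 * d := by
      have e2 : w * u1 = u1 * d * w := by
        calc w * u1 = u1 * (w * d) := by rw [hd]; group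
          _ = u1 * (d * w) := by rw [hcd hwL hdD]
          _ = u1 * d * w := by group
      rw [e2]; group
    have hd1 : d = 1 := huniq d hdD (e1 ▸ M.Z_conj w u1 hZ1)
    refine M.control t ht htB u1 hu1 hZ1 (Subgroup.mem_inf.2 ⟨hLt hwL, mem_cen.2 ?_⟩)
    calc u1 * w = u1 * w * d := by rw [hd1, mul_one]
      _ = w * u1 := by rw [hd]; group
  have hfin : ∀ y ∈ L, ∀ ui ∈ V, Z ui → (y * ui * y⁻¹)⁻¹ * (u1 * w) ∈ D → w ∈ V := by
    intro y hy ui hui hZi hmem
    have hN : y * ui * y⁻¹ ∈ normalizer (V : Set G) := by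
      have e : y * ui * y⁻¹ = u1 * w * ((y * ui * y⁻¹)⁻¹ * (u1 * w))⁻¹ := by group
      rw [e]
      exact Subgroup.mul_mem _ (Subgroup.mul_mem _ (V_le_normalizer hu1) hwN)
        (Subgroup.inv_mem _ (V_le_normalizer (hD hmem)))
    have hV := M.closed ht htB hui hZi (hLt hy) hN
    have e : w = u1⁻¹ * (y * ui * y⁻¹) * ((y * ui * y⁻¹)⁻¹ * (u1 * w)) := by group
    rw [e]
    exact V.mul_mem (V.mul_mem (V.inv_mem hu1) hV) (hD hmem)
  have hwV : w ∈ V := by
    simp only [← QuotientGroup.mk_inv, ← QuotientGroup.mk_mul, hmk] at hh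
    rcases hh with hh | hh
    · exact hfin h hhL u1 hu1 hZ1 hh
    · refine hfin (h * g) (L.mul_mem hhL hg) u2 hu2 hZ2 ?_
      rw [show h * g * u2 * (h * g)⁻¹ = h * (g * u2 * g⁻¹) * h⁻¹ by group]
      exact hh
  have hwD : w ∉ D := fun hw => hw1 ((QuotientGroup.eq_one_iff _).2 hw)
  set g2 := g * u2 * g⁻¹ with hg2
  have hg2L : g2 ∈ L := L.mul_mem (L.mul_mem hg (hVL hu2)) (L.inv_mem hg)
  have hg2w : g2 * w * g2⁻¹ * w⁻¹ ∈ D := by
    simp only [← QuotientGroup.mk_mul, hmk] at hwb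
    have hmem : (g2 * w)⁻¹ * (w * g2) ∈ D := hwb
    set d := (g2 * w)⁻¹ * (w * g2) with hd
    have hi : g2 * w = w * g2 * d⁻¹ := by rw [hd]; group
    have e : g2 * w * g2⁻¹ * w⁻¹ = d⁻¹ := by
      rw [hi, mul_assoc (w * g2) d⁻¹, ← hcd (L.inv_mem hg2L) (D.inv_mem hmem)]
      rw [show w * g2 * (g2⁻¹ * d⁻¹) * w⁻¹ = w * d⁻¹ * w⁻¹ by group,
        hcd (hVL hwV) (D.inv_mem hmem)]
      group
    rw [e]; exact D.inv_mem hmem
  have hg2N : g2 ∈ normalizer (V : Set G) := by
    by_cases hcase : ∀ d ∈ D, ¬ Z (w * d)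
    · exact hrest w hwV hwD hcase g2 hg2L hg2w
    · push Not at hcase
      obtain ⟨d, hd, hZd⟩ := hcase
      refine M.mem_normalizer ht htB (V.mul_mem hwV (hD hd)) hZd (hLt hg2L) ?_
      have e : g2 * (w * d) * g2⁻¹ = g2 * w * g2⁻¹ * w⁻¹ * w * d := by
        calc g2 * (w * d) * g2⁻¹ = g2 * w * (d * g2⁻¹) := by group
          _ = g2 * w * (g2⁻¹ * d) := by rw [hcd (L.inv_mem hg2L) hd]
          _ = g2 * w * g2⁻¹ * w⁻¹ * w * d := by group
      rw [e]
      exact V.mul_mem (V.mul_mem (hD hg2w) hwV) (hD hd)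
  exact M.mem_normalizer ht htB hu2 hZ2 (hLt hg) (M.closed ht htB hu2 hZ2 (hLt hg) hg2N)

/-- The elements of `V` with coordinates in a set closed under sums. -/
def sub (M : PairModel V Z) (S : ℕ → Prop) (h0 : S 0) (hx : ∀ i j, S i → S j → S (i ^^^ j)) :
    Subgroup G where
  carrier := {v | v ∈ V ∧ S (M.co v)}
  one_mem' := ⟨V.one_mem, by rw [M.co_one]; exact h0⟩
  mul_mem' := fun {p q} hp hq =>
    ⟨V.mul_mem hp.1 hq.1, by rw [M.co_mul p hp.1 q hq.1]; exact hx _ _ hp.2 hq.2⟩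
  inv_mem' := fun {p} hp => by rw [elem_inv M.elem hp.1]; exact hp

/-- The centraliser of two involutions of pair type meeting in a point. -/
theorem centralizer_pair_le [Finite G] (M : PairModel V Z) {t s : G} (ht : t ∈ V) (hs : s ∈ V)
    {a b c : GolayPt} (hab : a ≠ b) (hac : a ≠ c) (hbc : b ≠ c) (hco : M.co t = pv a b)
    (hcs : M.co s = pv a c) :
    centralizer ({t} : Set G) ⊓ centralizer ({s} : Set G) ≤ normalizer (V : Set G) := by
  have htB : inB (M.co t) = true := by rw [hco]; exact pv_inB hab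
  let S : ℕ → Prop := fun i => i = 0 ∨ i = pv a b ∨ i = pv a c ∨ i = pv b c
  have e1 : pv a b ^^^ pv a c = pv b c := pv_xor a b c
  have e2 : pv a b ^^^ pv b c = pv a c := by rw [pv_comm a b, pv_xor]
  have e3 : pv a c ^^^ pv b c = pv a b := by rw [pv_comm a c, pv_comm b c, pv_xor]
  have hSx : ∀ i j, S i → S j → S (i ^^^ j) := by
    rintro i j (rfl | rfl | rfl | rfl) (rfl | rfl | rfl | rfl) <;>
      simp [S, e1, e2, e3, Nat.xor_comm (pv a c) (pv a b), Nat.xor_comm (pv b c) (pv a b),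
        Nat.xor_comm (pv b c) (pv a c)]
  let D := M.sub S (Or.inl rfl) hSx
  have hDV : D ≤ V := fun v hv => hv.1
  have htD : t ∈ D := ⟨ht, Or.inr (Or.inl hco)⟩
  have hsD : s ∈ D := ⟨hs, Or.inr (Or.inr (Or.inl hcs))⟩
  obtain ⟨d, hda, hdb, hdc, -⟩ := exists_fresh a b c c
  obtain ⟨e, hea, heb, hec, hed⟩ := exists_fresh a b c d
  obtain ⟨u1, hu1, hu1c⟩ := M.exists_co (n := pv a b ^^^ pv c d)
    (Nat.xor_lt_two_pow (n := 11) (pv_lt a b) (pv_lt c d))
  obtain ⟨u2, hu2, hu2c⟩ := M.exists_co (n := pv a b ^^^ pv d e)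
    (Nat.xor_lt_two_pow (n := 11) (pv_lt a b) (pv_lt d e))
  have hZ1 : Z u1 :=
    M.Z_of_quad hu1 hab hac (Ne.symm hda) hbc (Ne.symm hdb) (Ne.symm hdc) hu1c
  have hZ2 : Z u2 :=
    M.Z_of_quad hu2 hab (Ne.symm hda) (Ne.symm hea) (Ne.symm hdb) (Ne.symm heb) (Ne.symm hed) hu2c
  refine le_trans ?_ (M.centralizer_le ht htB hDV htD hu1 hZ1 hu2 hZ2 ?_ ?_ ?_)
  · intro g hg
    refine Subgroup.mem_centralizer_iff.2 fun d hd => ?_
    have h1 : t * g = g * t := mem_cen.1 hg.1
    have h2 : s * g = g * s := mem_cen.1 hg.2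
    obtain ⟨hdV, e | e | e | e⟩ := hd
    · rw [M.co_inj d hdV 1 V.one_mem (by rw [e, M.co_one]), one_mul, mul_one]
    · rw [M.co_inj d hdV t ht (e.trans hco.symm)]; exact h1
    · rw [M.co_inj d hdV s hs (e.trans hcs.symm)]; exact h2
    · rw [M.co_inj d hdV (t * s) (V.mul_mem ht hs) (by rw [M.co_mul t ht s hs, hco, hcs, e1, e]),
        mul_assoc, h2, ← mul_assoc, h1, mul_assoc]
  · rintro x ⟨hxV, hx | hx | hx | hx⟩ hZ
    · exact M.co_inj x hxV 1 V.one_mem (by rw [hx, M.co_one])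
    · refine absurd hZ (M.not_Z_of_pair (V.mul_mem hu1 hxV) (Ne.symm hdc) ?_)
      rw [M.co_mul u1 hu1 x hxV, hu1c, hx, Nat.xor_comm (pv a b), Nat.xor_assoc, Nat.xor_self,
        Nat.xor_zero]
    · refine absurd hZ (M.not_Z_of_pair (V.mul_mem hu1 hxV) (Ne.symm hdb) ?_)
      rw [M.co_mul u1 hu1 x hxV, hu1c, hx, Nat.xor_comm (pv a b), Nat.xor_assoc, e1,
        Nat.xor_comm, pv_comm b c, pv_xor]
    · refine absurd hZ (M.not_Z_of_pair (V.mul_mem hu1 hxV) (Ne.symm hda) ?_)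
      rw [M.co_mul u1 hu1 x hxV, hu1c, hx, Nat.xor_comm (pv a b), Nat.xor_assoc, e2,
        Nat.xor_comm, pv_comm a c, pv_xor]
  · refine ⟨s, hsD, M.ne_one_of_inB (by rw [hcs]; exact pv_inB hac),
      M.Z_of_quad (V.mul_mem hu2 hs) hbc (Ne.symm hdb) (Ne.symm heb) (Ne.symm hdc) (Ne.symm hec)
        (Ne.symm hed) ?_⟩
    rw [M.co_mul u2 hu2 s hs, hu2c, hcs, Nat.xor_assoc, Nat.xor_comm (pv d e), ← Nat.xor_assoc, e1]
  · intro w hw hwD hno g _ _
    exfalso
    let S' : ℕ → Prop := fun i => S i ∨ S (i ^^^ M.co w)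
    let I := M.sub S' (Or.inl (Or.inl rfl)) (by
      rintro i j (hi | hi) (hj | hj)
      · exact Or.inl (hSx _ _ hi hj)
      · exact Or.inr (by have := hSx _ _ hi hj; rwa [← Nat.xor_assoc] at this)
      · refine Or.inr ?_
        have := hSx _ _ hi hj
        rwa [Nat.xor_assoc, Nat.xor_comm (M.co w) j, ← Nat.xor_assoc] at this
      · refine Or.inl ?_
        have := hSx _ _ hi hj
        rwa [Nat.xor_comm j, ← Nat.xor_assoc, Nat.xor_assoc i, Nat.xor_self, Nat.xor_zero] at this)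
    have hIZ : ∀ v ∈ I, ¬ Z v := by
      rintro v ⟨hv, (h | h | h | h) | h⟩
      · rw [M.co_inj v hv 1 V.one_mem (by rw [h, M.co_one])]; exact M.Z_ne
      · exact M.not_Z_of_pair hv hab h
      · exact M.not_Z_of_pair hv hac h
      · exact M.not_Z_of_pair hv hbc h
      · have hd : v * w ∈ D := ⟨V.mul_mem hv hw, by rw [M.co_mul v hv w hw]; exact h⟩
        have := hno _ hd
        rwa [elem_comm M.elem hw (V.mul_mem hv hw), mul_assoc, elem_sq M.elem hw, mul_one] at this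
    obtain ⟨c', hc'a, hc'b, hc'⟩ :=
      M.triangle (I := I) (fun v hv => hv.1) hIZ ⟨ht, Or.inl htD.2⟩ hab hco
    have hcc : c' = c := by
      rcases hc' s ⟨hs, Or.inl hsD.2⟩ with h | h | h | h <;> rw [hcs] at h
      · have := pv_inB hac
        rw [h, inB_zero] at this
        exact Bool.noConfusion this
      · exact absurd (pv_left_cancel h).symm hbc
      · exact (pv_left_cancel h).symm
      · have h' : Ends (pv b c') a := h ▸ ends_left hac
        rcases h'.eq_or (Ne.symm hc'b) with e' | e'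
        · exact absurd e' hab
        · exact absurd e'.symm hc'a
    subst hcc
    exact hwD ⟨hw, hc' w ⟨hw, Or.inr (by rw [Nat.xor_self]; exact Or.inl rfl)⟩⟩

/-- The centraliser of an involution of pair type lies in the normaliser of `V`. -/
theorem centralizer_second_le [Finite G] (M : PairModel V Z) {t : G} (ht : t ∈ V)
    (htB : inB (M.co t) = true) :
    centralizer ({t} : Set G) ≤ normalizer (V : Set G) := by
  obtain ⟨a, b, hab, hco⟩ := decode (M.co_lt t ht) htB
  let S : ℕ → Prop := fun i => i = 0 ∨ i = pv a b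
  let D := M.sub S (Or.inl rfl) (by
    rintro i j (rfl | rfl) (rfl | rfl) <;> simp [S])
  have hDV : D ≤ V := fun v hv => hv.1
  have htD : t ∈ D := ⟨ht, Or.inr hco⟩
  have ht1 : t ≠ 1 := M.ne_one_of_inB htB
  have hD : ∀ v ∈ D, v = 1 ∨ v = t := by
    rintro v ⟨hv, h | h⟩
    · exact Or.inl (M.co_inj v hv 1 V.one_mem (by rw [h, M.co_one]))
    · exact Or.inr (M.co_inj v hv t ht (h.trans hco.symm))
  obtain ⟨c, hca, hcb, -, -⟩ := exists_fresh a b a a
  obtain ⟨d, hda, hdb, hdc, -⟩ := exists_fresh a b c c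
  obtain ⟨e, hea, heb, hec, hed⟩ := exists_fresh a b c d
  obtain ⟨u1, hu1, hu1c⟩ := M.exists_co (n := pv a b ^^^ pv c d)
    (Nat.xor_lt_two_pow (n := 11) (pv_lt a b) (pv_lt c d))
  obtain ⟨u2, hu2, hu2c⟩ := M.exists_co (n := pv a c ^^^ pv d e)
    (Nat.xor_lt_two_pow (n := 11) (pv_lt a c) (pv_lt d e))
  have hZ1 : Z u1 := M.Z_of_quad hu1 hab (Ne.symm hca) (Ne.symm hda) (Ne.symm hcb)
    (Ne.symm hdb) (Ne.symm hdc) hu1c
  have hZ2 : Z u2 := M.Z_of_quad hu2 (Ne.symm hca) (Ne.symm hda) (Ne.symm hea) (Ne.symm hdc)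
    (Ne.symm hec) (Ne.symm hed) hu2c
  refine le_trans ?_ (M.centralizer_le ht htB hDV htD hu1 hZ1 hu2 hZ2 ?_ ?_ ?_)
  · intro g hg
    refine Subgroup.mem_centralizer_iff.2 fun v hv => ?_
    rcases hD v hv with rfl | rfl
    · rw [one_mul, mul_one]
    · exact mem_cen.1 hg
  · intro x hx hZ
    rcases hD x hx with rfl | rfl
    · rfl
    · refine absurd hZ (M.not_Z_of_pair (V.mul_mem hu1 ht) (Ne.symm hdc) ?_)
      rw [M.co_mul u1 hu1 _ ht, hu1c, hco, Nat.xor_comm (pv a b), Nat.xor_assoc, Nat.xor_self,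
        Nat.xor_zero]
  · refine ⟨t, htD, ht1, M.Z_of_quad (V.mul_mem hu2 ht) (Ne.symm hcb) (Ne.symm hdb) (Ne.symm heb)
      (Ne.symm hdc) (Ne.symm hec) (Ne.symm hed) ?_⟩
    rw [M.co_mul u2 hu2 t ht, hu2c, hco, Nat.xor_comm, ← Nat.xor_assoc, pv_xor]
  · intro w hw hwD hno g hg hgw
    have hw1 : w ≠ 1 := fun e => hwD (e ▸ D.one_mem)
    have hZw : ¬ Z w := by simpa using hno 1 D.one_mem
    have hwB : inB (M.co w) = true := M.inB_of_not hw hw1 hZw
    have hwt : w * t ≠ 1 := fun e => hwD (by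
      rw [eq_inv_of_mul_eq_one_left e]; exact D.inv_mem htD)
    have hwtB := M.inB_of_not (V.mul_mem hw ht) hwt (hno t htD)
    rw [M.co_mul w hw t ht, hco] at hwtB
    obtain ⟨p, hp1, hp2⟩ := share (M.co_lt w hw) (pv_lt a b) hwB (pv_inB hab) hwtB
    obtain ⟨q, hq, hwc⟩ := id hp1
    have hwne : M.co w ≠ M.co t := fun e => hwD (by rw [M.co_inj w hw t ht e]; exact htD)
    have hL3 : centralizer ({t} : Set G) ⊓ centralizer ({w} : Set G) ≤
        normalizer (V : Set G) := by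
      rcases hp2.eq_or hab with rfl | rfl
      · exact M.centralizer_pair_le ht hw hab (Ne.symm hq)
          (fun e => hwne (by rw [hwc, hco, e])) hco hwc
      · exact M.centralizer_pair_le ht hw (Ne.symm hab) (Ne.symm hq)
          (fun e => hwne (by rw [hwc, hco, e, pv_comm])) (hco.trans (pv_comm _ _)) hwc
    have hgt : g ∈ centralizer ({t} : Set G) :=
      mem_cen.2 (Subgroup.mem_centralizer_iff.1 hg t htD)
    refine mem_normalizer_of_map (M.conj_eq_of_le (le_trans ?_ hL3))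
    intro y hy
    have hyt : t * y = y * t := mem_cen.1 (M.conj_le_cen (by rw [conj_fix hgt]; exact ht) hy)
    have hyw : g * w * g⁻¹ * y = y * (g * w * g⁻¹) :=
      mem_cen.1 (M.conj_le_cen (by simpa [mul_assoc] using hw) hy)
    refine Subgroup.mem_inf.2 ⟨mem_cen.2 hyt, mem_cen.2 ?_⟩
    rcases hD _ hgw with h | h
    · rwa [mul_inv_eq_one.1 h] at hyw
    · rw [mul_inv_eq_iff_eq_mul.1 h] at hyw
      have h1 : t * (w * y) = t * (y * w) := by
        calc t * (w * y) = t * w * y := (mul_assoc _ _ _).symm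
          _ = y * (t * w) := hyw
          _ = y * t * w := (mul_assoc _ _ _).symm
          _ = t * y * w := by rw [hyt]
          _ = t * (y * w) := mul_assoc _ _ _
      exact mul_left_cancel h1

end PairModel

end CfsgLib.J4Type.NV
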