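import Cfsg.Agent.Lib.J4Type.NV.Second
import Cfsg.Agent.Lib.J4Type.NV.Control

/-!
The pair model of `V`, from the classes met by `V` and the action of its normaliser.
-/

set_option autoImplicit false

namespace CfsgLib.J4Type

open Cfsg Subgroup

namespace Frame

variable {G : Type*} [Group G] {z : G} {P : Subgroup G} {F : Frame z P} (D : VData F) [Finite G]

open Classical in
/-- The coordinate of an element of `V`. -/
noncomputable def coV (v : G) : ℕ := if h : v ∈ D.V then (exists_vE D h).choose else 0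

theorem coV_spec {v : G} (hv : v ∈ D.V) : coV D v < 2048 ∧ vE D (coV D v) = v := by
  rw [coV, dif_pos hv]
  exact (exists_vE D hv).choose_spec

theorem coV_vE {n : ℕ} (hn : n < 2048) : coV D (vE D n) = n :=
  vE_injOn D (coV_spec D (vE_mem D hn)).1 hn (coV_spec D (vE_mem D hn)).2

theorem coV_mul {v w : G} (hv : v ∈ D.V) (hw : w ∈ D.V) :
    coV D (v * w) = coV D v ^^^ coV D w := by
  obtain ⟨a1, a2⟩ := coV_spec D hv
  obtain ⟨b1, b2⟩ := coV_spec D hw
  conv_lhs => rw [← a2, ← b2, ← vE_xor D a1 b1]
  exact coV_vE D (Nat.xor_lt_two_pow (n := 11) a1 b1)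

omit [Finite G] in
/-- Two conjugates of `V` in one two-group coincide. -/
theorem conj_unique (g : G) (T : Subgroup G) (hT : IsPGroup 2 T) (hV : D.V ≤ T)
    (hg : D.V.map (MulAut.conj g).toMonoidHom ≤ T) :
    D.V.map (MulAut.conj g).toMonoidHom = D.V := by
  obtain ⟨S, hS⟩ := hT.exists_le_sylow
  have helem : IsElementaryAbelian 2 (D.V.map (MulAut.conj g).toMonoidHom) := by
    refine ⟨⟨⟨?_⟩⟩, ?_⟩
    · rintro ⟨_, a, ha, rfl⟩ ⟨_, b, hb, rfl⟩
      exact Subtype.ext (by
        show (MulAut.conj g) a * (MulAut.conj g) b = (MulAut.conj g) b * (MulAut.conj g) a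
        rw [← map_mul, ← map_mul, V_comm D ha hb])
    · rintro _ ⟨a, ha, rfl⟩
      rw [← map_pow, D.elem.2 a ha, map_one]
  have hcard : Nat.card ↥(D.V.map (MulAut.conj g).toMonoidHom) = 2 ^ 11 := by
    rw [← Nat.card_congr (Subgroup.equivMapOfInjective D.V _
      (MulAut.conj g).injective).toEquiv, D.card]
  exact D.unique S _ _ (hg.trans hS) (hV.trans hS) helem hcard D.elem D.card

theorem inB_zero' : NV.inB 0 = false := by decide +kernel

/-- The elements of pair type of `V` are not conjugate to the central involution, and conjugacy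
to the central involution in `V` is controlled by the normaliser; then centralisers meet inside
the normaliser. -/
theorem control_pair
    (hclass : ∀ n < 2048, n ≠ 0 → (IsConj z (vE D n) ↔ NV.inB n = false))
    (hctl : ∀ u ∈ D.V, IsConj z u → ∃ k ∈ normalizer (D.V : Set G), k * z * k⁻¹ = u)
    {t u : G} (ht : t ∈ D.V) (htB : NV.inB (coV D t) = true) (hu : u ∈ D.V) (huz : IsConj z u) :
    centralizer ({t} : Set G) ⊓ centralizer ({u} : Set G) ≤ normalizer (D.V : Set G) := by
  obtain ⟨k, hk, hku⟩ := hctl u hu huz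
  intro g hg
  have hgt : t * g = g * t := NV.mem_cen.1 hg.1
  have hgu : u * g = g * u := NV.mem_cen.1 hg.2
  have ht' : k⁻¹ * t * k ∈ D.V := by
    have := (Subgroup.mem_normalizer_iff.1 (inv_mem hk) t).1 ht
    rwa [inv_inv] at this
  obtain ⟨n1, n2⟩ := coV_spec D ht'
  obtain ⟨m1, m2⟩ := coV_spec D ht
  have hB : NV.inB (coV D (k⁻¹ * t * k)) = true := by
    cases hcase : NV.inB (coV D (k⁻¹ * t * k))
    · exfalso
      have hne : coV D (k⁻¹ * t * k) ≠ 0 := by
        intro e
        have h1 : k⁻¹ * t * k = 1 := by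
          rw [← n2, e]
          have := vE_xor D (show (0 : ℕ) < 2048 by norm_num) (show (0 : ℕ) < 2048 by norm_num)
          rw [Nat.xor_self] at this
          exact left_eq_mul.1 this
        have ht1 : t = 1 := by
          calc t = k * (k⁻¹ * t * k) * k⁻¹ := by group
            _ = 1 := by rw [h1]; group
        have e0 : coV D t = 0 := by
          have := coV_mul D (one_mem D.V) (one_mem D.V)
          rw [one_mul, Nat.xor_self] at this
          rw [ht1, this]
        rw [e0, inB_zero'] at htB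
        exact Bool.noConfusion htB
      have hz := (hclass _ n1 hne).2 hcase
      rw [n2] at hz
      have hzt : IsConj z t :=
        hz.trans (isConj_iff.2 ⟨k, by group⟩)
      have hne' : coV D t ≠ 0 := fun e => by rw [e, inB_zero'] at htB; exact Bool.noConfusion htB
      have := (hclass _ m1 hne').1 (m2.symm ▸ hzt)
      rw [htB] at this
      exact Bool.noConfusion this
    · rfl
  have hh : k⁻¹ * g * k ∈ Cen z := by
    refine NV.mem_cen.2 ?_
    calc z * (k⁻¹ * g * k) = k⁻¹ * (k * z * k⁻¹ * g) * k := by group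
      _ = k⁻¹ * (g * (k * z * k⁻¹)) * k := by rw [hku, hgu]
      _ = k⁻¹ * g * k * z := by group
  have hn := mem_norm_of_vE D hh n1 hB (by
    rw [n2]
    calc k⁻¹ * g * k * (k⁻¹ * t * k) = k⁻¹ * (g * t) * k := by group
      _ = k⁻¹ * (t * g) * k := by rw [hgt]
      _ = k⁻¹ * t * k * (k⁻¹ * g * k) := by group)
  have e : g = k * (k⁻¹ * g * k) * k⁻¹ := by group
  rw [e]
  exact mul_mem (mul_mem hk hn) (inv_mem hk)

/-- The pair model. -/
theorem exists_pairModel
    (hclass : ∀ n < 2048, n ≠ 0 → (IsConj z (vE D n) ↔ NV.inB n = false))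
    (hctl : ∀ u ∈ D.V, IsConj z u → ∃ k ∈ normalizer (D.V : Set G), k * z * k⁻¹ = u)
    (hgood : ∀ g ∈ normalizer (D.V : Set G),
      NV.GoodMap fun n => coV D (g * vE D n * g⁻¹)) :
    ∃ M : NV.PairModel D.V (fun x => IsConj z x), ∀ v ∈ D.V, M.co v = coV D v := by
  classical
  have hconj : ∀ g ∈ normalizer (D.V : Set G), ∀ v ∈ D.V, g * v * g⁻¹ ∈ D.V :=
    fun g hg v hv => (Subgroup.mem_normalizer_iff.1 hg v).1 hv
  obtain ⟨φ, hφ, hker⟩ := NV.exists_hom (N := ↥(normalizer (D.V : Set G)))
    (fun g n => coV D ((g : G) * vE D n * (g : G)⁻¹)) (fun g => hgood g g.2) fun g h n hn => by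
      show coV D ((g : G) * h * vE D n * ((g : G) * h)⁻¹) =
        coV D ((g : G) * vE D (coV D ((h : G) * vE D n * (h : G)⁻¹)) * (g : G)⁻¹)
      rw [(coV_spec D (hconj h h.2 _ (vE_mem D hn))).2]
      congr 1
      group
  refine ⟨{
    elem := D.elem
    card := D.card
    co := coV D
    co_lt := fun v hv => (coV_spec D hv).1
    co_mul := fun v hv w hw => coV_mul D hv hw
    co_inj := fun v hv w hw e => by rw [← (coV_spec D hv).2, e, (coV_spec D hw).2]
    perm := fun g => if h : g ∈ normalizer (D.V : Set G) then (φ ⟨g, h⟩ : Equiv.Perm GolayPt) else 1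
    perm_mem := fun n hn => by simp only [dif_pos hn]; exact (φ ⟨n, hn⟩).2
    perm_mul := fun m hm n hn => by
      simp only [dif_pos hm, dif_pos hn, dif_pos (mul_mem hm hn)]
      exact congrArg Subtype.val (φ.map_mul ⟨m, hm⟩ ⟨n, hn⟩)
    perm_eq_one := ?_
    co_conj := fun n hn v hv p q e => by
      simp only [dif_pos hn]
      have h1 := hφ ⟨n, hn⟩ p q
      have h2 : v = vE D (NV.pv p q) := by rw [← e, (coV_spec D hv).2]
      rw [h2]
      exact h1
    co_Z := fun v hv hv1 => by
      obtain ⟨a1, a2⟩ := coV_spec D hv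
      have hne : coV D v ≠ 0 := fun e => hv1 (by
        rw [← a2, e]
        have := vE_xor D (show (0 : ℕ) < 2048 by norm_num) (show (0 : ℕ) < 2048 by norm_num)
        rw [Nat.xor_self] at this
        exact left_eq_mul.1 this)
      have := hclass _ a1 hne
      rwa [a2] at this
    Z_conj := fun g x hx => hx.trans (isConj_iff.2 ⟨g, rfl⟩)
    Z_ne := fun h => by
      obtain ⟨c, hc⟩ := isConj_iff.1 h
      exact F.z_ne (by
        calc z = c⁻¹ * (c * z * c⁻¹) * c := by group
          _ = 1 := by rw [hc]; group)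
    control := fun t ht htB u hu huz => control_pair D hclass hctl ht htB hu huz
    unique := conj_unique D }, fun v _ => rfl⟩
  intro n hn
  simp only [dif_pos hn]
  constructor
  · intro e
    have e' : φ ⟨n, hn⟩ = 1 := Subtype.ext e
    have hfix := (hker ⟨n, hn⟩).1 e'
    refine D.cent_le (Subgroup.mem_centralizer_iff.2 fun v hv => ?_)
    obtain ⟨a1, a2⟩ := coV_spec D hv
    have h1 := hfix _ a1
    simp only [a2] at h1
    have h2 : n * v * n⁻¹ = v := by
      rw [← (coV_spec D (hconj n hn v hv)).2, h1, a2]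
    calc v * n = n * v * n⁻¹ * n := by rw [h2]
      _ = n * v := by group
  · intro hnV
    have : φ ⟨n, hn⟩ = 1 := (hker ⟨n, hn⟩).2 fun v hv => by
      show coV D (n * vE D v * n⁻¹) = v
      rw [V_comm D hnV (vE_mem D hv), mul_inv_cancel_right, coV_vE D hv]
    rw [this]
    rfl

end Frame

end CfsgLib.J4Type
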