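import Cfsg.Agent.Lib.J4Type.NV.Data

/-! Data for the complement: the semilinear involution on the upper radical, and for six involutions
of the normaliser their permutations, conjugating elements and representatives in the radical. -/

set_option autoImplicit false
set_option maxRecDepth 10000

namespace CfsgLib.J4Type.NV

/-- Conjugation by the semilinear involution on the upper radical. -/
def cjSig : List ℕ := [0, 1, 8, 9, 4, 5, 12, 13, 2, 3, 10, 11, 6, 7, 14, 15]

/-- Words for the conjugates of the Levi generators by the semilinear involution. -/
def sigWords : List (List ℕ) := [[1, 0, 2, 2, 1, 0, 0], [0, 1, 2, 2, 0], [0, 0, 2, 0, 1, 1, 2]]

/-- Word of the first Levi involution. -/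
def wdA : List ℕ := [1, 2, 1, 2]

/-- Word of the second Levi involution. -/
def wdB : List ℕ := [2, 1, 0, 2, 2]

/-- The six items: encoded permutation, conjugating element, radical code, its permutation. -/
def sixData : List (ℕ × ℕ × ℕ × ℕ) :=
  [(958004891209514493074417376855349429, 929083154677781873913183797379702945, 1, 652497062537390746447746217172641793),
   (486348465918213046381104071381730512, 254724762540952305661711770464651571, 1, 652497062537390746447746217172641793),
   (964616954067369938946725396199687376, 760164554748936551119483194691716177, 1, 652497062537390746447746217172641793),
   (485707480960449247535967571696289793, 148691153555361516743307145093645493, 1, 652497062537390746447746217172641793),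
   (459583729574031553317011024188234405, 419930302631983724382625588334337586, 22, 384452262203197515388526011138311242),
   (984155015085409247711592948333430278, 430555131032813085525037615375175333, 1, 652497062537390746447746217172641793)]

end CfsgLib.J4Type.NV
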